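import Cfsg.Agent.Omega.NO3S.Pt.LemD

/-!
# NO-3S, `|V| = 4`, `n ≥ 2`: the world W0 (`N_p ≠ p`), definitions (helper56 #21024)

* `NoOv V` : (NO) for the groups `M_q = W_q/⟨q⟩` (from (ML): `TwoFar.gdat` + `MLK.grp`);
* `Wz T V z n` : the world: (NO); no `x ∼ p` is moved to `p x` by some `f ∈ W_q`, `(p, q)` critical; no mover
  `(x, f)`, `x = r^h`, `h` of odd order inverted by `f ∈ W_q`, `r` the neighbour of `p`, has (D), i.e.
  `W_x ∩ W_{x^f} ≤ W_p`;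
* `Can V NV` : a system of canonical vectors: `NV x L c` = "`c ∈ N_x` is a canonical vector of the flag `(x, L)`";
* `One V NV n` : (1) of #21024, `Five V NV n` : (5) of #21024.
-/

set_option autoImplicit false

namespace Cfsg.Agent.Omega.NO3S.WZero

open Subgroup Cfsg Cfsg.Agent.ZN Cfsg.Agent.MinSimple.Geo Cfsg.Agent.Omega.CaseL Cfsg.Agent.Omega.NO3S.TwoOne
open Cfsg.Agent.Omega.NO3S.Pt
open Cfsg.Agent.Omega.NO3S.Dual (nn mem_nn DW)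

universe u

variable {G : Type u} [Group G]

/-- **(NO)**: for every line `L = cj g V` on `q` and every elementary abelian `A ≤ O₂(C_G(L))`:
`|A : C_A(M_q)| ≤ |M_q : C_{M_q}(A)|`, `M_q = W_q/⟨q⟩`. -/
def NoOv (V : Subgroup G) : Prop :=
  ∀ g q : G, q ∈ cj g V → q ≠ 1 → ∀ A : Subgroup G, A ≤ o2 (centralizer ((cj g V : Subgroup G) : Set G)) →
    (∀ a ∈ A, a * a = 1) →
    ∀ N C : Subgroup G, (∀ a, a ∈ N ↔ a ∈ A ∧ ∀ u ∈ ws V q, a * u * a⁻¹ * u⁻¹ ∈ zpowers q) →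
      (∀ u, u ∈ C ↔ u ∈ ws V q ∧ ∀ a ∈ A, a * u * a⁻¹ * u⁻¹ ∈ zpowers q) →
      N.relIndex A ≤ C.relIndex (ws V q)

/-- **the world W0** (without `N_z ≠ ⟨z⟩`) -/
structure Wz (T V : Subgroup G) (z : G) (n : ℕ) : Prop where
  fr : Fr T V z
  two : 2 ≤ n
  noov : NoOv V
  nosw : ∀ p q, Cr V n p q → ∀ x f, Col V p x → x ≠ p → f ∈ ws V q → f * x * f⁻¹ ≠ p * x
  noD : ∀ p q r, Cr V n p q → Col V p r → r ≠ p → Pth V (n - 1) r q → ∀ f h, f ∈ ws V q → h * p = p * h →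
    Odd (orderOf h) → f * h * f⁻¹ = h⁻¹ → h ≠ 1 → f * (h * r * h⁻¹) * f⁻¹ ≠ h * r * h⁻¹ →
    ¬ (ws V (h * r * h⁻¹) ⊓ ws V (f * (h * r * h⁻¹) * f⁻¹) ≤ ws V p)

/-- a system of canonical vectors; the lines are the `cj g V` -/
structure Can (V : Subgroup G) (NV : G → Subgroup G → G → Prop) : Prop where
  /-- existence, for every flag -/
  ex : ∀ {g x : G}, x ∈ cj g V → x ≠ 1 → ∃ c, NV x (cj g V) c
  /-- equivariance -/
  conj : ∀ {x : G} {L : Subgroup G} {c : G} (g : G), NV x L c → NV (g * x * g⁻¹) (cj g L) (g * c * g⁻¹)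
  /-- `n_{x,L} ∈ N_x` -/
  mem : ∀ {x : G} {L : Subgroup G} {c : G}, NV x L c → c ∈ nn (ws V x) (kq V x)
  /-- unique modulo `⟨x⟩` -/
  uniq : ∀ {x : G} {L : Subgroup G} {c c' : G}, NV x L c → NV x L c' → c' = c ∨ c' = x * c
  mulx : ∀ {x : G} {L : Subgroup G} {c : G}, NV x L c → NV x L (x * c)
  /-- `n_{x,L} ∉ ⟨x⟩` -/
  nin : ∀ {x : G} {L : Subgroup G} {c : G}, NV x L c → c ∉ zpowers x
  /-- `ν = n_{x,L} y` depends only on `y N_x` -/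
  shift : ∀ {x : G} {g g' c c' y y' : G}, NV x (cj g V) c → NV x (cj g' V) c' → x ∈ cj g V → x ∈ cj g' V →
    y ∈ cj g V → y' ∈ cj g' V → y ∉ zpowers x → y' ∉ zpowers x →
    y * y' ∈ nn (ws V x) (kq V x) → c * c' * (y * y') ∈ zpowers x

/-- **(1)**: `n_{y,L}` commutes with `W_q` if `L` has a point at distance `< n` from `q` -/
def One (V : Subgroup G) (NV : G → Subgroup G → G → Prop) (n : ℕ) : Prop :=
  ∀ g q r y c : G, r ∈ cj g V → r ≠ 1 → (∃ k < n, Pth V k q r) → y ∈ cj g V → y ≠ 1 → NV y (cj g V) c →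
    ∀ b ∈ ws V q, b * c = c * b

/-- **(5)**: `f ∈ N_q`, `x ∼ p`, `x ∉ W_q`: `n_x n_x^f ∈ W_p`, `n_x = n_{x,px}` -/
def Five (V : Subgroup G) (NV : G → Subgroup G → G → Prop) (n : ℕ) : Prop :=
  ∀ p q f g x c : G, Cr V n p q → f ∈ nn (ws V q) (kq V q) → p ∈ cj g V → x ∈ cj g V → x ≠ 1 → x ≠ p →
    x ∉ ws V q → NV x (cj g V) c → c * (f * c * f⁻¹) ∈ ws V p

/-- **LEMMA S0**, (6) of #21024 -/
def SZero (V : Subgroup G) (NV : G → Subgroup G → G → Prop) : Prop :=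
  ∀ p x x' g g' c c' : G, p ∈ cj g V → x ∈ cj g V → p ∈ cj g' V → x' ∈ cj g' V → p ≠ 1 → x ≠ 1 → x' ≠ 1 →
    x ≠ p → x' ≠ p → x' ≠ x → x' ≠ p * x → x * x' ∈ nn (ws V p) (kq V p) →
    NV x (cj g V) c → NV x' (cj g' V) c' → c * c' ∉ ws V p

end Cfsg.Agent.Omega.NO3S.WZero
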