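import Cfsg.Agent.Omega.NOThree.TF.MdEx
import Cfsg.Agent.Omega.NO3S.WZero.Def

/-!
# NO-3S, `|V_P| = 4`, the world `N_p ≠ p`: the canonical vector of a flag (helper56 #21024 (0))

* `exists_fib` : an odd orbit in a coset `λ + N` gives `n = λ + ∑ ∈ N` with `n^s + n = λ^s + λ` for all
  `s ∈ Stab(λ + N)`;
* `Base V z a` : `a ∈ N_z - ⟨z⟩`, `a^s a ≡ v^s v` modulo `z` for all `s ∈ C(z)` with `v^s v ∈ N_z` (`v ∈ V - ⟨z⟩`);
* `exists_base` : it exists if `v^s v ∈ N_z - ⟨z⟩` for some `s`;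
* `nv V z a` : the canonical vectors; `can` : they form a system `Can V`.
-/

set_option autoImplicit false
set_option linter.unusedSectionVars false
set_option maxHeartbeats 400000

namespace Cfsg.Agent.Omega.NO3S.WZero

open Subgroup Cfsg Cfsg.Agent.ZN Cfsg.Agent.MinSimple.Geo Cfsg.Agent.Omega.CaseL Cfsg.Agent.Omega.NO3S.TwoOne
open Cfsg.Agent.Omega.NO3S.Pt
open Cfsg.Agent.Omega.NO3S.Dual (nn mem_nn)
open Cfsg.Agent.Omega.NOThree.TF (Md conj_mem_ws_of_mem MM pim md_MM)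
open Cfsg.Agent.ZN.Block (conj_mem_of_normalizer conj_mem_of_normalizer' le_normalizer_of_forall
  mem_normalizer_of)

universe u

namespace Canon

section fib

variable {H M : Type*} [Group H] [AddCommGroup M] [DistribMulAction H M]

/-- the stabilizer of the coset `λ + N` -/
def stc (h2 : ∀ m : M, m + m = 0) (N : AddSubgroup M) (hN : ∀ s : H, ∀ m ∈ N, s • m ∈ N) (lam : M) : Subgroup H where
  carrier := {s | s • lam + lam ∈ N}
  one_mem' := by
    change (1 : H) • lam + lam ∈ N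
    rw [one_smul, h2]
    exact N.zero_mem
  mul_mem' := by
    intro s t (hs : s • lam + lam ∈ N) (ht : t • lam + lam ∈ N)
    change (s * t) • lam + lam ∈ N
    have h1 := N.add_mem (hN s _ ht) hs
    have e : s • (t • lam + lam) + (s • lam + lam) = (s * t) • lam + lam := by
      rw [smul_add, mul_smul]
      calc s • t • lam + s • lam + (s • lam + lam) = s • t • lam + (s • lam + s • lam) + lam := by abel
        _ = s • t • lam + lam := by rw [h2, add_zero]
    rwa [e] at h1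
  inv_mem' := by
    intro s (hs : s • lam + lam ∈ N)
    change s⁻¹ • lam + lam ∈ N
    have h1 := hN s⁻¹ _ hs
    rw [smul_add, inv_smul_smul, add_comm] at h1
    exact h1

theorem mem_stc {h2 : ∀ m : M, m + m = 0} {N : AddSubgroup M} {hN : ∀ s : H, ∀ m ∈ N, s • m ∈ N} {lam : M} {s : H} :
    s ∈ stc h2 N hN lam ↔ s • lam + lam ∈ N := Iff.rfl

/-- **the canonical vector** of the coset `λ + N` -/
theorem exists_fib [Finite H] [Finite M] (h2 : ∀ m : M, m + m = 0) (N : AddSubgroup M)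
    (hN : ∀ s : H, ∀ m ∈ N, s • m ∈ N) (lam : M) (T : Subgroup H) (hT : ∀ t ∈ T, t • lam = lam)
    (hT2 : ¬ 2 ∣ T.index) :
    ∃ n ∈ N, ∀ s : H, s • lam + lam ∈ N → s • n + n = s • lam + lam := by
  classical
  set St := stc h2 N hN lam with hSt
  have hfin : Fintype M := Fintype.ofFinite M
  set F : Finset M := (MulAction.orbit St lam).toFinset with hF
  have hmem : ∀ m, m ∈ F ↔ ∃ s ∈ St, s • lam = m := by
    intro m
    rw [hF, Set.mem_toFinset, MulAction.mem_orbit_iff]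
    constructor
    · rintro ⟨s, rfl⟩; exact ⟨s, s.2, rfl⟩
    · rintro ⟨s, hs, rfl⟩; exact ⟨⟨s, hs⟩, rfl⟩
  -- the orbit is odd
  have hodd : ¬ 2 ∣ F.card := by
    have h1 : F.card = (MulAction.stabilizer St lam).index := by
      rw [MulAction.index_stabilizer, Set.ncard_eq_toFinset_card']
    rw [h1]
    intro hd
    have hTle : T ≤ St := fun t ht => mem_stc.2 (by rw [hT t ht, h2]; exact N.zero_mem)
    have h3 : T.subgroupOf St ≤ MulAction.stabilizer St lam := by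
      intro t ht
      rw [MulAction.mem_stabilizer_iff]
      exact hT t (mem_subgroupOf.1 ht)
    have h4 : (MulAction.stabilizer St lam).index ∣ T.relIndex St := Subgroup.index_dvd_of_le h3
    have h5 : T.relIndex St ∣ T.index := Subgroup.relIndex_dvd_index_of_le hTle
    exact hT2 (hd.trans (h4.trans h5))
  have hperm : ∀ s ∈ St, s • ∑ m ∈ F, m = ∑ m ∈ F, m := by
    intro s hs
    rw [Finset.smul_sum]
    refine Finset.sum_bij (fun m _ => s • m) ?_ ?_ ?_ ?_
    · intro m hm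
      obtain ⟨t, ht, rfl⟩ := (hmem m).1 hm
      exact (hmem _).2 ⟨s * t, mul_mem hs ht, by rw [mul_smul]⟩
    · intro a _ b _ e
      exact smul_left_cancel s e
    · intro m hm
      obtain ⟨t, ht, rfl⟩ := (hmem m).1 hm
      exact ⟨s⁻¹ • t • lam, (hmem _).2 ⟨s⁻¹ * t, mul_mem (inv_mem hs) ht, by rw [mul_smul]⟩, smul_inv_smul s _⟩
    · intro m _; rfl
  have hsum : lam + ∑ m ∈ F, m ∈ N := by
    have h1 : ∑ m ∈ F, (m + lam) ∈ N := N.sum_mem fun m hm => by
      obtain ⟨t, ht, rfl⟩ := (hmem m).1 hm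
      exact ht
    rw [Finset.sum_add_distrib, Finset.sum_const] at h1
    have h3 : F.card • lam = lam := by
      obtain ⟨k, hk⟩ := Nat.odd_iff.2 (by omega : F.card % 2 = 1)
      have h5 : (2 * k) • lam = 0 := by rw [mul_nsmul, two_nsmul, h2, smul_zero]
      rw [hk, add_nsmul, one_nsmul, h5, zero_add]
    rw [h3, add_comm] at h1
    exact h1
  refine ⟨lam + ∑ m ∈ F, m, hsum, fun s hs => ?_⟩
  rw [smul_add, hperm s hs]
  calc s • lam + ∑ m ∈ F, m + (lam + ∑ m ∈ F, m) = s • lam + lam + (∑ m ∈ F, m + ∑ m ∈ F, m) := by abel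
    _ = s • lam + lam := by rw [h2, add_zero]

end fib

variable {G : Type u} [Group G] {T V : Subgroup G} {z : G}

theorem conj_mem_nn {V : Subgroup G} {x a : G} (g : G) (ha : a ∈ nn (ws V x) (kq V x)) :
    g * a * g⁻¹ ∈ nn (ws V (g * x * g⁻¹)) (kq V (g * x * g⁻¹)) := by
  obtain ⟨h1, h2⟩ := mem_nn.1 ha
  refine mem_nn.2 ⟨conj_mem_ws g h1, fun k hk => ?_⟩
  rw [← cj_kq, mem_cj] at hk
  have h3 := h2 _ hk
  calc k * (g * a * g⁻¹) = g * ((g⁻¹ * k * g) * a) * g⁻¹ := by group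
    _ = g * (a * (g⁻¹ * k * g)) * g⁻¹ := by rw [h3]
    _ = g * a * g⁻¹ * k := by group

theorem conj_of_cent {x g : G} (hg : g ∈ centralizer ({x} : Set G)) : g * x * g⁻¹ = x := by
  rw [mem_centralizer_singleton_iff.1 hg]; group

/-- the canonical vector of the base flag -/
structure Base (V : Subgroup G) (z a : G) : Prop where
  mem : a ∈ nn (ws V z) (kq V z)
  nin : a ∉ zpowers z
  shift : ∀ s ∈ centralizer ({z} : Set G), ∀ v ∈ V, v ∉ zpowers z → s * v * s⁻¹ * v ∈ nn (ws V z) (kq V z) →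
    s * a * s⁻¹ * a * (s * v * s⁻¹ * v) ∈ zpowers z

/-- a lift `n_{x,L}` -/
def nv (V : Subgroup G) (z a x : G) (L : Subgroup G) (c : G) : Prop :=
  ∃ g, cj g V = L ∧ g * z * g⁻¹ = x ∧ (c = g * a * g⁻¹ ∨ c = x * (g * a * g⁻¹))

section

variable (h : Fr T V z)
include h

theorem z_mem_nn : z ∈ nn (ws V z) (kq V z) := mem_nn.2 ⟨h.mem_ws_self h.col_z, fun k hk =>
  mem_centralizer_singleton_iff.1 (kq_le_centralizer V z hk)⟩

theorem nmem_zpowers {v : G} (hv : v ∉ zpowers z) : v ≠ 1 ∧ v ≠ z :=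
  ⟨fun e => hv (e ▸ one_mem _), fun e => hv (e ▸ mem_zpowers z)⟩

/-- membership in `⟨z⟩` by the module `M_z` -/
theorem mem_zpowers_iff_π {w : G} (hw : w ∈ ws V z) : w ∈ zpowers z ↔ pim V z w = 0 := by
  rw [mem_zpowers_iff_of_mul_self h.ln.zz, (md_MM h h.col_z).ker w hw]

/-- **the canonical vector of the base flag** -/
theorem exists_base [Finite G] (hF : ∃ g ∈ centralizer ({z} : Set G), ∃ y ∈ V, y ∉ zpowers z ∧
    y * (g * y * g⁻¹) ∈ nn (ws V z) (kq V z) ∧ y * (g * y * g⁻¹) ∉ zpowers z) : ∃ a, Base V z a := by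
  obtain ⟨g, hg, y, hy, hyz, h1, h2⟩ := hF
  have md := md_MM h h.col_z
  have hab := h.ws_comm h.col_z
  have hVw : V ≤ ws V z := h.V_le h.ln.z_mem h.ln.z_ne
  have hyw := hVw hy
  obtain ⟨hy1, hyz'⟩ := nmem_zpowers h hyz
  have hfin : Finite (MM V z) := Finite.of_surjective (fun a : ws V z => pim V z a) fun m => by
    obtain ⟨a, ha, e⟩ := md.surj m
    exact ⟨⟨a, ha⟩, e⟩
  -- the submodule
  let N : AddSubgroup (MM V z) :=
    { carrier := {m | ∃ b ∈ nn (ws V z) (kq V z), pim V z b = m}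
      zero_mem' := ⟨1, one_mem _, md.map_one⟩
      add_mem' := by
        rintro _ _ ⟨b, hb, rfl⟩ ⟨c, hc, rfl⟩
        exact ⟨b * c, mul_mem hb hc, md.map_mul b (mem_nn.1 hb).1 c (mem_nn.1 hc).1⟩
      neg_mem' := by
        rintro _ ⟨b, hb, rfl⟩
        exact ⟨b, hb, (md.neg_eq h h.col_z _).symm⟩ }
  have hN : ∀ m, m ∈ N ↔ ∃ b ∈ nn (ws V z) (kq V z), pim V z b = m := fun m => Iff.rfl
  have hNi : ∀ s : centralizer ({z} : Set G), ∀ m ∈ N, s • m ∈ N := by
    rintro s _ ⟨b, hb, rfl⟩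
    refine ⟨s * b * (s : G)⁻¹, ?_, md.smul s b (mem_nn.1 hb).1⟩
    have h3 := conj_mem_nn (s : G) hb
    rwa [conj_of_cent s.2] at h3
  -- membership
  have hNm : ∀ w ∈ ws V z, pim V z w ∈ N ↔ w ∈ nn (ws V z) (kq V z) := by
    intro w hw
    constructor
    · rintro ⟨b, hb, e⟩
      rcases (md.eq_iff h h.col_z (mem_nn.1 hb).1 hw).1 e with e | e
      · rw [← e]; exact hb
      · have : w = z * b := by rw [e, ← mul_assoc, h.ln.zz, one_mul]
        rw [this]
        exact mul_mem (z_mem_nn h) hb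
    · intro hb; exact ⟨w, hb, rfl⟩
  obtain ⟨m, hm, hms⟩ := exists_fib (md.two h h.col_z) N hNi (pim V z y) (T.subgroupOf (centralizer ({z} : Set G)))
    (by
      intro t ht
      have ht' : (t : G) ∈ T := mem_subgroupOf.1 ht
      have h3 : (t : G) * y * (t : G)⁻¹ ∈ V := conj_mem_of_normalizer le_rfl (h.ln.T_norm ht') hy
      rw [← md.smul t y hyw, md.eq_iff h h.col_z (hVw h3) hyw]
      rcases h.ln.conj_cases h.ln.z_mem hy h.ln.z_ne (mem_centralizer_singleton_iff.1 t.2) (h.ln.T_norm ht') with e | e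
      · exact Or.inl e
      · exact Or.inr e) h.ln.T_syl
  obtain ⟨a, ha, rfl⟩ := (hN _).1 hm
  have haw := (mem_nn.1 ha).1
  -- shift for `y`
  have key : ∀ s ∈ centralizer ({z} : Set G), s * y * s⁻¹ * y ∈ nn (ws V z) (kq V z) →
      s * a * s⁻¹ * a * (s * y * s⁻¹ * y) ∈ zpowers z := by
    intro s hs hsy
    have hsw : s * y * s⁻¹ ∈ ws V z := conj_mem_ws_of_mem hs hyw
    have hsa : s * a * s⁻¹ ∈ ws V z := conj_mem_ws_of_mem hs haw
    have h3 := hms ⟨s, hs⟩ (by
      rw [← md.smul ⟨s, hs⟩ y hyw, ← md.map_mul _ hsw _ hyw]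
      exact (hNm _ (mul_mem hsw hyw)).2 hsy)
    rw [← md.smul ⟨s, hs⟩ y hyw, ← md.smul ⟨s, hs⟩ a haw, ← md.map_mul _ hsw _ hyw, ← md.map_mul _ hsa _ haw] at h3
    rw [mem_zpowers_iff_π h (mul_mem (mul_mem hsa haw) (mul_mem hsw hyw)),
      md.map_mul _ (mul_mem hsa haw) _ (mul_mem hsw hyw), h3, md.two h h.col_z]
  have hshift : ∀ s ∈ centralizer ({z} : Set G), ∀ v ∈ V, v ∉ zpowers z → s * v * s⁻¹ * v ∈ nn (ws V z) (kq V z) →
      s * a * s⁻¹ * a * (s * v * s⁻¹ * v) ∈ zpowers z := by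
    intro s hs v hv hvz hsv
    obtain ⟨hv1, hvz'⟩ := nmem_zpowers h hvz
    have e : s * v * s⁻¹ * v = s * y * s⁻¹ * y := by
      rcases h.ln.four h.ln.z_mem hy h.ln.z_ne hy1 (Ne.symm hyz') hv with e | e | e | e
      · exact absurd e hv1
      · exact absurd e hvz'
      · rw [e]
      · have hsz := conj_of_cent hs
        have hzy : z * y = y * z := h.ln.comm h.ln.z_mem hy
        have hsw : s * y * s⁻¹ ∈ ws V z := conj_mem_ws_of_mem hs hyw
        have hzs : z * (s * y * s⁻¹) = s * y * s⁻¹ * z := hab z (hVw h.ln.z_mem) _ hsw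
        rw [e]
        calc s * (z * y) * s⁻¹ * (z * y) = (s * z * s⁻¹) * (s * y * s⁻¹) * (z * y) := by group
          _ = z * (s * y * s⁻¹) * (z * y) := by rw [hsz]
          _ = s * y * s⁻¹ * z * (z * y) := by rw [hzs]
          _ = s * y * s⁻¹ * (z * z) * y := by group
          _ = s * y * s⁻¹ * y := by rw [h.ln.zz, mul_one]
    rw [e]
    exact key s hs (e ▸ hsv)
  refine ⟨a, ha, fun haz => ?_, hshift⟩
  -- `a ∈ ⟨z⟩`: then `y^g y ∈ ⟨z⟩`
  have hgw : g * y * g⁻¹ ∈ ws V z := conj_mem_ws_of_mem hg hyw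
  have e : y * (g * y * g⁻¹) = g * y * g⁻¹ * y := hab _ hyw _ hgw
  rw [e] at h1 h2
  have h3 := key g hg h1
  have h4 : g * a * g⁻¹ * a ∈ zpowers z := by
    rcases (mem_zpowers_iff_of_mul_self h.ln.zz).1 haz with e | e
    · rw [e]; simp
    · rw [e, conj_of_cent hg, h.ln.zz]; exact one_mem _
  exact h2 (((zpowers z).mul_mem_cancel_left h4).1 h3)

end

end Canon

open Canon

variable {G : Type u} [Group G] {T V : Subgroup G} {z : G}

/-- **the canonical vectors** -/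
theorem can [Finite G] (h : Fr T V z) (hF : ∃ g ∈ centralizer ({z} : Set G), ∃ y ∈ V, y ∉ zpowers z ∧
    y * (g * y * g⁻¹) ∈ nn (ws V z) (kq V z) ∧ y * (g * y * g⁻¹) ∉ zpowers z) : ∃ NV, Can V NV := by
  obtain ⟨a, ha⟩ := exists_base h hF
  have hab := h.ws_comm h.col_z
  have hVw : V ≤ ws V z := h.V_le h.ln.z_mem h.ln.z_ne
  have haw := (mem_nn.1 ha.mem).1
  have md := md_MM h h.col_z
  refine ⟨nv V z a, ?_⟩
  -- two elements mapping the base flag to the same flag
  have huniq : ∀ g g' : G, cj g V = cj g' V → g * z * g⁻¹ = g' * z * g'⁻¹ →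
      g' * a * g'⁻¹ = g * a * g⁻¹ ∨ g' * a * g'⁻¹ = g * z * g⁻¹ * (g * a * g⁻¹) := by
    intro g g' e1 e2
    set s := g⁻¹ * g' with hs
    have hsc : s ∈ centralizer ({z} : Set G) := by
      rw [mem_centralizer_singleton_iff]
      apply mul_inv_eq_iff_eq_mul.1
      calc s * z * s⁻¹ = g⁻¹ * (g' * z * g'⁻¹) * g := by rw [hs]; group
        _ = g⁻¹ * (g * z * g⁻¹) * g := by rw [e2]
        _ = z := by group
    have hsn : s ∈ normalizer (V : Set G) := by
      rw [mem_normalizer_iff_cj, hs, ← cj_cj, ← e1, cj_cj, inv_mul_cancel, cj_one]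
    obtain ⟨y, hy, hy1, hyz⟩ := h.ln.exists_y
    have hyz' : y ∉ zpowers z := by
      rw [mem_zpowers_iff_of_mul_self h.ln.zz]
      push Not
      exact ⟨hy1, hyz⟩
    have h3 : s * y * s⁻¹ * y ∈ zpowers z := by
      rw [mem_zpowers_iff_of_mul_self h.ln.zz]
      rcases h.ln.conj_cases h.ln.z_mem hy h.ln.z_ne (mem_centralizer_singleton_iff.1 hsc) hsn with e | e
      · left; rw [e, h.ln.sq y hy]
      · right; rw [e, mul_assoc, h.ln.sq y hy, mul_one]
    have h4 : s * y * s⁻¹ * y ∈ nn (ws V z) (kq V z) := by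
      rcases (mem_zpowers_iff_of_mul_self h.ln.zz).1 h3 with e | e
      · rw [e]; exact one_mem _
      · rw [e]; exact z_mem_nn h
    have h5 := ha.shift s hsc y hy hyz' h4
    have h6 : s * a * s⁻¹ * a ∈ zpowers z := ((zpowers z).mul_mem_cancel_right h3).1 h5
    have haa := h.ws_sq h.col_z a haw
    have h7 : s * a * s⁻¹ = a ∨ s * a * s⁻¹ = z * a := by
      rcases (mem_zpowers_iff_of_mul_self h.ln.zz).1 h6 with e | e
      · left
        calc s * a * s⁻¹ = s * a * s⁻¹ * a * a := by rw [mul_assoc _ a a, haa, mul_one]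
          _ = a := by rw [e, one_mul]
      · right
        calc s * a * s⁻¹ = s * a * s⁻¹ * a * a := by rw [mul_assoc _ a a, haa, mul_one]
          _ = z * a := by rw [e]
    have e3 : g' * a * g'⁻¹ = g * (s * a * s⁻¹) * g⁻¹ := by rw [hs]; group
    rcases h7 with e | e
    · left; rw [e3, e]
    · right; rw [e3, e]; group
  constructor
  · -- ex
    intro g x hx hx1
    obtain ⟨k, hk, hkz, -⟩ := h.flag hx hx1
    exact ⟨_, k, hk, hkz, Or.inl rfl⟩
  · -- conj
    rintro x L c k ⟨g, rfl, rfl, e⟩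
    refine ⟨k * g, (cj_cj _ _ _).symm, by group, ?_⟩
    rcases e with rfl | rfl
    · left; group
    · right; group
  · -- mem
    rintro x L c ⟨g, rfl, rfl, e⟩
    have h1 := conj_mem_nn g ha.mem
    have h2 := conj_mem_nn g (z_mem_nn h)
    rcases e with rfl | rfl
    · exact h1
    · exact mul_mem h2 h1
  · -- uniq
    rintro x L c c' ⟨g, rfl, rfl, e⟩ ⟨g', e1, e2, e'⟩
    have hxx : g * z * g⁻¹ * (g * z * g⁻¹) = 1 := by
      calc g * z * g⁻¹ * (g * z * g⁻¹) = g * (z * z) * g⁻¹ := by group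
        _ = 1 := by rw [h.ln.zz]; group
    have h1 := huniq g g' e1.symm e2.symm
    generalize g * z * g⁻¹ = x at *
    generalize g * a * g⁻¹ = b at *
    generalize g' * a * g'⁻¹ = b' at *
    have hxx' : ∀ w : G, x * (x * w) = w := fun w => by rw [← mul_assoc, hxx, one_mul]
    rcases e with rfl | rfl <;> rcases e' with rfl | rfl <;> rcases h1 with rfl | rfl <;> simp [hxx']
  · -- mulx
    rintro x L c ⟨g, rfl, rfl, e⟩
    refine ⟨g, rfl, rfl, ?_⟩
    have hxx : g * z * g⁻¹ * (g * z * g⁻¹) = 1 := by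
      calc g * z * g⁻¹ * (g * z * g⁻¹) = g * (z * z) * g⁻¹ := by group
        _ = 1 := by rw [h.ln.zz]; group
    rcases e with rfl | rfl
    · right; rfl
    · left; rw [← mul_assoc, hxx, one_mul]
  · -- nin
    rintro x L c ⟨g, rfl, rfl, e⟩ hc
    have hzx : g * z * g⁻¹ ∈ zpowers (g * z * g⁻¹) := mem_zpowers _
    have h1 : g * a * g⁻¹ ∈ zpowers (g * z * g⁻¹) := by
      rcases e with rfl | rfl
      · exact hc
      · exact ((zpowers (g * z * g⁻¹)).mul_mem_cancel_left hzx).1 hc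
    apply ha.nin
    obtain ⟨i, hi⟩ := mem_zpowers_iff.1 h1
    rw [conj_zpow] at hi
    have : z ^ i = a := mul_left_cancel (mul_right_cancel hi)
    rw [← this]
    exact zpow_mem (mem_zpowers z) i
  · -- shift
    rintro x g g' c c' y y' ⟨k, hk1, rfl, hc⟩ ⟨k', hk1', hk2', hc'⟩ - - hy hy' hyx hyx' hyy
    rw [← hk1, mem_cj] at hy
    rw [← hk1', mem_cj] at hy'
    set s := k⁻¹ * k' with hs
    have hks : k' = k * s := by rw [hs]; group
    have hsc : s ∈ centralizer ({z} : Set G) := by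
      rw [mem_centralizer_singleton_iff]
      apply mul_inv_eq_iff_eq_mul.1
      calc s * z * s⁻¹ = k⁻¹ * (k' * z * k'⁻¹) * k := by rw [hs]; group
        _ = k⁻¹ * (k * z * k⁻¹) * k := by rw [hk2']
        _ = z := by group
    have hzc : ∀ {w : G}, w ∈ zpowers z → k * w * k⁻¹ ∈ zpowers (k * z * k⁻¹) := by
      intro w hw
      obtain ⟨i, rfl⟩ := mem_zpowers_iff.1 hw
      rw [← conj_zpow]
      exact zpow_mem (mem_zpowers _) i
    set v := k⁻¹ * y * k with hv
    set v' := k'⁻¹ * y' * k' with hv'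
    have hyv : y = k * v * k⁻¹ := by rw [hv]; group
    have hyv' : y' = k * (s * v' * s⁻¹) * k⁻¹ := by rw [hv', hks]; group
    have hvz : v ∉ zpowers z := fun e => hyx (by rw [hyv]; exact hzc e)
    have hvz' : v' ∉ zpowers z := fun e => hyx' (by
      have h1 : s * v' * s⁻¹ ∈ zpowers z := by
        obtain ⟨i, hi⟩ := mem_zpowers_iff.1 e
        rw [← hi, ← conj_zpow, conj_of_cent hsc]
        exact zpow_mem (mem_zpowers z) i
      rw [hyv']; exact hzc h1)
    have hvw := hVw hy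
    have hvw' := hVw hy'
    obtain ⟨hv1, hv2⟩ := nmem_zpowers h hvz
    obtain ⟨hv1', hv2'⟩ := nmem_zpowers h hvz'
    have hπ2 := md.two h h.col_z
    have hπz := md.map_p h h.col_z
    have hzw := h.mem_ws_self h.col_z
    have hsv : s * v * s⁻¹ ∈ ws V z := conj_mem_ws_of_mem hsc hvw
    have hsv' : s * v' * s⁻¹ ∈ ws V z := conj_mem_ws_of_mem hsc hvw'
    have hsa : s * a * s⁻¹ ∈ ws V z := conj_mem_ws_of_mem hsc haw
    -- `π (s v' s⁻¹) = π (s v s⁻¹)`
    have e1 : pim V z (s * v' * s⁻¹) = pim V z (s * v * s⁻¹) := by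
      have e2 : pim V z v' = pim V z v := by
        rcases h.ln.four h.ln.z_mem hy h.ln.z_ne hv1 (Ne.symm hv2) hy' with e | e | e | e
        · exact absurd e hv1'
        · exact absurd e hv2'
        · rw [e]
        · rw [e, md.map_mul z hzw v hvw, hπz, zero_add]
      rw [md.smul ⟨s, hsc⟩ v' hvw', md.smul ⟨s, hsc⟩ v hvw, e2]
    -- `v^s v ∈ N_z`
    have h1 : s * v * s⁻¹ * v ∈ nn (ws V z) (kq V z) := by
      have h2 := conj_mem_nn k⁻¹ hyy
      have e2 : k⁻¹ * (k * z * k⁻¹) * k⁻¹⁻¹ = z := by group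
      have e3 : k⁻¹ * (y * y') * k⁻¹⁻¹ = v * (s * v' * s⁻¹) := by rw [hyv, hyv']; group
      rw [e2, e3] at h2
      have e4 : pim V z (v * (s * v' * s⁻¹)) = pim V z (s * v * s⁻¹ * v) := by
        rw [md.map_mul v hvw _ hsv', md.map_mul _ hsv v hvw, e1, add_comm]
      rcases (md.eq_iff h h.col_z (mul_mem hsv hvw) (mul_mem hvw hsv')).1 e4.symm with e | e
      · rw [e]; exact h2
      · rw [e]; exact mul_mem (z_mem_nn h) h2
    have h2 := ha.shift s hsc v hy hvz h1
    rw [mem_zpowers_iff_π h (mul_mem (mul_mem hsa haw) (mul_mem hsv hvw)),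
      md.map_mul _ (mul_mem hsa haw) _ (mul_mem hsv hvw), md.map_mul _ hsa _ haw, md.map_mul _ hsv _ hvw] at h2
    -- the two vectors
    obtain ⟨b, hb, hcb, hπb⟩ : ∃ b ∈ ws V z, c = k * b * k⁻¹ ∧ pim V z b = pim V z a := by
      rcases hc with rfl | rfl
      · exact ⟨a, haw, rfl, rfl⟩
      · refine ⟨z * a, mul_mem hzw haw, by group, ?_⟩
        rw [md.map_mul z hzw a haw, hπz, zero_add]
    obtain ⟨b', hb', hcb', hπb'⟩ : ∃ b ∈ ws V z, c' = k * b * k⁻¹ ∧ pim V z b = pim V z (s * a * s⁻¹) := by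
      rcases hc' with rfl | rfl
      · exact ⟨s * a * s⁻¹, hsa, by rw [hks]; group, rfl⟩
      · refine ⟨z * (s * a * s⁻¹), mul_mem hzw hsa, by rw [hks]; group, ?_⟩
        rw [md.map_mul z hzw _ hsa, hπz, zero_add]
    have e5 : c * c' * (y * y') = k * (b * b' * (v * (s * v' * s⁻¹))) * k⁻¹ := by
      rw [hcb, hcb', hyv, hyv']; group
    rw [e5]
    apply hzc
    rw [mem_zpowers_iff_π h (mul_mem (mul_mem hb hb') (mul_mem hvw hsv')),
      md.map_mul _ (mul_mem hb hb') _ (mul_mem hvw hsv'), md.map_mul _ hb _ hb', md.map_mul _ hvw _ hsv', hπb, hπb',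
      e1, ← h2]
    abel

end Cfsg.Agent.Omega.NO3S.WZero
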