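import Cfsg.Agent.Omega.NO3S.TwoMid.Alpha

/-!
# W0 is dead (helper56 #21024), step (7): END

`nv L x a` : `a` is a lift of the canonical vector `n_{x,L}` of the flag `(x, L)`.  `EndD` collects the situation:
`(q, p)` critical, `r` the neighbour of `p` on a geodesic, `L = cj g₀ V = {1, p, r, p r}`, `f ∈ W_q`, `f ∉ K_p`;
(1) `f` centralises the canonical lifts on `L`; (5) `n_x n_x^f ∈ W_p` for `x ~ p`, `x^f ≠ x`;
(6) `n_x n_{x'} ∉ W_p` for `x' ∈ x N_p`, `x' ∉ x⟨p⟩`.  The end is helper240's (#21368): neither (D) nor LEMMA D.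

* `EndD.false` : this is impossible.
-/

set_option autoImplicit false
set_option linter.unusedSectionVars false

namespace Cfsg.Agent.Omega.NO3S.WZero

open Subgroup Cfsg Cfsg.Agent.ZN Cfsg.Agent.MinSimple.Geo Cfsg.Agent.Omega.CaseL Cfsg.Agent.Omega.NO3S.TwoOne
  Cfsg.Agent.Omega.NO3S.Pt Cfsg.Agent.Omega.NO3S.TwoMid.Alpha
open Cfsg.Agent.Omega.NO3S.Dual (nn mem_nn DW mem_sup_of_comm)
open Cfsg.Agent.ZN.Block (conj_mem_of_normalizer conj_mem_of_normalizer' le_normalizer_of_forall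
  mem_normalizer_of)

universe u

variable {G : Type u} [Group G] {T V : Subgroup G} {z p q r f g₀ : G} {nv : Subgroup G → G → G → Prop}

/-- the situation of (7) -/
structure EndD (T V : Subgroup G) (z : G) (nv : Subgroup G → G → G → Prop) (g₀ p q r f : G) : Prop where
  fr : Fr T V z
  pL : p ∈ cj g₀ V
  rL : r ∈ cj g₀ V
  p1 : p ≠ 1
  r1 : r ≠ 1
  rp : r ≠ p
  qq : Col V q q
  fW : f ∈ ws V q
  fo : f ∈ o2 (centralizer ({r} : Set G))
  fr0 : f ∈ centralizer (ws V r : Set G)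
  fk : f ∉ kq V p
  /-- the canonical lifts -/
  mem : ∀ g x a, nv (cj g V) x a → a ∈ nn (ws V x) (kq V x)
  ne : ∀ g x a, nv (cj g V) x a → a ∉ zpowers x
  ex : ∀ g x, x ∈ cj g V → x ≠ 1 → ∃ a, nv (cj g V) x a
  uniq : ∀ g x a b, nv (cj g V) x a → nv (cj g V) x b → b = a ∨ b = x * a
  conj : ∀ k g x a, nv (cj g V) x a → nv (cj k (cj g V)) (k * x * k⁻¹) (k * a * k⁻¹)
  /-- (1) on the line `L` -/
  one : ∀ x a, x ∈ cj g₀ V → x ≠ 1 → nv (cj g₀ V) x a → f * a = a * f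
  /-- (5) -/
  five : ∀ g x a, p ∈ cj g V → x ∈ cj g V → x ≠ 1 → x ≠ p → x ∉ ws V q → nv (cj g V) x a →
    a * (f * a * f⁻¹) ∈ ws V p
  /-- (6) -/
  six : ∀ g g' x x' a a', p ∈ cj g V → x ∈ cj g V → x ≠ 1 → x ≠ p → p ∈ cj g' V → x' ∈ cj g' V → x' ≠ 1 →
    x' ≠ p → x * x' ∈ nn (ws V p) (kq V p) → x' ≠ x → x' ≠ p * x → nv (cj g V) x a → nv (cj g' V) x' a' →
    a * a' ∉ ws V p

namespace EndD

variable [Finite G] (s : EndD T V z nv g₀ p q r f)
include s

theorem colpr : Col V p r := ⟨g₀, s.pL, s.rL, s.p1, s.r1⟩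

theorem pp : p * p = 1 := s.fr.pt_sq s.colpr.left

theorem rr : r * r = 1 := s.fr.pt_sq s.colpr.right

theorem ff : f * f = 1 := s.fr.ws_sq s.qq f s.fW

/-- `f` centralises `L` -/
theorem fL {x : G} (hx : x ∈ cj g₀ V) : f * x = x * f :=
  (mem_centralizer_iff.mp s.fr0 x (s.fr.line_le_ws s.rL hx)).symm

theorem eq_one {u : G} (i : Iv p f u) (hr : u * r * u⁻¹ = r ∨ u * r * u⁻¹ = p * r) : u = 1 := by
  have h2 : u * u * r = r * (u * u) := by
    rcases hr with e | e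
    · have h3 := comm_of_conj_eq e
      rw [mul_assoc, h3, ← mul_assoc, h3, mul_assoc]
    · apply comm_of_conj_eq
      calc u * u * r * (u * u)⁻¹ = u * (u * r * u⁻¹) * u⁻¹ := by group
        _ = u * p * (r * u⁻¹) := by rw [e]; group
        _ = p * (u * r * u⁻¹) := by rw [i.cb]; group
        _ = r := by rw [e, ← mul_assoc, s.pp, one_mul]
  have hfo := s.fo
  have h4 : u * u * f * (u * u)⁻¹ * f⁻¹ ∈ o2 (centralizer ({r} : Set G)) :=
    mul_mem (conj_mem_of_normalizer (le_normalizer_o2 _) (mem_centralizer_singleton_iff.mpr h2) hfo) (inv_mem hfo)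
  have hi := i.symm.inv
  rw [inv_inv] at hi
  have h5 : u * u * f * (u * u)⁻¹ * f⁻¹ = u ^ 4 := by
    calc u * u * f * (u * u)⁻¹ * f⁻¹ = u * u * (f * u⁻¹ * f⁻¹) * (f * u⁻¹ * f⁻¹) := by group
      _ = u ^ 4 := by rw [hi, pow_four']
  rw [h5] at h4
  obtain ⟨n, hn⟩ := isPGroup_o2 (centralizer ({r} : Set G)) ⟨u ^ 4, h4⟩
  have h6 : u ^ (4 * 2 ^ n) = 1 := by
    rw [pow_mul]
    exact congrArg Subtype.val hn
  have h7 : orderOf u ∣ 4 * 2 ^ n := orderOf_dvd_of_pow_eq_one h6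
  have h8 : Nat.Coprime (orderOf u) (4 * 2 ^ n) := by
    have : 4 * 2 ^ n = 2 ^ (n + 2) := by rw [pow_add]; ring
    rw [this]
    exact Nat.Coprime.pow_right _ (Nat.coprime_two_right.2 i.odd)
  exact orderOf_eq_one_iff.mp (Nat.eq_one_of_dvd_coprimes h8 dvd_rfl h7)

theorem pW : p ∈ ws V p := s.fr.mem_ws_self s.colpr.left

section iv

variable {u : G}

theorem up (i : Iv p f u) : u * p * u⁻¹ = p := by rw [i.cb, mul_inv_cancel_right]

theorem up' (i : Iv p f u) : u⁻¹ * p * u = p := by rw [mul_assoc, ← i.cb, inv_mul_cancel_left]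

/-- `x = u r u⁻¹ ~ p` -/
theorem px (i : Iv p f u) : Col V p (u * r * u⁻¹) := by
  have := s.colpr.conj u
  rwa [s.up i] at this

theorem px' (i : Iv p f u) : Col V p (u⁻¹ * r * u) := by
  have := s.colpr.conj u⁻¹
  rwa [inv_inv, s.up' i] at this

/-- `x^f = u⁻¹ r u` -/
theorem xf (i : Iv p f u) : f * (u * r * u⁻¹) * f⁻¹ = u⁻¹ * r * u := by
  have h1 := i.inv
  have h2 := i.symm.inv
  rw [inv_inv] at h2
  have h3 : f * r * f⁻¹ = r := by rw [s.fL s.rL, mul_inv_cancel_right]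
  calc f * (u * r * u⁻¹) * f⁻¹ = (f * u * f⁻¹) * (f * r * f⁻¹) * (f * u⁻¹ * f⁻¹) := by group
    _ = u⁻¹ * r * u := by rw [h1, h2, h3]

theorem x_ne_p (i : Iv p f u) : u * r * u⁻¹ ≠ p := by
  intro e
  apply s.rp
  calc r = u⁻¹ * (u * r * u⁻¹) * u := by group
    _ = p := by rw [e, s.up' i]

theorem x'_ne_p (i : Iv p f u) : u⁻¹ * r * u ≠ p := by
  intro e
  apply s.rp
  calc r = u * (u⁻¹ * r * u) * u⁻¹ := by group
    _ = p := by rw [e, s.up i]

theorem sq_ne (i : Iv p f u) (hu : u ≠ 1) : u * u ≠ 1 := by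
  intro e
  have h1 : orderOf u ∣ 2 := orderOf_dvd_of_pow_eq_one (by rw [pow_two]; exact e)
  rcases (Nat.dvd_prime Nat.prime_two).mp h1 with h2 | h2
  · exact hu (orderOf_eq_one_iff.mp h2)
  · have := i.odd
    rw [h2] at this
    exact absurd this (by decide)

/-- `x' ∉ {x, p x}` -/
theorem x'_ne_x (i : Iv p f u) (hu : u ≠ 1) : u⁻¹ * r * u ≠ u * r * u⁻¹ ∧ u⁻¹ * r * u ≠ p * (u * r * u⁻¹) := by
  have key : ∀ c, u * c = c * u → u⁻¹ * r * u = c * (u * r * u⁻¹) → (u * u) * r * (u * u)⁻¹ = c⁻¹ * r := by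
    intro c hc e
    calc (u * u) * r * (u * u)⁻¹ = u * (c⁻¹ * (c * (u * r * u⁻¹))) * u⁻¹ := by group
      _ = u * (c⁻¹ * (u⁻¹ * r * u)) * u⁻¹ := by rw [e]
      _ = (u * c⁻¹) * u⁻¹ * r := by group
      _ = c⁻¹ * r := by rw [(show Commute u c from hc).inv_right.eq, mul_inv_cancel_right]
  have hp : Iv p f (u * u) := by
    have := i.pow 2
    rwa [pow_two] at this
  have hpi : p⁻¹ = p := inv_eq_of_mul_eq_one_left s.pp
  refine ⟨fun e => s.sq_ne i hu (s.eq_one hp (Or.inl ?_)), fun e => s.sq_ne i hu (s.eq_one hp (Or.inr ?_))⟩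
  · have := key 1 (by rw [mul_one, one_mul]) (by rw [one_mul]; exact e)
    rwa [inv_one, one_mul] at this
  · have := key p i.cb e
    rwa [hpi] at this

/-- `x ∉ W_q` -/
theorem x_notMem (i : Iv p f u) (hu : u ≠ 1) : u * r * u⁻¹ ∉ ws V q := by
  intro h
  have h1 := s.fr.ws_comm s.qq f s.fW _ h
  apply (s.x'_ne_x i hu).1
  rw [← s.xf i, h1, mul_inv_cancel_right]

/-- a lift `a` on `L` at `r` gives `n_x n_{x'} ∈ W_p` -/
theorem five' (i : Iv p f u) (hu : u ≠ 1) {a : G} (ha : nv (cj g₀ V) r a) :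
    (u * a * u⁻¹) * (u⁻¹ * a * u) ∈ ws V p := by
  have h1 := s.conj u g₀ r a ha
  rw [cj_cj] at h1
  have h2 : p ∈ cj (u * g₀) V := by
    rw [← cj_cj]
    have := conj_mem_cj (g := u) s.pL
    rwa [s.up i] at this
  have h3 : u * r * u⁻¹ ∈ cj (u * g₀) V := by
    rw [← cj_cj]
    exact conj_mem_cj s.rL
  have h4 := s.five (u * g₀) _ _ h2 h3 (s.px i).symm.ne_one (s.x_ne_p i) (s.x_notMem i hu) h1
  have h5 : f * (u * a * u⁻¹) * f⁻¹ = u⁻¹ * a * u := by
    have e1 := i.inv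
    have e2 := i.symm.inv
    rw [inv_inv] at e2
    have e3 : f * a * f⁻¹ = a := by rw [s.one r a s.rL s.r1 ha, mul_inv_cancel_right]
    calc f * (u * a * u⁻¹) * f⁻¹ = (f * u * f⁻¹) * (f * a * f⁻¹) * (f * u⁻¹ * f⁻¹) := by group
      _ = u⁻¹ * a * u := by rw [e1, e2, e3]
  rwa [h5] at h4

theorem rW : r ∈ ws V p := s.fr.mem_ws_of_col s.colpr

theorem xW (i : Iv p f u) : u * r * u⁻¹ ∈ ws V p := s.fr.mem_ws_of_col (s.px i)

theorem x'W (i : Iv p f u) : u⁻¹ * r * u ∈ ws V p := s.fr.mem_ws_of_col (s.px' i)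

/-- `N_p` is normal in `C_G(p)` -/
theorem conj_nn {k w : G} (hk : k * p = p * k) (hw : w ∈ nn (ws V p) (kq V p)) :
    k * w * k⁻¹ ∈ nn (ws V p) (kq V p) := by
  have hkp : k * p * k⁻¹ = p := by rw [hk, mul_inv_cancel_right]
  rw [mem_nn] at hw ⊢
  refine ⟨?_, fun c hc => ?_⟩
  · have := conj_mem_ws k hw.1
    rwa [hkp] at this
  · have h1 : k⁻¹ * c * k ∈ kq V p := by
      have := conj_mem_kq k⁻¹ hc
      rw [inv_inv] at this
      have e : k⁻¹ * p * k = p := by rw [mul_assoc, ← hk, inv_mul_cancel_left]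
      rwa [e] at this
    have h2 := hw.2 _ h1
    calc c * (k * w * k⁻¹) = k * ((k⁻¹ * c * k) * w) * k⁻¹ := by group
      _ = k * (w * (k⁻¹ * c * k)) * k⁻¹ := by rw [h2]
      _ = k * w * k⁻¹ * c := by group

theorem comm {a b : G} (ha : a ∈ ws V p) (hb : b ∈ ws V p) : a * b = b * a :=
  s.fr.ws_comm s.colpr.left a ha b hb

theorem sq {a : G} (ha : a ∈ ws V p) : a * a = 1 := s.fr.ws_sq s.colpr.left a ha

/-- `K_p` moves the points collinear with `p` -/
theorem pt_notMem {y : G} (hy : Col V p y) (hyp : y ≠ p) : y ∉ nn (ws V p) (kq V p) := by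
  intro h
  obtain ⟨g, hp, hy', hp1, hy1⟩ := hy
  obtain ⟨k, hk, -, hm⟩ := s.fr.mover_cj hp hp1
  have h1 := hm y hy' hy1 hyp
  have h2 := (mem_nn.mp h).2 k hk
  rw [h2, mul_inv_cancel_right] at h1
  exact hp1 (by simpa using h1.symm)

/-- `n_r n_x ∈ W_p` (helper240) -/
theorem nrx (i : Iv p f u) (hu : u ≠ 1) {a : G} (ha : nv (cj g₀ V) r a) : a * (u * a * u⁻¹) ∈ ws V p := by
  have h1 := s.five' i hu ha
  have haa : a * a = 1 := s.fr.ws_sq s.colpr.right a (mem_nn.mp (s.mem g₀ r a ha)).1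
  have hup : ∀ k : ℕ, u ^ k * p * (u ^ k)⁻¹ = p := fun k => s.up (i.pow k)
  -- `W_p n_{2k} = W_p n_0`
  have key : ∀ k : ℕ, (u ^ (2 * k) * a * (u ^ (2 * k))⁻¹) * a ∈ ws V p := by
    intro k
    induction k with
    | zero => simp [haa]
    | succ k ih =>
      have h2 := conj_mem_ws (u ^ (2 * k + 1)) h1
      rw [hup] at h2
      have e1 : u ^ (2 * k + 1) * ((u * a * u⁻¹) * (u⁻¹ * a * u)) * (u ^ (2 * k + 1))⁻¹ =
          (u ^ (2 * (k + 1)) * a * (u ^ (2 * (k + 1)))⁻¹) * (u ^ (2 * k) * a * (u ^ (2 * k))⁻¹) := by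
        have e2 : u ^ (2 * (k + 1)) = u ^ (2 * k) * u * u := by
          rw [show 2 * (k + 1) = 2 * k + 1 + 1 by ring, pow_succ, pow_succ]
        rw [e2, pow_succ]
        group
      rw [e1] at h2
      have h3 := mul_mem h2 ih
      have e3 : (u ^ (2 * (k + 1)) * a * (u ^ (2 * (k + 1)))⁻¹) * (u ^ (2 * k) * a * (u ^ (2 * k))⁻¹) *
          ((u ^ (2 * k) * a * (u ^ (2 * k))⁻¹) * a) = (u ^ (2 * (k + 1)) * a * (u ^ (2 * (k + 1)))⁻¹) * a := by
        calc (u ^ (2 * (k + 1)) * a * (u ^ (2 * (k + 1)))⁻¹) * (u ^ (2 * k) * a * (u ^ (2 * k))⁻¹) *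
            ((u ^ (2 * k) * a * (u ^ (2 * k))⁻¹) * a)
            = (u ^ (2 * (k + 1)) * a * (u ^ (2 * (k + 1)))⁻¹) * (u ^ (2 * k) * (a * a) * (u ^ (2 * k))⁻¹) * a := by
              group
          _ = (u ^ (2 * (k + 1)) * a * (u ^ (2 * (k + 1)))⁻¹) * a := by rw [haa]; group
      rwa [e3] at h3
  obtain ⟨k, hk⟩ := i.odd
  have h2 := key (k + 1)
  rw [show 2 * (k + 1) = orderOf u + 1 by omega, pow_succ, pow_orderOf_eq_one, one_mul] at h2
  -- `n_x n_r ∈ W_p`, invert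
  have h3 := inv_mem h2
  have hai : a⁻¹ = a := inv_eq_of_mul_eq_one_left haa
  have e : (u * a * u⁻¹ * a)⁻¹ = a * (u * a * u⁻¹) := by
    calc (u * a * u⁻¹ * a)⁻¹ = a⁻¹ * (u * a⁻¹ * u⁻¹) := by group
      _ = a * (u * a * u⁻¹) := by rw [hai]
  rwa [e] at h3

/-- `x ∉ r N_p` -/
theorem xr_notMem (i : Iv p f u) (hu : u ≠ 1) : (u * r * u⁻¹) * r ∉ nn (ws V p) (kq V p) := by
  intro h
  obtain ⟨a, ha⟩ := s.ex g₀ r s.rL s.r1
  have h1 := s.conj u g₀ r a ha
  rw [cj_cj] at h1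
  have h2 : p ∈ cj (u * g₀) V := by
    rw [← cj_cj]
    have := conj_mem_cj (g := u) s.pL
    rwa [s.up i] at this
  have h3 : u * r * u⁻¹ ∈ cj (u * g₀) V := by
    rw [← cj_cj]
    exact conj_mem_cj s.rL
  have hne : u * r * u⁻¹ ≠ r := fun e => hu (s.eq_one i (Or.inl e))
  have hne' : u * r * u⁻¹ ≠ p * r := fun e => hu (s.eq_one i (Or.inr e))
  have hc : (u * r * u⁻¹) * r = r * (u * r * u⁻¹) := s.comm (s.xW i) s.rW
  rw [hc] at h
  exact s.six _ _ _ _ _ _ s.pL s.rL s.r1 s.rp h2 h3 (s.px i).symm.ne_one (s.x_ne_p i) h hne hne' ha h1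
    (s.nrx i hu ha)

end iv

/-- (7) -/
theorem false : False := by
  -- a mover
  have hfp : f * p = p * f := s.fL s.pL
  obtain ⟨u, i, hu⟩ := exists_iv s.fr s.colpr.left hfp s.ff s.fk
  obtain ⟨a, ha⟩ := s.ex g₀ r s.rL s.r1
  have hrW := s.rW
  have hxW := s.xW i
  have hup := s.up i
  set x := u * r * u⁻¹ with hxd
  have hnv := s.conj u g₀ r a ha
  rw [← hxd] at hnv
  set b := u * a * u⁻¹ with hbd
  have hab : a * b ∈ ws V p := s.nrx i hu ha
  -- `k ∈ K_p` fixes `x` and moves `r`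
  have hrn : r ∉ zpowers x ⊔ nn (ws V p) (kq V p) := by
    intro hr
    have hxz : zpowers x ≤ ws V p := by rw [zpowers_le]; exact hxW
    obtain ⟨w, hw, c, hc, hrc⟩ := mem_sup_of_comm (W := ws V p) (s.fr.ws_comm s.colpr.left) hxz
      (fun w hw => (mem_nn.mp hw).1) hr
    rcases (mem_zpowers_iff_of_mul_self (s.sq hxW)).mp hw with e | e
    · rw [e, one_mul] at hrc
      exact s.pt_notMem s.colpr s.rp (hrc ▸ hc)
    · have h6 := s.xr_notMem i hu
      have h5 : x * r = c := by rw [hrc, e, ← mul_assoc, s.sq hxW, one_mul]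
      rw [← hxd, h5] at h6
      exact h6 hc
  have hxz : zpowers x ≤ ws V p := by rw [zpowers_le]; exact hxW
  obtain ⟨k, hk, hkx, hkr⟩ := (s.fr.dw s.colpr.left).exists_mover hxz hrW hrn
  have hkx' : k * x = x * k := hkx x (mem_zpowers x)
  have hkp : k * p * k⁻¹ = p := by
    have := (s.fr.dw s.colpr.left).cent k hk
    rw [this, mul_inv_cancel_right]
  -- `k` normalises the lines through `p`
  have hkL : ∀ g, p ∈ cj g V → cj k (cj g V) = cj g V := by
    intro g hp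
    obtain ⟨g', -, -, hf⟩ := s.fr.flag hp s.p1
    apply cj_eq_of_mem_normalizer
    exact hf.kq_le_normalizer hp s.p1 (by rw [kq_cj]; exact hk)
  -- `k b k⁻¹ ∈ b⟨x⟩`
  have hpL1 : p ∈ cj u (cj g₀ V) := by
    have := conj_mem_cj (g := u) s.pL
    rwa [hup] at this
  have hkb : k * b * k⁻¹ = b ∨ k * b * k⁻¹ = x * b := by
    rw [cj_cj] at hnv hpL1
    have h1 := s.conj k _ _ _ hnv
    rw [hkL _ hpL1] at h1
    have e : k * x * k⁻¹ = x := by rw [hkx', mul_inv_cancel_right]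
    rw [e] at h1
    exact s.uniq _ _ _ _ hnv h1
  -- `k a k⁻¹` is a lift at `p r`
  have hka := s.conj k g₀ r a ha
  rw [hkL g₀ s.pL, hkr] at hka
  have hprL : p * r ∈ cj g₀ V := mul_mem s.pL s.rL
  have hpr1 : p * r ≠ 1 := by
    intro e
    apply s.rp
    calc r = p * p * r := by rw [s.pp, one_mul]
      _ = p * (p * r) := by group
      _ = p := by rw [e, mul_one]
  have hfa : f * a = a * f := s.one r a s.rL s.r1 ha
  have hfka : f * (k * a * k⁻¹) = (k * a * k⁻¹) * f := s.one _ _ hprL hpr1 hka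
  -- `a`
  have han := s.mem g₀ r a ha
  have haW : a ∈ ws V r := (mem_nn.mp han).1
  have haW' : k * a * k⁻¹ ∈ ws V (p * r) := (mem_nn.mp (s.mem g₀ _ _ hka)).1
  have hpr : p ∈ ws V r := s.fr.line_le_ws s.rL s.pL
  have hppr : p ∈ ws V (p * r) := s.fr.line_le_ws hprL s.pL
  have hpa : p * a = a * p := s.fr.ws_comm s.colpr.right p hpr a haW
  -- `k a k⁻¹ ∉ a⟨p⟩`
  have hnp : ¬ a ∈ ws V (p * r) := by
    intro h
    have hne : p * r ≠ r := fun e => s.p1 (by simpa using e)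
    have hii := s.fr.mem_ii_cj s.rL s.r1 hprL hpr1 hne haW h
    by_cases haL : a ∈ cj g₀ V
    · -- `a ∈ {1, r}`
      obtain ⟨m, hm, -, hmv⟩ := s.fr.mover_cj s.rL s.r1
      by_cases har : a = r
      · exact s.ne g₀ r a ha (by rw [har]; exact mem_zpowers r)
      by_cases ha1 : a = 1
      · exact s.ne g₀ r a ha (by rw [ha1]; exact one_mem _)
      have h2 := hmv a haL ha1 har
      have h3 := (mem_nn.mp han).2 m hm
      rw [h3, mul_inv_cancel_right] at h2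
      exact s.r1 (by simpa using h2.symm)
    · obtain ⟨m, hm, -, hma⟩ := s.fr.fu_cj hii haL s.rL s.r1
      have h3 := (mem_nn.mp han).2 m hm
      rw [h3, mul_inv_cancel_right] at hma
      exact s.r1 (by simpa using hma.symm)
  -- the equation
  have hkab := (s.fr.dw s.colpr.left).act k hk _ hab
  have e0 : k * (a * b) * k⁻¹ = (k * a * k⁻¹) * (k * b * k⁻¹) := by group
  rw [e0] at hkab
  have hpi : p⁻¹ = p := inv_eq_of_mul_eq_one_left s.pp
  rcases hkb with e1 | e1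
  · -- `k b k⁻¹ = b` : `k a k⁻¹ ∈ a⟨p⟩`
    rw [e1] at hkab
    apply hnp
    rcases hkab with e2 | e2
    · have : k * a * k⁻¹ = a := mul_right_cancel e2
      rwa [this] at haW'
    · have h4 : k * a * k⁻¹ = p * a := by
        have e3 : k * a * k⁻¹ * b = p * a * b := by rw [e2, mul_assoc]
        exact mul_right_cancel e3
      rw [h4] at haW'
      have := mul_mem (inv_mem hppr) haW'
      rwa [inv_mul_cancel_left] at this
  · -- `k b k⁻¹ = x b` : `f` centralises `x`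
    rw [e1] at hkab
    have hfx : f * x = x * f := by
      rcases hkab with e2 | e2
      · have h4 : (k * a * k⁻¹) * x = a := by
          have e3 : k * a * k⁻¹ * x * b = a * b := by rw [← e2, mul_assoc]
          exact mul_right_cancel e3
        have h5 : x = (k * a * k⁻¹)⁻¹ * a := eq_inv_mul_of_mul_eq h4
        rw [h5]
        have c1 : Commute f (k * a * k⁻¹) := hfka
        have c2 : Commute f a := hfa
        exact (c1.inv_right.mul_right c2).eq
      · have h4 : (k * a * k⁻¹) * x = p * a := by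
          have e3 : k * a * k⁻¹ * x * b = p * a * b := by rw [mul_assoc, e2, mul_assoc]
          exact mul_right_cancel e3
        have h5 : x = (k * a * k⁻¹)⁻¹ * (p * a) := eq_inv_mul_of_mul_eq h4
        rw [h5]
        have c1 : Commute f (k * a * k⁻¹) := hfka
        have c2 : Commute f a := hfa
        have c3 : Commute f p := hfp
        exact (c1.inv_right.mul_right (c3.mul_right c2)).eq
    apply (s.x'_ne_x i hu).1
    rw [← s.xf i, ← hxd, hfx, mul_inv_cancel_right]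

end EndD

end Cfsg.Agent.Omega.NO3S.WZero
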