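import Cfsg.Agent.Omega.NO3S.WZero.Def

/-!
# The world W0: exactness (helper56 #21024)

For a critical pair `(p, q)` in `Wz T V z n`:

* `Wz.noswap` : no `f ∈ W_q` maps a point `x ∼ p` to `p x`;
* `Wz.cent_of` : `f ∈ W_q`, `[f, W_p] ≤ ⟨p⟩` (e.g. `f ∈ K_p`) implies `[f, W_p] = 1`;
* `Wz.X` : `w ∈ W_p`, `[w, W_q] ≤ ⟨p⟩` implies `[w, W_q] = 1`;
* `Wz.exact` : `|W_q : C_{W_q}(W_p)| = |W_p : C_{W_p}(W_q)|`.
-/

set_option autoImplicit false

namespace Cfsg.Agent.Omega.NO3S.WZero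

open Subgroup Cfsg Cfsg.Agent.ZN Cfsg.Agent.MinSimple.Geo Cfsg.Agent.Omega.CaseL Cfsg.Agent.Omega.NO3S.TwoOne
open Cfsg.Agent.Omega.NO3S.Pt
open Cfsg.Agent.Omega.NO3S.Dual (nn mem_nn DW)
open Cfsg.Agent.ZN.Block (conj_mem_of_normalizer conj_mem_of_normalizer' le_normalizer_of_forall
  mem_normalizer_of)

universe u

variable {G : Type u} [Group G] {T V : Subgroup G} {z : G} {n : ℕ}

/-- `C_{W_p}(W_q)` -/
def ce (V : Subgroup G) (p q : G) : Subgroup G := ws V p ⊓ centralizer (ws V q : Set G)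

theorem mem_ce {V : Subgroup G} {p q w : G} : w ∈ ce V p q ↔ w ∈ ws V p ∧ ∀ b ∈ ws V q, w * b = b * w := by
  rw [ce, mem_inf, mem_centralizer_iff]
  exact ⟨fun h => ⟨h.1, fun b hb => (h.2 b hb).symm⟩, fun h => ⟨h.1, fun b hb => (h.2 b hb).symm⟩⟩

theorem conj_zpowers {q a c : G} (hc : c * q = q * c) (ha : a ∈ zpowers q) : c * a * c⁻¹ = a := by
  obtain ⟨i, rfl⟩ := mem_zpowers_iff.1 ha
  have : Commute c q := hc
  rw [(this.zpow_right i).eq, mul_inv_cancel_right]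

/-- `{w ∈ W_q : [A, w] ≤ ⟨q⟩}` -/
def fx [Finite G] (h : Fr T V z) {q : G} (hq : Col V q q) (A : Subgroup G) : Subgroup G where
  carrier := {w | w ∈ ws V q ∧ ∀ a ∈ A, a * w * a⁻¹ * w⁻¹ ∈ zpowers q}
  one_mem' := ⟨one_mem _, fun a _ => by simp⟩
  mul_mem' := by
    rintro w w' ⟨hw, h1⟩ ⟨hw', h2⟩
    refine ⟨mul_mem hw hw', fun a ha => ?_⟩
    have e : a * (w * w') * a⁻¹ * (w * w')⁻¹ =
        (a * w * a⁻¹ * w⁻¹) * (w * (a * w' * a⁻¹ * w'⁻¹) * w⁻¹) := by group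
    rw [e, conj_zpowers (mem_centralizer_singleton_iff.1 (h.ws_le_cent hq hw)) (h2 a ha)]
    exact mul_mem (h1 a ha) (h2 a ha)
  inv_mem' := by
    rintro w ⟨hw, h1⟩
    refine ⟨inv_mem hw, fun a ha => ?_⟩
    have e : a * w⁻¹ * a⁻¹ * w⁻¹⁻¹ = w⁻¹ * (a * w * a⁻¹ * w⁻¹)⁻¹ * w⁻¹⁻¹ := by group
    rw [e, conj_zpowers (mem_centralizer_singleton_iff.1 (h.ws_le_cent hq (inv_mem hw))) (inv_mem (h1 a ha))]
    exact inv_mem (h1 a ha)

theorem mem_fx [Finite G] {h : Fr T V z} {q : G} {hq : Col V q q} {A : Subgroup G} {w : G} :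
    w ∈ fx h hq A ↔ w ∈ ws V q ∧ ∀ a ∈ A, a * w * a⁻¹ * w⁻¹ ∈ zpowers q := Iff.rfl

/-- `{a ∈ A : [a, W_q] ≤ ⟨q⟩}` for `A ≤ C_G(q)` -/
def kx {q : G} (V A : Subgroup G) (hA : A ≤ centralizer ({q} : Set G)) : Subgroup G where
  carrier := {a | a ∈ A ∧ ∀ w ∈ ws V q, a * w * a⁻¹ * w⁻¹ ∈ zpowers q}
  one_mem' := ⟨one_mem _, fun a _ => by simp⟩
  mul_mem' := by
    rintro a b ⟨ha, h1⟩ ⟨hb, h2⟩
    refine ⟨mul_mem ha hb, fun w hw => ?_⟩
    have e : a * b * w * (a * b)⁻¹ * w⁻¹ = (a * (b * w * b⁻¹ * w⁻¹) * a⁻¹) * (a * w * a⁻¹ * w⁻¹) := by group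
    rw [e, conj_zpowers (mem_centralizer_singleton_iff.1 (hA ha)) (h2 w hw)]
    exact mul_mem (h2 w hw) (h1 w hw)
  inv_mem' := by
    rintro a ⟨ha, h1⟩
    refine ⟨inv_mem ha, fun w hw => ?_⟩
    have e : a⁻¹ * w * a⁻¹⁻¹ * w⁻¹ = a⁻¹ * (a * w * a⁻¹ * w⁻¹)⁻¹ * a⁻¹⁻¹ := by group
    rw [e, conj_zpowers (mem_centralizer_singleton_iff.1 (hA (inv_mem ha))) (inv_mem (h1 w hw))]
    exact inv_mem (h1 w hw)

theorem mem_kx {q : G} {V A : Subgroup G} {hA : A ≤ centralizer ({q} : Set G)} {a : G} :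
    a ∈ kx V A hA ↔ a ∈ A ∧ ∀ w ∈ ws V q, a * w * a⁻¹ * w⁻¹ ∈ zpowers q := Iff.rfl

theorem eq_of_relIndex [Finite G] {A B W : Subgroup G} (hAB : A ≤ B) (hBW : B ≤ W)
    (h : A.relIndex W ≤ B.relIndex W) : A = B := by
  have h1 := relIndex_mul_relIndex A B W hAB hBW
  have h2 : B.relIndex W ≠ 0 := index_ne_zero_of_finite
  have h3 : A.relIndex B ≠ 0 := index_ne_zero_of_finite
  have h4 : A.relIndex B = 1 := by
    rw [← h1] at h
    have : A.relIndex B * B.relIndex W ≤ 1 * B.relIndex W := by rw [one_mul]; exact h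
    have := Nat.le_of_mul_le_mul_right this (Nat.pos_of_ne_zero h2)
    omega
  exact le_antisymm hAB (relIndex_eq_one.1 h4)

theorem relIndex_anti [Finite G] {A B W : Subgroup G} (hAB : A ≤ B) : B.relIndex W ≤ A.relIndex W :=
  relIndex_le_of_le_left hAB index_ne_zero_of_finite

namespace Wz

variable {p q : G}

/-- no swap -/
theorem noswap (h : Wz T V z n) (hc : Cr V n p q) {x f : G} (hx : Col V p x) (hxp : x ≠ p)
    (hf : f ∈ ws V q) : f * x * f⁻¹ ≠ p * x := h.nosw p q hc x f hx hxp hf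

/-- `f ∈ W_q`, `[f, W_p] ≤ ⟨p⟩` implies `[f, W_p] = 1` -/
theorem cent_of [Finite G] (h : Wz T V z n) (hc : Cr V n p q) {f : G} (hf : f ∈ ws V q)
    (hfp : ∀ w ∈ ws V p, f * w * f⁻¹ * w⁻¹ ∈ zpowers p) : ∀ w ∈ ws V p, f * w = w * f := by
  have hpp : p * p = 1 := h.fr.pt_sq hc.path.left
  have hle : ws V p ≤ centralizer ({f} : Set G) := by
    refine ws_le fun L hL => ?_
    obtain ⟨⟨g, rfl⟩, hp⟩ := id hL
    intro x hx
    rw [mem_centralizer_singleton_iff]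
    by_cases hx1 : x = 1
    · rw [hx1]; simp
    have hp1 : p ≠ 1 := hc.path.left.ne_one
    have hcol : Col V p x := Col.of_mem hp hx hp1 hx1
    have hfpp : f * p = p * f := by
      obtain ⟨m, rfl⟩ := Nat.exists_eq_add_of_le' (le_trans one_le_two h.two)
      exact (mem_centralizer_singleton_iff.1 (hc.symm.cent h.fr hf))
    by_cases hxp : x = p
    · rw [hxp]; exact hfpp.symm
    have h1 := hfp x (h.fr.mem_ws_of_col hcol)
    rcases (mem_zpowers_iff_of_mul_self hpp).mp h1 with e | e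
    · have : f * x * f⁻¹ = x := mul_inv_eq_one.1 e
      exact (mul_inv_eq_iff_eq_mul.1 this).symm
    · exact absurd (mul_inv_eq_iff_eq_mul.1 e) (h.noswap hc hcol hxp hf)
  intro w hw
  exact (mem_centralizer_singleton_iff.1 (hle hw)).symm

theorem le_cent [Finite G] (h : Wz T V z n) (hc : Cr V n p q) : ws V p ≤ centralizer ({q} : Set G) := by
  obtain ⟨m, rfl⟩ := Nat.exists_eq_add_of_le' (le_trans one_le_two h.two)
  exact hc.cent h.fr

/-- one half of the count -/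
theorem count [Finite G] (h : Wz T V z n) (hc : Cr V n p q) :
    (ce V p q).relIndex (ws V p) ≤ (fx h.fr hc.path.right (ws V p)).relIndex (ws V q) := by
  have hle := h.le_cent hc
  obtain ⟨m, rfl⟩ := Nat.exists_eq_add_of_le' (le_trans one_le_two h.two)
  obtain ⟨y', g, -, hy', hy, hy'1, hy1, -, ho2⟩ := hc.last h.fr
  have h1 := h.noov g q hy hy1 (ws V p) ho2 (h.fr.ws_sq hc.path.left) (kx V (ws V p) hle)
    (fx h.fr hc.path.right (ws V p)) (fun a => mem_kx) (fun w => mem_fx)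
  refine le_trans (relIndex_anti ?_) h1
  intro a ha
  rw [mem_kx] at ha
  rw [mem_ce]
  exact ⟨ha.1, h.cent_of hc.symm ha.1 ha.2⟩

theorem ce_le_fx [Finite G] (h : Wz T V z n) (hc : Cr V n p q) :
    ce V q p ≤ fx h.fr hc.path.right (ws V p) := by
  intro b hb
  rw [mem_ce] at hb
  refine mem_fx.2 ⟨hb.1, fun a ha => ?_⟩
  rw [← hb.2 a ha]
  simp

/-- **exactness** -/
theorem exact [Finite G] (h : Wz T V z n) (hc : Cr V n p q) :
    (ce V q p).relIndex (ws V q) = (ce V p q).relIndex (ws V p) := by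
  refine le_antisymm ?_ ?_
  · exact (h.count hc.symm).trans (relIndex_anti (h.ce_le_fx hc.symm))
  · exact (h.count hc).trans (relIndex_anti (h.ce_le_fx hc))

/-- (X), as an equality of subgroups: `{w ∈ W_q : [w, W_p] ≤ ⟨q⟩} = C_{W_q}(W_p)` -/
theorem fx_eq [Finite G] (h : Wz T V z n) (hc : Cr V n p q) :
    ce V q p = fx h.fr hc.path.right (ws V p) := by
  refine eq_of_relIndex (h.ce_le_fx hc) (fun w hw => hw.1) ?_
  rw [h.exact hc]
  exact h.count hc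

/-- **(X)** -/
theorem X [Finite G] (h : Wz T V z n) (hc : Cr V n p q) {w : G} (hw : w ∈ ws V p)
    (hx : ∀ b ∈ ws V q, w * b * w⁻¹ * b⁻¹ ∈ zpowers p) : ∀ b ∈ ws V q, w * b = b * w := by
  have h1 : w ∈ fx h.fr hc.symm.path.right (ws V q) := by
    refine mem_fx.2 ⟨hw, fun b hb => ?_⟩
    have e : b * w * b⁻¹ * w⁻¹ = (w * b * w⁻¹ * b⁻¹)⁻¹ := by group
    rw [e]
    exact inv_mem (hx b hb)
  rw [← h.fx_eq hc.symm, mem_ce] at h1
  exact h1.2

/-- `W_q ∩ K_p = C_{W_q}(W_p)` -/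
theorem kq_cent [Finite G] (h : Wz T V z n) (hc : Cr V n p q) {f : G} (hf : f ∈ ws V q) (hk : f ∈ kq V p) :
    ∀ w ∈ ws V p, f * w = w * f :=
  h.cent_of hc hf fun _ hw => kq_comm hk hw

end Wz

end Cfsg.Agent.Omega.NO3S.WZero
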