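import Cfsg.Agent.Omega.NO3S.WZero.End
import Cfsg.Agent.Omega.NO3S.WZero.Exact

/-!
# W0 is dead (helper56 #21024), step (7) in the language of `Def.lean`

* `end_false'` : from `Fr`, `Can`, `One`, `Five`, `SZero`, `(p, q)` critical, `f ∈ N_q`, `f ∉ K_p`;
* `end_false` : from `Wz`.
-/

set_option autoImplicit false
set_option linter.unusedSectionVars false

namespace Cfsg.Agent.Omega.NO3S.WZero

open Subgroup Cfsg Cfsg.Agent.ZN Cfsg.Agent.MinSimple.Geo Cfsg.Agent.Omega.CaseL Cfsg.Agent.Omega.NO3S.TwoOne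
  Cfsg.Agent.Omega.NO3S.Pt Cfsg.Agent.Omega.NO3S.TwoMid.Alpha
open Cfsg.Agent.Omega.NO3S.Dual (nn mem_nn)

universe u

variable {G : Type u} [Group G] {T V : Subgroup G} {z p q f : G} {n : ℕ} {NV : G → Subgroup G → G → Prop}

theorem end_false' [Finite G] (hF : Fr T V z) (hn : 2 ≤ n) (hc : Can V NV) (h1 : One V NV n) (h5 : Five V NV n)
    (hs : SZero V NV) (hcr : Cr V n p q) (hf : f ∈ nn (ws V q) (kq V q)) (hfk : f ∉ kq V p) : False := by
  obtain ⟨m, rfl⟩ := Nat.exists_eq_add_of_le' (le_trans one_le_two hn)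
  obtain ⟨r, g, hpath, hr, hp, hr1, hp1, hrp, ho2⟩ := hcr.symm.last hF
  have hfW : f ∈ ws V q := (mem_nn.mp hf).1
  refine EndD.false (T := T) (V := V) (z := z) (nv := fun L x a => NV x L a) (g₀ := g) (p := p) (q := q) (r := r)
    (f := f) ?_
  exact
    { fr := hF
      pL := hp
      rL := hr
      p1 := hp1
      r1 := hr1
      rp := hrp
      qq := hcr.path.right
      fW := hfW
      fo := hF.ws_le_o2_of_pth hcr.min m (by omega) q r hpath hfW
      fr0 := by
        rw [mem_centralizer_iff]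
        intro b hb
        exact (hcr.min m (by omega) q r hpath f hfW b hb).symm
      fk := hfk
      mem := fun g x a ha => hc.mem ha
      ne := fun g x a ha => hc.nin ha
      ex := fun g x hx hx1 => hc.ex hx hx1
      uniq := fun g x a b ha hb => hc.uniq ha hb
      conj := fun k g x a ha => hc.conj k ha
      one := fun x a hx hx1 ha => h1 g q r x a hr hr1 ⟨m, by omega, hpath⟩ hx hx1 ha f hfW
      five := fun g x a hpg hx hx1 hxp hxq ha => h5 p q f g x a hcr hf hpg hx hx1 hxp hxq ha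
      six := fun g g' x x' a a' hp' hx hx1 hxp hp'' hx' hx'1 hx'p hxx hne hne' ha ha' =>
        hs p x x' g g' a a' hp' hx hp'' hx' hp1 hx1 hx'1 hxp hx'p hne hne' hxx ha ha' }

/-- **(7)** -/
theorem end_false [Finite G] (h : Wz T V z n) (hc : Can V NV) (h1 : One V NV n) (h5 : Five V NV n)
    (hs : SZero V NV) (hcr : Cr V n p q) (hf : f ∈ nn (ws V q) (kq V q))
    (hfp : ∃ w ∈ ws V p, f * w ≠ w * f) : False := by
  refine end_false' h.fr h.two hc h1 h5 hs hcr hf ?_
  intro hk
  obtain ⟨w, hw, hne⟩ := hfp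
  exact hne (h.kq_cent hcr (mem_nn.mp hf).1 hk w hw)

end Cfsg.Agent.Omega.NO3S.WZero
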