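import Cfsg.Agent.Omega.NO3S.WZero.Wp

/-!
# The world W0: (4) and (5) of #21024 (helper56)

`(p, q)` critical, `W^q_p := ⟨W_p, n_{x,px} : x ∼ p, x ∉ W_q⟩ ≤ W'_p`:

* `Wz.four` (4) : `W^q_p = W_p (W^q_p ∩ K_q)` ((NO) for `W^q_p` on `M_q` and exactness);
* `Wz.five` (5) : `Five V NV n`.
-/

set_option autoImplicit false

namespace Cfsg.Agent.Omega.NO3S.WZero

open Subgroup Cfsg Cfsg.Agent.ZN Cfsg.Agent.MinSimple.Geo Cfsg.Agent.Omega.CaseL Cfsg.Agent.Omega.NO3S.TwoOne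
open Cfsg.Agent.Omega.NO3S.Pt
open Cfsg.Agent.Omega.NO3S.Dual (nn mem_nn DW mem_sup_of_comm)
open Cfsg.Agent.ZN.Block (conj_mem_of_normalizer conj_mem_of_normalizer' le_normalizer_of_forall
  mem_normalizer_of)

universe u

variable {G : Type u} [Group G] {T V : Subgroup G} {z : G} {n : ℕ} {NV : G → Subgroup G → G → Prop}

/-- `W^q_p` -/
def Wq (V : Subgroup G) (NV : G → Subgroup G → G → Prop) (p q : G) : Subgroup G :=
  closure ({a | ∃ g x, p ∈ cj g V ∧ x ∈ cj g V ∧ x ≠ 1 ∧ x ∉ ws V q ∧ NV x (cj g V) a} ∪ (ws V p : Set G))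

theorem wq_le_wp (V : Subgroup G) (NV : G → Subgroup G → G → Prop) (p q : G) : Wq V NV p q ≤ Wp V NV p := by
  unfold Wq
  rw [closure_le]
  rintro a (⟨g, x, hp, hx, hx1, -, ha⟩ | ha)
  · exact mem_wp hp hx hx1 ha
  · exact ws_le_wp V NV p ha

theorem ws_le_wq (V : Subgroup G) (NV : G → Subgroup G → G → Prop) (p q : G) : ws V p ≤ Wq V NV p q :=
  fun _ ha => subset_closure (Or.inr ha)

theorem mem_wq {p q g x a : G} (hp : p ∈ cj g V) (hx : x ∈ cj g V) (hx1 : x ≠ 1) (hxq : x ∉ ws V q)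
    (ha : NV x (cj g V) a) : a ∈ Wq V NV p q := subset_closure (Or.inl ⟨g, x, hp, hx, hx1, hxq, ha⟩)

/-- `W^q_p` centralises `C_{W_q}(W_p)` -/
theorem Wz.wq_cent [Finite G] (h : Wz T V z n) (hc : Can V NV) {p q : G} (_ : Cr V n p q)
    (hCq : Wp V NV p ≤ centralizer ({q} : Set G)) :
    ∀ a ∈ Wq V NV p q, ∀ b ∈ ce V q p, a * b = b * a := by
  have hkey : Wq V NV p q ≤ centralizer ((ce V q p : Subgroup G) : Set G) := by
    unfold Wq
    rw [closure_le]
    rintro a ha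
    rw [SetLike.mem_coe, mem_centralizer_iff]
    intro b hb
    have hb' := mem_ce.1 hb
    rcases ha with ⟨g, x, hp, hx, hx1, hxq, ha⟩ | ha
    · -- `b` centralises the line of `a`
      have hxx : Col V x x := col_of hx hx1 hx hx1
      have h1 : b ∈ centralizer ((cj g V : Subgroup G) : Set G) := by
        rw [mem_centralizer_iff]
        intro v hv
        exact (hb'.2 v (h.fr.line_le_ws hp hv)).symm
      have h2 := comm_zpowers_of h.fr hxx (can_ws hc ha) (can_fix' hc hx ha h1)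
      have h3 : a * b * a⁻¹ * b⁻¹ ∈ ws V q := by
        refine mul_mem (conj_mem_of_normalizer (centralizer_le_normalizer_ws V q) ?_ hb'.1) (inv_mem hb'.1)
        exact hCq (mem_wp hp hx hx1 ha)
      rcases (mem_zpowers_iff_of_mul_self (h.fr.pt_sq hxx)).1 h2 with e | e
      · calc b * a = (a * b * a⁻¹ * b⁻¹)⁻¹ * (a * b) := by group
          _ = a * b := by rw [e, inv_one, one_mul]
      · rw [e] at h3
        exact absurd h3 hxq
    · exact hb'.2 a ha
  intro a ha b hb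
  exact (mem_centralizer_iff.1 (hkey ha) b hb).symm

/-- `B ≤ H ⊔ N` if `|B : N| ≤ |H : H ∩ N|` -/
theorem le_sup_of_relIndex [Finite G] {B H N : Subgroup G} (hHB : H ≤ B) (hNB : N ≤ B)
    (h : N.relIndex B ≤ N.relIndex H) : B ≤ H ⊔ N := by
  have h1 : N.relIndex H ≤ N.relIndex (H ⊔ N) :=
    relIndex_le_of_le_right le_sup_left index_ne_zero_of_finite
  have h2 := relIndex_mul_relIndex N (H ⊔ N) B le_sup_right (sup_le hHB hNB)
  have h3 : N.relIndex (H ⊔ N) ≠ 0 := index_ne_zero_of_finite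
  have h4 : (H ⊔ N).relIndex B ≠ 0 := index_ne_zero_of_finite
  have h5 : (H ⊔ N).relIndex B = 1 := by
    have h6 : N.relIndex (H ⊔ N) * (H ⊔ N).relIndex B ≤ N.relIndex (H ⊔ N) * 1 := by
      rw [h2, mul_one]
      exact h.trans h1
    have := Nat.le_of_mul_le_mul_left h6 (Nat.pos_of_ne_zero h3)
    omega
  exact relIndex_eq_one.1 h5

/-- `W'_p ≤ O₂(C_G(L))`, `L` the last line of a critical pair -/
theorem Wz.wp_le_line [Finite G] (h : Wz T V z n) (hc : Can V NV) {p q : G} (hcr : Cr V n p q) :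
    ∃ g, q ∈ cj g V ∧ q ≠ 1 ∧ Wp V NV p ≤ o2 (centralizer ((cj g V : Subgroup G) : Set G)) := by
  have hm := hcr.min
  obtain ⟨m, rfl⟩ := Nat.exists_eq_add_of_le' (le_trans one_le_two h.two)
  obtain ⟨y', g, hp, hy', hy, hy'1, hy1, -, -⟩ := hcr.last h.fr
  exact ⟨g, hy, hy1, (h.wp_le_o2 hm hc m (by omega) p y' hp).trans (o2_cent_le_line h.fr hy')⟩

/-- **(4)** : every element of `W^q_p` is `w s`, `w ∈ W_p`, `s ∈ W^q_p ∩ K_q` -/
theorem Wz.four [Finite G] (h : Wz T V z n) (hc : Can V NV) {p q : G} (hcr : Cr V n p q) {a : G}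
    (ha : a ∈ Wq V NV p q) : ∃ w ∈ ws V p, ∃ s ∈ Wq V NV p q, s ∈ kq V q ∧ a = w * s := by
  have hm := hcr.min
  have hpp := hcr.path.left
  have hqq := hcr.path.right
  obtain ⟨g, hq, hq1, hle⟩ := h.wp_le_line hc hcr
  have hCq : Wp V NV p ≤ centralizer ({q} : Set G) := by
    refine hle.trans ((o2_le _).trans fun c hc => ?_)
    rw [mem_centralizer_singleton_iff]
    exact (mem_centralizer_iff.1 hc q hq).symm
  have hWC : Wq V NV p q ≤ centralizer ({q} : Set G) := (wq_le_wp V NV p q).trans hCq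
  set B := Wq V NV p q with hB
  set N := kx V B hWC with hN
  have h1 := h.noov g q hq hq1 B ((wq_le_wp V NV p q).trans hle)
    (fun b hb => h.wp_sq hm hc hpp b (wq_le_wp V NV p q hb)) N (fx h.fr hqq B) (fun b => mem_kx)
    (fun b => mem_fx)
  -- `C_{W_q}(W_p) ≤ C`
  have h2 : ce V q p ≤ fx h.fr hqq B := by
    intro b hb
    refine mem_fx.2 ⟨(mem_ce.1 hb).1, fun a ha => ?_⟩
    rw [h.wq_cent hc hcr hCq a ha b hb]
    simp
  have h3 : N.relIndex B ≤ (ce V p q).relIndex (ws V p) := by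
    rw [← h.exact hcr]
    exact h1.trans (relIndex_anti h2)
  have h4 : (ce V p q).relIndex (ws V p) ≤ N.relIndex (ws V p) := by
    rw [← inf_relIndex_right N (ws V p)]
    refine relIndex_anti ?_
    rintro w ⟨hw, hw'⟩
    rw [mem_ce]
    exact ⟨hw', h.cent_of hcr.symm hw' hw.2⟩
  have hNB : N ≤ B := fun b hb => hb.1
  have h5 := le_sup_of_relIndex (ws_le_wq V NV p q) hNB (h3.trans h4)
  obtain ⟨w, hw, s, hs, e⟩ := mem_sup_of_comm (h.wp_comm' hm hc hpp) (ws_le_wp V NV p)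
    (hNB.trans (wq_le_wp V NV p q)) (h5 ha)
  refine ⟨w, hw, s, hs.1, ?_, e⟩
  have hsq : s * s = 1 := h.wp_sq hm hc hpp s (wq_le_wp V NV p q hs.1)
  have hsi : s⁻¹ = s := inv_eq_of_mul_eq_one_left hsq
  refine ⟨hWC hs.1, hs.2, fun u hu => ?_⟩
  have := hs.2 u hu
  rwa [hsi] at this ⊢

/-- **(5)** -/
theorem Wz.five [Finite G] (h : Wz T V z n) (hc : Can V NV) : Five V NV n := by
  intro p q f g x c hcr hf hp hx hx1 hxp hxq hnv
  have hm := hcr.min
  have hpp := hcr.path.left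
  obtain ⟨w, hw, s, hs, hsk, e⟩ := h.four hc hcr (mem_wq hp hx hx1 hxq hnv)
  have hf' := mem_nn.1 hf
  -- `f` normalises `W_p`
  have hfw : f * w * f⁻¹ ∈ ws V p :=
    conj_mem_of_normalizer (centralizer_le_normalizer_ws V p) (h.le_cent hcr.symm hf'.1) hw
  have hfs : s * f = f * s := hf'.2 s hsk
  have hsW : s ∈ Wp V NV p := wq_le_wp V NV p q hs
  have h1 : s * (f * w * f⁻¹) = (f * w * f⁻¹) * s :=
    h.wp_comm' hm hc hpp s hsW _ (ws_le_wp V NV p hfw)
  have h2 : s * s = 1 := h.wp_sq hm hc hpp s hsW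
  have h3 : c * (f * c * f⁻¹) = w * (f * w * f⁻¹) := by
    rw [e]
    calc w * s * (f * (w * s) * f⁻¹) = w * (s * (f * w * f⁻¹)) * (f * s * f⁻¹) := by group
      _ = w * ((f * w * f⁻¹) * s) * s := by
        rw [h1, ← hfs]; group
      _ = w * (f * w * f⁻¹) * (s * s) := by group
      _ = w * (f * w * f⁻¹) := by rw [h2, mul_one]
  rw [h3]
  exact mul_mem hw hfw

end Cfsg.Agent.Omega.NO3S.WZero
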