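import Cfsg.Agent.Omega.NO3S.WZero.Exact
import Cfsg.Agent.Omega.NO3S.TwoMid.Alpha
import Cfsg.Agent.Omega.NO3S.TwoOne.Four

/-!
# The world W0: (T4) (helper975 #19384, in the form of #21024)

If `F = {λ}` for all flags (a point `y ∼ z` and a `C_G(z)`-conjugate of it are never congruent modulo `N_z` unless
they are congruent modulo `⟨z⟩`), then `N_q` centralises `W_p` for all critical pairs `(p, q)`.

* `Wz.mover` : every `f ∈ W_p ∖ C(W_q)` moves a vector of `M~_λ = {w : [w, C_r] ≤ ⟨r⟩ N_q}` modulo `N_q`;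
* `Wz.nn_le_ce` : counting (exactness of `(p, q)`): `N_q ≤ C(W_p)`;
* `Wz.tfour` : the form used in #21024.
-/

set_option autoImplicit false
set_option linter.unusedSectionVars false

namespace Cfsg.Agent.Omega.NO3S.WZero

open Subgroup Cfsg Cfsg.Agent.ZN Cfsg.Agent.MinSimple.Geo Cfsg.Agent.Omega.CaseL Cfsg.Agent.Omega.NO3S.TwoOne
open Cfsg.Agent.Omega.NO3S.Pt
open Cfsg.Agent.Omega.NO3S.Dual (nn mem_nn DW mem_sup_of_comm)
open Cfsg.Agent.Omega.NO3S.TwoMid.Alpha (Iv exists_iv)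
open Cfsg.Agent.ZN.Block (conj_mem_of_normalizer conj_mem_of_normalizer' le_normalizer_of_forall
  mem_normalizer_of)

universe u

variable {G : Type u} [Group G] {T V : Subgroup G} {z : G} {n : ℕ}

namespace TFour

theorem conj_mem_nn {q w : G} (g : G) (hw : w ∈ nn (ws V q) (kq V q)) :
    g * w * g⁻¹ ∈ nn (ws V (g * q * g⁻¹)) (kq V (g * q * g⁻¹)) := by
  rw [mem_nn] at hw ⊢
  refine ⟨conj_mem_ws g hw.1, fun k hk => ?_⟩
  have h1 : g⁻¹ * k * g ∈ kq V q := by
    have := conj_mem_kq g⁻¹ hk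
    have e : g⁻¹ * (g * q * g⁻¹) * g⁻¹⁻¹ = q := by group
    rwa [e, inv_inv] at this
  have h2 := hw.2 _ h1
  calc k * (g * w * g⁻¹) = g * (g⁻¹ * k * g * w) * g⁻¹ := by group
    _ = g * (w * (g⁻¹ * k * g)) * g⁻¹ := by rw [h2]
    _ = g * w * g⁻¹ * k := by group

theorem conj_mem_nn' {q w g : G} (hg : g * q = q * g) (hw : w ∈ nn (ws V q) (kq V q)) :
    g * w * g⁻¹ ∈ nn (ws V q) (kq V q) := by
  have := conj_mem_nn g hw
  rwa [hg, mul_inv_cancel_right] at this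

theorem mem_zp {q a : G} (hq : q * q = 1) (ha : a ∈ zpowers q) : a = 1 ∨ a = q :=
  (mem_zpowers_iff_of_mul_self hq).mp ha

/-- no point collinear with `q` is in `N_q` -/
theorem not_mem_nn (h : Fr T V z) {q y : G} (hy : Col V q y) (hne : y ≠ q) : y ∉ nn (ws V q) (kq V q) := by
  intro hn
  obtain ⟨g, hq, hy', hq1, hy1⟩ := hy
  obtain ⟨k, hk, -, hmv⟩ := h.mover_cj hq hq1
  have h1 := hmv y hy' hy1 hne
  have h2 := (mem_nn.1 hn).2 k hk
  rw [h2, mul_inv_cancel_right] at h1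
  exact hq1 (by simpa using h1.symm)

/-- transport of `F = {λ}` -/
theorem trF (h : Fr T V z)
    (nF : ¬ ∃ g ∈ centralizer ({z} : Set G), ∃ y ∈ V, y ∉ zpowers z ∧
      y * (g * y * g⁻¹) ∈ nn (ws V z) (kq V z) ∧ y * (g * y * g⁻¹) ∉ zpowers z) {q y c : G} (hy : Col V q y)
    (hne : y ≠ q) (hc : c * q = q * c) (hN : y * (c * y * c⁻¹) ∈ nn (ws V q) (kq V q)) :
    c * y * c⁻¹ = y ∨ c * y * c⁻¹ = q * y := by
  obtain ⟨g, hq, hy', hq1, hy1⟩ := id hy
  obtain ⟨k, hk, hkz, -⟩ := h.flag hq hq1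
  have hqq : q * q = 1 := h.pt_sq hy.left
  have hyy : y * y = 1 := h.pt_sq hy.right
  have hz : k⁻¹ * q * k = z := by rw [← hkz]; group
  have hyV : k⁻¹ * y * k ∈ V := by rw [← hk] at hy'; exact mem_cj.1 hy'
  have hN' := conj_mem_nn k⁻¹ hN
  rw [inv_inv, hz] at hN'
  have e : k⁻¹ * (y * (c * y * c⁻¹)) * k =
      k⁻¹ * y * k * ((k⁻¹ * c * k) * (k⁻¹ * y * k) * (k⁻¹ * c * k)⁻¹) := by group
  rw [e] at hN'
  have hcz : k⁻¹ * c * k ∈ centralizer ({z} : Set G) := by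
    rw [mem_centralizer_singleton_iff, ← hz]
    calc k⁻¹ * c * k * (k⁻¹ * q * k) = k⁻¹ * (c * q) * k := by group
      _ = k⁻¹ * (q * c) * k := by rw [hc]
      _ = k⁻¹ * q * k * (k⁻¹ * c * k) := by group
  have hzz : z * z = 1 := h.ln.zz
  have hyz : k⁻¹ * y * k ∉ zpowers z := by
    intro hm
    rcases mem_zp hzz hm with e1 | e1
    · apply hy1
      calc y = k * (k⁻¹ * y * k) * k⁻¹ := by group
        _ = 1 := by rw [e1]; group
    · apply hne
      calc y = k * (k⁻¹ * y * k) * k⁻¹ := by group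
        _ = q := by rw [e1, hkz]
  have h3 : k⁻¹ * y * k * ((k⁻¹ * c * k) * (k⁻¹ * y * k) * (k⁻¹ * c * k)⁻¹) ∈ zpowers z := by
    by_contra hcon
    exact nF ⟨_, hcz, _, hyV, hyz, hN', hcon⟩
  rw [← e] at h3
  have h4 : y * (c * y * c⁻¹) = 1 ∨ y * (c * y * c⁻¹) = q := by
    rcases mem_zp hzz h3 with e1 | e1
    · left
      calc y * (c * y * c⁻¹) = k * (k⁻¹ * (y * (c * y * c⁻¹)) * k) * k⁻¹ := by group
        _ = 1 := by rw [e1]; group
    · right
      calc y * (c * y * c⁻¹) = k * (k⁻¹ * (y * (c * y * c⁻¹)) * k) * k⁻¹ := by group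
        _ = q := by rw [e1, hkz]
  have h5 : c * y * c⁻¹ = y * (y * (c * y * c⁻¹)) := by rw [← mul_assoc, hyy, one_mul]
  rcases h4 with e1 | e1
  · left; rw [h5, e1, mul_one]
  · right; rw [h5, e1, h.col_comm hy]

/-- (LIFT) -/
theorem iv_eq_one [Finite G] {b f v r : G} (i : Iv b f v) (hbb : b * b = 1)
    (hfo : f ∈ o2 (centralizer ({r} : Set G))) (hr : v * r * v⁻¹ = r ∨ v * r * v⁻¹ = b * r) : v = 1 := by
  have h2 : v * v * r = r * (v * v) := by
    rcases hr with e | e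
    · have h3 := Dual.comm_of_conj_eq e
      rw [mul_assoc, h3, ← mul_assoc, h3, mul_assoc]
    · apply Dual.comm_of_conj_eq
      calc v * v * r * (v * v)⁻¹ = v * (v * r * v⁻¹) * v⁻¹ := by group
        _ = v * b * (r * v⁻¹) := by rw [e]; group
        _ = b * (v * r * v⁻¹) := by rw [i.cb]; group
        _ = r := by rw [e, ← mul_assoc, hbb, one_mul]
  have h4 : v * v * f * (v * v)⁻¹ * f⁻¹ ∈ o2 (centralizer ({r} : Set G)) :=
    mul_mem (conj_mem_of_normalizer (le_normalizer_o2 _) (mem_centralizer_singleton_iff.mpr h2) hfo) (inv_mem hfo)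
  have hi := i.symm.inv
  rw [inv_inv] at hi
  have h5 : v * v * f * (v * v)⁻¹ * f⁻¹ = v ^ 4 := by
    calc v * v * f * (v * v)⁻¹ * f⁻¹ = v * v * (f * v⁻¹ * f⁻¹) * (f * v⁻¹ * f⁻¹) := by group
      _ = v ^ 4 := by rw [hi, TwoMid.Alpha.pow_four']
  rw [h5] at h4
  obtain ⟨m, hm⟩ := isPGroup_o2 (centralizer ({r} : Set G)) ⟨v ^ 4, h4⟩
  have h6 : v ^ (4 * 2 ^ m) = 1 := by
    rw [pow_mul]
    exact congrArg Subtype.val hm
  have h7 : orderOf v ∣ 4 * 2 ^ m := orderOf_dvd_of_pow_eq_one h6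
  have h8 : Nat.Coprime (orderOf v) (4 * 2 ^ m) := by
    have : 4 * 2 ^ m = 2 ^ (m + 2) := by rw [pow_add]; ring
    rw [this]
    exact Nat.Coprime.pow_right _ (Nat.coprime_two_right.2 i.odd)
  exact orderOf_eq_one_iff.mp (Nat.eq_one_of_dvd_coprimes h8 dvd_rfl h7)

/-- an odd element lies in a subgroup if its fourth power does -/
theorem mem_of_pow_four {H : Subgroup G} {v : G} (ho : Odd (orderOf v)) (h4 : v ^ 4 ∈ H) : v ∈ H := by
  have h8 : Nat.Coprime (orderOf v) 4 := by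
    have : 4 = 2 ^ 2 := rfl
    rw [this]
    exact Nat.Coprime.pow_right _ (Nat.coprime_two_right.2 ho)
  have h1 : v ∈ zpowers (v ^ 4) := by
    rw [mem_zpowers_pow_iff]
    exact h8.symm
  exact (zpowers_le.2 h4) h1


section pair

variable {p q r : G}

theorem conj_mem_centralizer_ws {r : G} (v : G) {c : G} (hc : c ∈ centralizer (ws V r : Set G)) :
    v * c * v⁻¹ ∈ centralizer (ws V (v * r * v⁻¹) : Set G) := by
  rw [mem_centralizer_iff] at hc ⊢
  intro a ha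
  have h1 : v⁻¹ * a * v ∈ ws V r := by
    have := conj_mem_ws v⁻¹ ha
    have e : v⁻¹ * (v * r * v⁻¹) * v⁻¹⁻¹ = r := by group
    rwa [e, inv_inv] at this
  have h2 := hc _ h1
  calc a * (v * c * v⁻¹) = v * (v⁻¹ * a * v * c) * v⁻¹ := by group
    _ = v * (c * (v⁻¹ * a * v)) * v⁻¹ := by rw [h2]
    _ = v * c * v⁻¹ * a := by group

theorem inv_comm_of {a b : G} (h : a * b = b * a) : a⁻¹ * b = b * a⁻¹ := by
  rw [inv_mul_eq_iff_eq_mul, ← mul_assoc, h, mul_inv_cancel_right]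

/-- the mover -/
theorem mover [Finite G] (h : Wz T V z n)
    (nF : ¬ ∃ g ∈ centralizer ({z} : Set G), ∃ y ∈ V, y ∉ zpowers z ∧
      y * (g * y * g⁻¹) ∈ nn (ws V z) (kq V z) ∧ y * (g * y * g⁻¹) ∉ zpowers z)
    (hc : Cr V n q p) (hcol : Col V q r) (hrq : r ≠ q) (hr : Pth V (n - 1) r p) {f : G} (hf : f ∈ ws V p)
    (hfc : f ∉ ce V p q) :
    ∃ x ∈ ws V q, (∀ c ∈ centralizer (ws V r : Set G), c * x * c⁻¹ * x⁻¹ ∈ zpowers r ⊔ nn (ws V q) (kq V q)) ∧
      f * x * f⁻¹ * x⁻¹ ∉ nn (ws V q) (kq V q) := by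
  have hF := h.fr
  have hn2 := h.two
  have hqq : q * q = 1 := hF.pt_sq hcol.left
  have hrr : r * r = 1 := hF.pt_sq hcol.right
  have hfC : f ∈ centralizer ({q} : Set G) := h.le_cent hc.symm hf
  have hfq : f * q = q * f := mem_centralizer_singleton_iff.1 hfC
  have hff : f * f = 1 := hF.ws_sq hc.path.right f hf
  have hfk : f ∉ kq V q := fun hk => hfc (mem_ce.2 ⟨hf, fun b hb => h.kq_cent hc hf hk b hb⟩)
  have hcomr : Com V r p := hc.min (n - 1) (by omega) _ _ hr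
  have hfo : f ∈ o2 (centralizer ({r} : Set G)) :=
    hF.ws_le_o2_of_pth hc.min (n - 1) (by omega) _ _ hr.symm hf
  have hfr : f * r = r * f := (hcomr r (hF.mem_ws_self hcol.right) f hf).symm
  have hfW : f ∈ centralizer (ws V r : Set G) := mem_centralizer_iff.2 fun a ha => hcomr a ha f hf
  obtain ⟨v, i, hv1⟩ := exists_iv hF hcol.left hfq hff hfk
  have hvq : v * q * v⁻¹ = q := Dual.conj_eq_of_comm i.cb
  have hvq' : v⁻¹ * q * v = q := by
    calc v⁻¹ * q * v = v⁻¹ * (v * q * v⁻¹) * v := by rw [hvq]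
      _ = q := by group
  have hinv : f * v⁻¹ * f⁻¹ = v := by have := i.symm.inv; rwa [inv_inv] at this
  -- `x`, `x'`
  obtain ⟨x, hx⟩ : ∃ x, x = v * r * v⁻¹ := ⟨_, rfl⟩
  obtain ⟨x', hx'⟩ : ∃ x', x' = v⁻¹ * r * v := ⟨_, rfl⟩
  have hfx : f * x * f⁻¹ = x' := by
    rw [hx, hx']
    calc f * (v * r * v⁻¹) * f⁻¹ = (f * v * f⁻¹) * (f * r * f⁻¹) * (f * v⁻¹ * f⁻¹) := by group
      _ = v⁻¹ * r * v := by rw [i.inv, hinv, Dual.conj_eq_of_comm hfr]
  have hcx : Col V q x := by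
    have := hcol.conj v
    rwa [hvq, ← hx] at this
  have hcx' : Col V q x' := by
    have := hcol.conj v⁻¹
    rw [inv_inv, hvq', ← hx'] at this
    exact this
  have hxq : x ≠ q := by
    intro e
    apply hrq
    calc r = v⁻¹ * (v * r * v⁻¹) * v := by group
      _ = q := by rw [← hx, e, hvq']
  have hxq' : x' ≠ q := by
    intro e
    apply hrq
    calc r = v * (v⁻¹ * r * v) * v⁻¹ := by group
      _ = q := by rw [← hx', e, hvq]
  have one : ∀ {w : G}, Iv q f w → (w * r * w⁻¹ = r ∨ w * r * w⁻¹ = q * r) → w = 1 :=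
    fun i' => iv_eq_one i' hqq hfo
  have hv2 : v * v ≠ 1 := by
    intro e
    apply hv1
    have h1 : orderOf v ∣ 2 := orderOf_dvd_of_pow_eq_one (by rw [pow_two, e])
    have h2 : Nat.Coprime (orderOf v) 2 := Nat.coprime_two_right.2 i.odd
    exact orderOf_eq_one_iff.mp (Nat.eq_one_of_dvd_coprimes h2 dvd_rfl h1)
  set N := nn (ws V q) (kq V q) with hN
  have hW := hF.ws_comm hcol.left
  have hsq := hF.ws_sq hcol.left
  have hxw : x ∈ ws V q := hF.mem_ws_of_col hcx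
  have hxw' : x' ∈ ws V q := hF.mem_ws_of_col hcx'
  have hrw : r ∈ ws V q := hF.mem_ws_of_col hcol
  have hxx : x * x = 1 := hsq x hxw
  have hxx' : x' * x' = 1 := hsq x' hxw'
  -- (i) - (iii)
  have i1 : r * x ∉ N := by
    intro hm
    rw [hx] at hm
    exact hv1 (one i (trF hF nF hcol hrq i.cb hm))
  have i2 : r * x' ∉ N := by
    intro hm
    have e : x' = v⁻¹ * r * v⁻¹⁻¹ := by rw [hx', inv_inv]
    rw [e] at hm
    exact hv1 (inv_eq_one.1 (one i.symm (trF hF nF hcol hrq i.symm.cb hm)))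
  have i3 : x' * x ∉ N := by
    intro hm
    have h1 := conj_mem_nn' i.cb hm
    have e : v * (x' * x) * v⁻¹ = r * (v * v * r * (v * v)⁻¹) := by rw [hx, hx']; group
    rw [← hN, e] at h1
    have i' : Iv q f (v * v) := by have := i.pow 2; rwa [pow_two] at this
    exact hv2 (one i' (trF hF nF hcol hrq i'.cb h1))
  -- no (D)
  have hD : ¬ (ws V x ⊓ ws V x' ≤ ws V q) := by
    have h1 := h.noD q p r hc hcol hrq hr f v hf i.cb i.odd i.inv hv1
    rw [← hx, hfx] at h1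
    refine h1 ?_
    intro e
    apply i3
    rw [e, hxx]
    exact one_mem _
  have hG := (hF.lemD hcx hcx' hxq hxq').resolve_left hD
  set Gs := centralizer (ws V x : Set G) ⊔ centralizer (ws V x' : Set G) with hGs
  -- `v ∈ Gs`
  have c1 : v * f * v⁻¹ ∈ centralizer (ws V x : Set G) := by
    rw [hx]
    exact conj_mem_centralizer_ws v hfW
  have c2 : v⁻¹ * f * v ∈ centralizer (ws V x' : Set G) := by
    have := conj_mem_centralizer_ws v⁻¹ hfW
    rw [inv_inv] at this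
    rwa [hx']
  have hvG : v ∈ Gs := by
    refine mem_of_pow_four i.odd ?_
    have e1 : v * f * v⁻¹ = v * v * f := by
      calc v * f * v⁻¹ = v * (f * v⁻¹ * f⁻¹) * f := by group
        _ = v * v * f := by rw [hinv]
    have e2 : v⁻¹ * f * v = v⁻¹ * v⁻¹ * f := by
      calc v⁻¹ * f * v = v⁻¹ * (f * v * f⁻¹) * f := by group
        _ = v⁻¹ * v⁻¹ * f := by rw [i.inv]
    have e3 : v ^ 4 = (v * f * v⁻¹) * (v⁻¹ * f * v)⁻¹ := by
      rw [e1, e2, TwoMid.Alpha.pow_four', mul_inv_rev, mul_inv_rev, inv_inv]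
      calc v * v * v * v = v * v * (f * f⁻¹) * (v * v) := by group
        _ = v * v * f * (f⁻¹ * (v * v)) := by group
    rw [e3]
    exact mul_mem (mem_sup_left c1) (inv_mem (mem_sup_right c2))
  have hcG : ∀ c ∈ centralizer (ws V r : Set G), c ∈ Gs := by
    intro c hc'
    have h1 : v * c * v⁻¹ ∈ centralizer (ws V x : Set G) := by
      rw [hx]; exact conj_mem_centralizer_ws v hc'
    have h2 : c = v⁻¹ * (v * c * v⁻¹) * v := by group
    rw [h2]
    exact mul_mem (mul_mem (inv_mem hvG) (mem_sup_left h1)) hvG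
  -- elements of `P`
  have hP : ∀ y ∈ closure {x, x'} ⊔ N, y ∈ N ∨ x * y ∈ N ∨ x' * y ∈ N ∨ x * x' * y ∈ N := by
    intro y hy
    have hle : closure {x, x'} ≤ ws V q := by
      rw [closure_le]
      rintro a (rfl | rfl)
      · exact hxw
      · exact hxw'
    obtain ⟨s, hs, t, ht, rfl⟩ := mem_sup_of_comm hW hle inf_le_left hy
    have h4 : s = 1 ∨ s = x ∨ s = x' ∨ s = x * x' := by
      have h5 : closure ({x, x'} : Set G) ≤ zpowers x ⊔ zpowers x' := by
        rw [closure_le]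
        rintro a (rfl | rfl)
        · exact mem_sup_left (mem_zpowers _)
        · exact mem_sup_right (mem_zpowers _)
      obtain ⟨a, ha, b, hb, rfl⟩ := mem_sup_of_comm hW (zpowers_le.2 hxw) (zpowers_le.2 hxw') (h5 hs)
      rcases mem_zp hxx ha with rfl | rfl <;> rcases mem_zp hxx' hb with rfl | rfl <;> simp
    have ht' := ht
    rcases h4 with rfl | rfl | rfl | rfl
    · left; rwa [one_mul]
    · right; left; rw [← mul_assoc, hxx, one_mul]; exact ht
    · right; right; left; rw [← mul_assoc, hxx', one_mul]; exact ht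
    · right; right; right
      rw [← mul_assoc, hsq _ (mul_mem hxw hxw'), one_mul]; exact ht
  have hxN : x ∉ N := not_mem_nn hF hcx hxq
  -- (iv)
  have i4 : x * x' * r ∈ N := by
    have h1 := (hG v⁻¹ (inv_mem hvG)).1
    have e : v⁻¹ * x * v⁻¹⁻¹ = r := by rw [hx]; group
    rw [e] at h1
    rcases hP r h1 with h2 | h2 | h2 | h2
    · exact absurd h2 (not_mem_nn hF hcol hrq)
    · rw [hW x hxw r hrw] at h2; exact absurd h2 i1
    · rw [hW x' hxw' r hrw] at h2; exact absurd h2 i2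
    · exact h2
  refine ⟨x, hxw, fun c hc' => ?_, ?_⟩
  · have hcr : c * r * c⁻¹ = r :=
      Dual.conj_eq_of_comm (mem_centralizer_iff.1 hc' r (hF.mem_ws_self hcol.right)).symm
    have hcq : c * q = q * c := (mem_centralizer_iff.1 hc' q (hF.mem_ws_of_col hcol.symm)).symm
    have hyw : c * x * c⁻¹ ∈ ws V q := by
      have := conj_mem_ws c hxw
      rwa [hcq, mul_inv_cancel_right] at this
    have hxi : x⁻¹ = x := inv_eq_of_mul_eq_one_left hxx
    rw [hxi]
    have h1 := (hG c (hcG c hc')).1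
    rcases hP _ h1 with h2 | h2 | h2 | h2
    · exfalso
      apply hxN
      have h3 := conj_mem_nn' (inv_comm_of hcq) h2
      have e : c⁻¹ * (c * x * c⁻¹) * c⁻¹⁻¹ = x := by group
      rwa [e] at h3
    · rw [hW _ hyw _ hxw]; exact mem_sup_right h2
    · have e : c * x * c⁻¹ * x = r * ((x * x' * r) * (x' * (c * x * c⁻¹)) * (x * x)) := by
        have a1 := hW x' hxw' r hrw
        have a2 := hW x hxw r hrw
        generalize hy : c * x * c⁻¹ = y at hyw
        have a4 := hW x hxw y hyw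
        calc y * x = x * y := a4.symm
          _ = x * (r * r) * (x' * x') * y := by rw [hrr, hxx', mul_one, mul_one]
          _ = (x * r) * (r * x') * x' * y := by group
          _ = (r * x) * (x' * r) * x' * y := by rw [a2, a1]
          _ = r * ((x * x' * r) * (x' * y) * 1) := by group
          _ = r * ((x * x' * r) * (x' * y) * (x * x)) := by rw [hxx]
      rw [e, hxx, mul_one]
      exact mul_mem (mem_sup_left (mem_zpowers r)) (mem_sup_right (mul_mem i4 h2))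
    · exfalso
      apply i1
      have h3 : r * (c * x * c⁻¹) ∈ N := by
        have e : r * (c * x * c⁻¹) = (x * x' * r) * (x * x' * (c * x * c⁻¹)) := by
          have a1 := hW (x * x') (mul_mem hxw hxw') r hrw
          have a2 := hsq (x * x') (mul_mem hxw hxw')
          rw [a1]
          generalize c * x * c⁻¹ = y
          calc r * y = r * (x * x' * (x * x')) * y := by rw [a2, mul_one]
            _ = r * (x * x') * (x * x' * y) := by group
        rw [e]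
        exact mul_mem i4 h2
      have h4 := conj_mem_nn' (inv_comm_of hcq) h3
      have e : c⁻¹ * (r * (c * x * c⁻¹)) * c⁻¹⁻¹ = r * x := by
        have : c⁻¹ * r * c = r := by
          calc c⁻¹ * r * c = c⁻¹ * (c * r * c⁻¹) * c := by rw [hcr]
            _ = r := by group
        calc c⁻¹ * (r * (c * x * c⁻¹)) * c⁻¹⁻¹ = (c⁻¹ * r * c) * x := by group
          _ = r * x := by rw [this]
      rwa [e] at h4
  · rw [hfx, inv_eq_of_mul_eq_one_left hxx]
    exact i3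

open Classical in
theorem chi_mul {W N : Subgroup G} (hW : ∀ a ∈ W, ∀ b ∈ W, a * b = b * a) (hrW : r ∈ W) (hrr : r * r = 1)
    {t t' : G} (htW : t ∈ W) (ht : t ∈ N ∨ r * t ∈ N) (ht' : t' ∈ N ∨ r * t' ∈ N) :
    (if t * t' ∈ N then (1 : ℤˣ) else -1) = (if t ∈ N then 1 else -1) * (if t' ∈ N then 1 else -1) := by
  by_cases h1 : t ∈ N
  · rw [if_pos h1, one_mul]
    by_cases h2 : t' ∈ N
    · rw [if_pos h2, if_pos (mul_mem h1 h2)]
    · rw [if_neg h2, if_neg fun h3 => h2 ((N.mul_mem_cancel_left h1).1 h3)]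
  · rw [if_neg h1]
    by_cases h2 : t' ∈ N
    · rw [if_pos h2, if_neg fun h3 => h1 ((N.mul_mem_cancel_right h2).1 h3), mul_one]
    · rw [if_neg h2]
      have h3 : t * t' ∈ N := by
        have h4 := mul_mem (ht.resolve_left h1) (ht'.resolve_left h2)
        have e : r * t * (r * t') = t * t' := by
          calc r * t * (r * t') = r * (t * r) * t' := by group
            _ = r * (r * t) * t' := by rw [hW t htW r hrW]
            _ = (r * r) * (t * t') := by group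
            _ = t * t' := by rw [hrr, one_mul]
        rwa [e] at h4
      rw [if_pos h3]; simp

/-- `{w ∈ W : [w, C] ≤ R}` -/
def dd (W R C : Subgroup G) (hW : ∀ a ∈ W, ∀ b ∈ W, a * b = b * a) (hsq : ∀ a ∈ W, a * a = 1)
    (hC : ∀ c ∈ C, ∀ w ∈ W, c * w * c⁻¹ ∈ W) : Subgroup G where
  carrier := {w | w ∈ W ∧ ∀ c ∈ C, c * w * c⁻¹ * w⁻¹ ∈ R}
  one_mem' := ⟨one_mem _, fun a _ => by simp⟩
  mul_mem' := by
    rintro w w' ⟨hw, h1⟩ ⟨hw', h2⟩
    refine ⟨mul_mem hw hw', fun c hc => ?_⟩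
    have e : c * (w * w') * c⁻¹ * (w * w')⁻¹ = (c * w * c⁻¹ * w⁻¹) * (c * w' * c⁻¹ * w'⁻¹) := by
      have h3 : c * w' * c⁻¹ * w'⁻¹ ∈ W := mul_mem (hC c hc w' hw') (inv_mem hw')
      have h4 := hW _ h3 w⁻¹ (inv_mem hw)
      calc c * (w * w') * c⁻¹ * (w * w')⁻¹ = (c * w * c⁻¹) * (c * w' * c⁻¹ * w'⁻¹ * w⁻¹) := by group
        _ = (c * w * c⁻¹) * (w⁻¹ * (c * w' * c⁻¹ * w'⁻¹)) := by rw [h4]
        _ = (c * w * c⁻¹ * w⁻¹) * (c * w' * c⁻¹ * w'⁻¹) := by group
    rw [e]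
    exact mul_mem (h1 c hc) (h2 c hc)
  inv_mem' := by
    rintro w ⟨hw, h1⟩
    have : w⁻¹ = w := inv_eq_of_mul_eq_one_left (hsq w hw)
    rw [this]
    exact ⟨hw, h1⟩

theorem mem_dd {W R C : Subgroup G} {hW : ∀ a ∈ W, ∀ b ∈ W, a * b = b * a} {hsq : ∀ a ∈ W, a * a = 1}
    {hC : ∀ c ∈ C, ∀ w ∈ W, c * w * c⁻¹ ∈ W} {w : G} :
    w ∈ dd W R C hW hsq hC ↔ w ∈ W ∧ ∀ c ∈ C, c * w * c⁻¹ * w⁻¹ ∈ R := Iff.rfl

/-- the count -/
theorem nn_le_ce [Finite G] (h : Wz T V z n)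
    (nF : ¬ ∃ g ∈ centralizer ({z} : Set G), ∃ y ∈ V, y ∉ zpowers z ∧
      y * (g * y * g⁻¹) ∈ nn (ws V z) (kq V z) ∧ y * (g * y * g⁻¹) ∉ zpowers z)
    (hc : Cr V n q p) : nn (ws V q) (kq V q) ≤ ce V q p := by
  classical
  have hF := h.fr
  obtain ⟨r, hcol, hrq, hr⟩ : ∃ r, Col V q r ∧ r ≠ q ∧ Pth V (n - 1) r p := by
    obtain ⟨m, rfl⟩ := Nat.exists_eq_add_of_le' (le_trans one_le_two h.two)
    obtain ⟨y', g, h1, h2, h3, h4, h5, h6, -⟩ := hc.symm.last hF
    exact ⟨y', Col.of_mem h3 h2 h5 h4, h6, h1.symm⟩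
  have hn2 := h.two
  have hW := hF.ws_comm hcol.left
  have hsq := hF.ws_sq hcol.left
  have hrr : r * r = 1 := hF.pt_sq hcol.right
  have hrw : r ∈ ws V q := hF.mem_ws_of_col hcol
  have hcomr : Com V r p := hc.min (n - 1) (by omega) _ _ hr
  set N := nn (ws V q) (kq V q) with hN
  have hNW : N ≤ ws V q := inf_le_left
  have hRW : zpowers r ⊔ N ≤ ws V q := sup_le (zpowers_le.2 hrw) hNW
  have hCq : ∀ c ∈ centralizer (ws V r : Set G), c * q = q * c := fun c hc' =>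
    (mem_centralizer_iff.1 hc' q (hF.mem_ws_of_col hcol.symm)).symm
  have hCr : ∀ c ∈ centralizer (ws V r : Set G), c * r = r * c := fun c hc' =>
    (mem_centralizer_iff.1 hc' r (hF.mem_ws_self hcol.right)).symm
  have hC : ∀ c ∈ centralizer (ws V r : Set G), ∀ w ∈ ws V q, c * w * c⁻¹ ∈ ws V q := by
    intro c hc' w hw
    have := conj_mem_ws c hw
    rwa [hCq c hc', mul_inv_cancel_right] at this
  set D := dd (ws V q) (zpowers r ⊔ N) (centralizer (ws V r : Set G)) hW hsq hC with hD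
  have hA : ∀ a ∈ ws V p, a ∈ centralizer (ws V r : Set G) := fun a ha =>
    mem_centralizer_iff.2 fun b hb => hcomr b hb a ha
  have hR : ∀ t ∈ zpowers r ⊔ N, t ∈ N ∨ r * t ∈ N := by
    intro t ht
    obtain ⟨a, ha, b, hb, rfl⟩ := mem_sup_of_comm hW (zpowers_le.2 hrw) hNW ht
    rcases mem_zp hrr ha with rfl | rfl
    · left; rwa [one_mul]
    · right; rwa [← mul_assoc, hrr, one_mul]
  have hcm : ∀ a ∈ ws V p, ∀ w ∈ D, a * w * a⁻¹ * w⁻¹ ∈ ws V q ∧
      (a * w * a⁻¹ * w⁻¹ ∈ N ∨ r * (a * w * a⁻¹ * w⁻¹) ∈ N) := by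
    intro a ha w hw
    have h1 := (mem_dd.1 hw).2 a (hA a ha)
    exact ⟨hRW h1, hR _ h1⟩
  let s : ↥(ws V p) → ↥D → ℤˣ := fun a w => if (a : G) * w * (a : G)⁻¹ * (w : G)⁻¹ ∈ N then 1 else -1
  have hs : ∀ a w, s a w = 1 ↔ (a : G) * w * (a : G)⁻¹ * (w : G)⁻¹ ∈ N := by
    intro a w
    change (if _ then (1 : ℤˣ) else -1) = 1 ↔ _
    split_ifs with h1
    · simp [h1]
    · simp [h1]
  have hcount := pairing_units s (by
      intro a a' w
      change (if _ then (1 : ℤˣ) else -1) = (if _ then 1 else -1) * (if _ then 1 else -1)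
      have h1 := hcm a a.2 w w.2
      have h2 := hcm a' a'.2 w w.2
      obtain ⟨t, ht⟩ : ∃ t, t = (a' : G) * w * (a' : G)⁻¹ * (w : G)⁻¹ := ⟨_, rfl⟩
      rw [← ht] at h2 ⊢
      have e : ((a * a' : ↥(ws V p)) : G) * w * ((a * a' : ↥(ws V p)) : G)⁻¹ * (w : G)⁻¹ =
          ((a : G) * w * (a : G)⁻¹ * (w : G)⁻¹) * (a * t * (a : G)⁻¹) := by
        have h4 : (a : G) * t * (a : G)⁻¹ ∈ ws V q := hC a (hA a a.2) t h2.1
        rw [hW _ h1.1 _ h4, ht, Subgroup.coe_mul]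
        group
      have hconj : ∀ x ∈ N, (a : G) * x * (a : G)⁻¹ ∈ N := fun x hx =>
        conj_mem_nn' (hCq _ (hA a a.2)) hx
      have hconj' : ∀ x, (a : G) * x * (a : G)⁻¹ ∈ N ↔ x ∈ N := by
        intro x
        refine ⟨fun hx => ?_, hconj x⟩
        have := conj_mem_nn' (inv_comm_of (hCq _ (hA a a.2))) hx
        have e1 : (a : G)⁻¹ * (a * x * (a : G)⁻¹) * (a : G)⁻¹⁻¹ = x := by group
        rwa [e1] at this
      have h5 : (a : G) * t * (a : G)⁻¹ ∈ N ∨ r * ((a : G) * t * (a : G)⁻¹) ∈ N := by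
        rcases h2.2 with h6 | h6
        · left; exact hconj t h6
        · right
          have e1 : r * ((a : G) * t * (a : G)⁻¹) = a * (r * t) * (a : G)⁻¹ := by
            calc r * ((a : G) * t * (a : G)⁻¹) = (r * a) * t * (a : G)⁻¹ := by group
              _ = (a * r) * t * (a : G)⁻¹ := by rw [hCr _ (hA a a.2)]
              _ = a * (r * t) * (a : G)⁻¹ := by group
          rw [e1]
          exact hconj _ h6
      rw [e, chi_mul hW hrw hrr h1.1 h1.2 h5]
      simp only [hconj']) (by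
      intro a w w'
      change (if _ then (1 : ℤˣ) else -1) = (if _ then 1 else -1) * (if _ then 1 else -1)
      have h1 := hcm a a.2 w w.2
      have h2 := hcm a a.2 w' w'.2
      have e : (a : G) * ((w * w' : ↥D) : G) * (a : G)⁻¹ * ((w * w' : ↥D) : G)⁻¹ =
          ((a : G) * w * (a : G)⁻¹ * (w : G)⁻¹) * ((a : G) * w' * (a : G)⁻¹ * (w' : G)⁻¹) := by
        have h4 := hW _ h2.1 (w : G)⁻¹ (inv_mem (mem_dd.1 w.2).1)
        rw [Subgroup.coe_mul]
        calc (a : G) * (w * w') * (a : G)⁻¹ * ((w : G) * w')⁻¹ =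
            (a * w * (a : G)⁻¹) * ((a : G) * w' * (a : G)⁻¹ * (w' : G)⁻¹ * (w : G)⁻¹) := by group
          _ = (a * w * (a : G)⁻¹) * ((w : G)⁻¹ * ((a : G) * w' * (a : G)⁻¹ * (w' : G)⁻¹)) := by rw [h4]
          _ = _ := by group
      rw [e, chi_mul hW hrw hrr h1.1 h1.2 h2.2])
  -- the left side
  have hle : Nat.card {a : ↥(ws V p) // ∀ b, s a b = 1} ≤ Nat.card (ce V p q) := by
    refine Nat.card_le_card_of_injective (fun a => ⟨(a.1 : G), ?_⟩) ?_
    · by_contra hcon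
      obtain ⟨x, hx, h1, h2⟩ := mover h nF hc hcol hrq hr a.1.2 hcon
      exact h2 ((hs a.1 ⟨x, mem_dd.2 ⟨hx, h1⟩⟩).1 (a.2 _))
    · intro a a' e
      exact Subtype.ext (Subtype.ext (congrArg (fun x : ↥(ce V p q) => (x : G)) e))
  let S0 : Set G := {w | w ∈ D ∧ ∀ a ∈ ws V p, a * w * a⁻¹ * w⁻¹ ∈ N}
  have hS0 : Nat.card {b : ↥D // ∀ a, s a b = 1} = S0.ncard := by
    rw [← Nat.card_coe_set_eq]
    refine Nat.card_congr ⟨fun b => ⟨b.1.1, b.1.2, fun a ha => (hs ⟨a, ha⟩ b.1).1 (b.2 ⟨a, ha⟩)⟩,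
      fun b => ⟨⟨b.1, b.2.1⟩, fun a => (hs a _).2 (b.2.2 a a.2)⟩, fun _ => rfl, fun _ => rfl⟩
  have hex := h.exact hc
  set rho := (ce V p q).relIndex (ws V p) with hrho
  have hWp : Nat.card (ce V p q) * rho = Nat.card (ws V p) :=
    Dual.card_mul_relIndex_of_le inf_le_left
  have hDW : D ≤ ws V q := fun w hw => (mem_dd.1 hw).1
  have hDc : Nat.card (D ⊓ ce V q p : Subgroup G) * (D ⊓ ce V q p).relIndex D = Nat.card D :=
    Dual.card_mul_relIndex_of_le inf_le_left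
  have hri : (D ⊓ ce V q p).relIndex D ≤ rho := by
    rw [inf_relIndex_left, hex]
    exact relIndex_le_of_le_right hDW index_ne_zero_of_finite
  have hcard : S0.ncard ≤ Nat.card (D ⊓ ce V q p : Subgroup G) := by
    rw [hS0] at hcount
    have hpos : 0 < Nat.card (ce V p q) * rho := by rw [hWp]; exact Nat.card_pos
    refine Nat.le_of_mul_le_mul_left ?_ hpos
    calc Nat.card (ce V p q) * rho * S0.ncard = Nat.card {a : ↥(ws V p) // ∀ b, s a b = 1} * Nat.card D := by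
          rw [hWp, hcount]
      _ ≤ Nat.card (ce V p q) * (Nat.card (D ⊓ ce V q p : Subgroup G) * rho) := by
          refine Nat.mul_le_mul hle ?_
          rw [← hDc]
          exact Nat.mul_le_mul_left _ hri
      _ = Nat.card (ce V p q) * rho * Nat.card (D ⊓ ce V q p : Subgroup G) := by ring
  have hsub : ((D ⊓ ce V q p : Subgroup G) : Set G) ⊆ S0 := by
    intro w hw
    refine ⟨hw.1, fun a ha => ?_⟩
    have h1 := (mem_ce.1 hw.2).2 a ha
    rw [← h1, mul_inv_cancel_right, mul_inv_cancel]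
    exact one_mem _
  have heq : ((D ⊓ ce V q p : Subgroup G) : Set G) = S0 :=
    Set.eq_of_subset_of_ncard_le hsub (by
      rw [← Nat.card_coe_set_eq ((D ⊓ ce V q p : Subgroup G) : Set G)]; exact hcard) (Set.toFinite _)
  intro w hw
  have h1 : w ∈ S0 := by
    refine ⟨mem_dd.2 ⟨hNW hw, fun c hc' => mem_sup_right ?_⟩, fun a ha => ?_⟩
    · exact mul_mem (conj_mem_nn' (hCq c hc') hw) (inv_mem hw)
    · exact mul_mem (conj_mem_nn' (hCq a (hA a ha)) hw) (inv_mem hw)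
  rw [← heq] at h1
  exact h1.2

end pair

end TFour

/-- **(T4)** of #21024 -/
theorem Wz.tfour [Finite G] (h : Wz T V z n) {p q f : G} (hc : Cr V n p q)
    (hf : f ∈ nn (ws V q) (kq V q)) (hw : ∃ w ∈ ws V p, f * w ≠ w * f) :
    ∃ g ∈ centralizer ({z} : Set G), ∃ y ∈ V, y ∉ zpowers z ∧
      y * (g * y * g⁻¹) ∈ nn (ws V z) (kq V z) ∧ y * (g * y * g⁻¹) ∉ zpowers z := by
  by_contra nF
  obtain ⟨w, hw, hne⟩ := hw
  exact hne ((mem_ce.1 (TFour.nn_le_ce h nF hc.symm hf)).2 w hw)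

end Cfsg.Agent.Omega.NO3S.WZero
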