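import Cfsg.Agent.Omega.NO3S.WZero.SZero
import Cfsg.Agent.Omega.NO3S.WZero.EndPlug
import Cfsg.Agent.Omega.NO3S.WZero.Canon
import Cfsg.Agent.Omega.NO3S.WZero.Five
import Cfsg.Agent.Omega.NO3S.WZero.TFour

/-!
# NO-3S, `|V| = 4`: the world W0 is dead (helper56 #21024), the composition

* `Wz.cent` : in the world `Wz`: `N_q` centralises `W_p` for every critical pair `(p, q)`.
-/

set_option autoImplicit false
set_option linter.unusedSectionVars false

namespace Cfsg.Agent.Omega.NO3S.WZero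

open Subgroup Cfsg Cfsg.Agent.ZN Cfsg.Agent.MinSimple.Geo Cfsg.Agent.Omega.CaseL Cfsg.Agent.Omega.NO3S.TwoOne
  Cfsg.Agent.Omega.NO3S.Pt
open Cfsg.Agent.Omega.NO3S.Dual (nn mem_nn)

universe u

variable {G : Type u} [Group G] {T V : Subgroup G} {z : G} {n : ℕ}

/-- (T4): `F ≠ {λ}` at the base flag -/
def FNe (V : Subgroup G) (z : G) : Prop :=
  ∃ g ∈ centralizer ({z} : Set G), ∃ y ∈ V, y ∉ zpowers z ∧
    y * (g * y * g⁻¹) ∈ nn (ws V z) (kq V z) ∧ y * (g * y * g⁻¹) ∉ zpowers z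

theorem false_of [Finite G] (h : Wz T V z n) {p q f : G} (hcr : Cr V n p q) (hf : f ∈ nn (ws V q) (kq V q))
    (hfp : ∃ w ∈ ws V p, f * w ≠ w * f) (t4 : FNe V z) : False := by
  obtain ⟨NV, hc⟩ := can h.fr t4
  have hm : Mn V 2 := fun k hk a b hab => hcr.min k (lt_of_lt_of_le hk h.two) a b hab
  exact end_false h hc (h.one hcr.min hc) (h.five hc) (sZero h.fr hm hc) hcr hf hfp

/-- `N_q` centralises `W_p` for every critical pair `(p, q)` -/
theorem Wz.cent [Finite G] (h : Wz T V z n) {p q f : G} (hcr : Cr V n p q) (hf : f ∈ nn (ws V q) (kq V q))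
    {w : G} (hw : w ∈ ws V p) : f * w = w * f := by
  by_contra hne
  exact false_of h hcr hf ⟨w, hw, hne⟩ (h.tfour hcr hf ⟨w, hw, hne⟩)

end Cfsg.Agent.Omega.NO3S.WZero
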