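import Mathlib

/-!
# W0, case (N1) (helper511 #19388, helper315 #19437): the module part

`H` acts on the `F₂`-module `M`, `P ≤ N ≤ M` submodules, `L ⊴ H` centralises `N`, `Λ` a conjugacy class of vectors outside `N`,
whose elements are fixed modulo `P` by a Sylow 2-subgroup of `L`.

* `Sy.ul` (UL) : `y ∈ L`, `v ∈ Λ`, `y v ∈ v + N` imply `y v ∈ v + P`;
* `th L N v` : the functionals of the elements of `L` acting on `M / N` as transvections with centre `v`;
  `Jo L N v w` : joined; `Sy.jo_symm`;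
* `Sy.tr` (TR) : the stabiliser of `v + N` in `L` is transitive on the vectors (modulo `N`) joined to `v`;
* `Sy.nu_const`, `Sy.fix_three`, `Sy.tp_end`.
-/

set_option autoImplicit false
set_option linter.unusedSectionVars false

namespace Cfsg.Agent.Omega.NO3S.WZero.NOne

open Module

variable {H M : Type*} [Group H] [AddCommGroup M] [Module (ZMod 2) M] [DistribMulAction H M]

theorem zcases (a : ZMod 2) : a = 0 ∨ a = 1 := by
  revert a; decide

theorem add_self' (v : M) : v + v = 0 := by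
  have h : ((1 : ZMod 2) + 1) • v = 0 := by
    rw [show (1 : ZMod 2) + 1 = 0 by decide, zero_smul]
  rwa [add_smul, one_smul] at h

theorem neg_self' (v : M) : -v = v := by
  rw [neg_eq_iff_add_eq_zero]; exact add_self' v

theorem sub_eq' (v w : M) : v - w = v + w := by rw [sub_eq_add_neg, neg_self']

theorem smul_zsmul (h : H) (a : ZMod 2) (v : M) : h • (a • v) = a • (h • v) := by
  rcases zcases a with rfl | rfl
  · rw [zero_smul, zero_smul, smul_zero]
  · rw [one_smul, one_smul]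

theorem zmem {N : AddSubgroup M} (a : ZMod 2) {v : M} (hv : v ∈ N) : a • v ∈ N := by
  rcases zcases a with rfl | rfl
  · rw [zero_smul]; exact zero_mem _
  · rwa [one_smul]

/-- the situation -/
structure Sy (L : Subgroup H) (N P : AddSubgroup M) (Λ : Set M) : Prop where
  Ln : ∀ h : H, ∀ y ∈ L, h * y * h⁻¹ ∈ L
  LN : ∀ y ∈ L, ∀ n ∈ N, y • n = n
  HN : ∀ (h : H), ∀ n ∈ N, h • n ∈ N
  HP : ∀ (h : H), ∀ n ∈ P, h • n ∈ P
  PN : P ≤ N
  HL : ∀ (h : H), ∀ v ∈ Λ, h • v ∈ Λ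
  trans : ∀ v ∈ Λ, ∀ w ∈ Λ, ∃ h : H, h • v = w
  LaN : ∀ v ∈ Λ, v ∉ N
  syl : ∀ v ∈ Λ, ∃ S : Subgroup H, S ≤ L ∧ ¬ 2 ∣ S.relIndex L ∧ ∀ s ∈ S, s • v - v ∈ P

/-- the elements of `L` fixing `v` modulo `K` -/
def st (L : Subgroup H) (K : AddSubgroup M) (hK : ∀ y ∈ L, ∀ n ∈ K, y • n ∈ K) (v : M) : Subgroup H where
  carrier := {y | y ∈ L ∧ y • v - v ∈ K}
  one_mem' := ⟨one_mem _, by rw [one_smul, sub_self]; exact zero_mem _⟩
  mul_mem' := by
    rintro a b ⟨ha, ha1⟩ ⟨hb, hb1⟩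
    refine ⟨mul_mem ha hb, ?_⟩
    have e : (a * b) • v - v = a • (b • v - v) + (a • v - v) := by
      rw [mul_smul, smul_sub]; abel
    rw [e]
    exact add_mem (hK a ha _ hb1) ha1
  inv_mem' := by
    rintro a ⟨ha, ha1⟩
    refine ⟨inv_mem ha, ?_⟩
    have e : a⁻¹ • v - v = -(a⁻¹ • (a • v - v)) := by
      rw [smul_sub, inv_smul_smul]; abel
    rw [e]
    exact neg_mem (hK a⁻¹ (inv_mem ha) _ ha1)

/-- `t` acts on `M / N` as the transvection with functional `φ` and centre `v` -/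
def Tv (N : AddSubgroup M) (t : H) (φ : Dual (ZMod 2) M) (v : M) : Prop := ∀ m, ∃ n ∈ N, t • m = m + φ m • v + n

/-- the functionals of the elements of `L` acting on `M / N` as transvections with centre `v` -/
def th (L : Subgroup H) (N : AddSubgroup M) (v : M) : Set (Dual (ZMod 2) M) := {φ | ∃ t ∈ L, Tv N t φ v}

/-- joined -/
def Jo (L : Subgroup H) (N : AddSubgroup M) (v w : M) : Prop := ∃ φ ∈ th L N v, φ w = 1

namespace Sy

variable {L : Subgroup H} {N P : AddSubgroup M} {Λ : Set M} (h : Sy L N P Λ)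
include h

theorem lp {y : H} (hy : y ∈ L) {n : M} (hn : n ∈ P) : y • n = n := h.LN y hy n (h.PN hn)

theorem LN' : ∀ y ∈ L, ∀ n ∈ N, y • n ∈ N := fun y hy n hn => by rw [h.LN y hy n hn]; exact hn

theorem LP' : ∀ y ∈ L, ∀ n ∈ P, y • n ∈ P := fun y hy n hn => by rw [h.lp hy hn]; exact hn

/-- (UL) -/
theorem ul [Finite H] {v : M} (hv : v ∈ Λ) {y : H} (hy : y ∈ L) (hyv : y • v - v ∈ N) : y • v - v ∈ P := by
  obtain ⟨S, hSL, hS2, hS⟩ := h.syl v hv
  set S0 := st L N h.LN' v with hS0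
  set S1 := st L P h.LP' v with hS1
  have h10 : S1 ≤ S0 := fun a ha => ⟨ha.1, h.PN ha.2⟩
  have hS1' : S ≤ S1 := fun a ha => ⟨hSL ha, hS a ha⟩
  have h0L : S0 ≤ L := fun a ha => ha.1
  have hodd : ¬ 2 ∣ S1.relIndex S0 := by
    intro hd
    apply hS2
    rw [← Subgroup.relIndex_mul_relIndex S S0 L (hS1'.trans h10) h0L,
      ← Subgroup.relIndex_mul_relIndex S S1 S0 hS1' h10]
    exact (hd.mul_left _).mul_right _
  have hnorm : (S1.subgroupOf S0).Normal := by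
    refine ⟨fun s hs g => ?_⟩
    rw [Subgroup.mem_subgroupOf] at hs ⊢
    refine ⟨mul_mem (mul_mem g.2.1 hs.1) (inv_mem g.2.1), ?_⟩
    -- `δ(g s g⁻¹) = δ(s)`
    have hg := g.2.2
    have hgi := (inv_mem g.2 : (g : H)⁻¹ ∈ S0).2
    have e1 : (g : H)⁻¹ • v = v + ((g : H)⁻¹ • v - v) := by abel
    have e2 : (s : H) • ((g : H)⁻¹ • v) = (s : H) • v + ((g : H)⁻¹ • v - v) := by
      conv_lhs => rw [e1]
      rw [smul_add, h.LN s hs.1 _ hgi]
    have e3 : ((g * s * g⁻¹ : S0) : H) • v - v = (g : H) • ((s : H) • v - v) := by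
      have : ((g * s * g⁻¹ : S0) : H) = g * s * (g : H)⁻¹ := rfl
      rw [this, mul_smul, mul_smul, e2, smul_add, smul_sub, smul_inv_smul, smul_sub]
      abel
    rw [e3]
    exact h.LP' _ g.2.1 _ hs.2
  have hy0 : y ∈ S0 := ⟨hy, hyv⟩
  have hp := (S1.subgroupOf S0).pow_index_mem (⟨y, hy0⟩ : S0)
  rw [Subgroup.mem_subgroupOf] at hp
  change y ^ (S1.relIndex S0) ∈ S1 at hp
  have hsq : y * y ∈ S1 := by
    refine ⟨mul_mem hy hy, ?_⟩
    have e : (y * y) • v - v = y • (y • v - v) + (y • v - v) := by rw [mul_smul, smul_sub]; abel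
    rw [e, h.LN y hy _ hyv, add_self']
    exact zero_mem _
  obtain ⟨k, hk⟩ : ∃ k, S1.relIndex S0 = 2 * k + 1 := by
    rcases Nat.even_or_odd (S1.relIndex S0) with he | ho
    · exact absurd he.two_dvd hodd
    · exact ho
  rw [hk, pow_succ, pow_mul, pow_two] at hp
  have := S1.mul_mem (S1.inv_mem (S1.pow_mem hsq k)) hp
  rw [inv_mul_cancel_left] at this
  exact this.2

/-! ### the functionals -/

theorem th_N {v : M} (hv : v ∈ Λ) {φ : Dual (ZMod 2) M} (hφ : φ ∈ th L N v) {n : M} (hn : n ∈ N) : φ n = 0 := by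
  obtain ⟨t, ht, h1⟩ := hφ
  obtain ⟨n', hn', h2⟩ := h1 n
  rw [h.LN t ht n hn] at h2
  rcases zcases (φ n) with e | e
  · exact e
  · rw [e, one_smul, add_assoc, left_eq_add] at h2
    have h3 : v = -n' := eq_neg_of_add_eq_zero_left h2
    exact absurd (by rw [h3]; exact neg_mem hn') (h.LaN v hv)

theorem th_self {v : M} (hv : v ∈ Λ) {φ : Dual (ZMod 2) M} (hφ : φ ∈ th L N v) : φ v = 0 := by
  obtain ⟨t, ht, h1⟩ := hφ
  obtain ⟨n', hn', h2⟩ := h1 v
  rcases zcases (φ v) with e | e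
  · exact e
  · rw [e, one_smul, add_self', zero_add] at h2
    have h3 := h.LN' t⁻¹ (inv_mem ht) _ hn'
    rw [← h2, inv_smul_smul] at h3
    exact absurd h3 (h.LaN v hv)

theorem tv_mul {v : M} {φ ψ : Dual (ZMod 2) M} {t s : H} (ht : t ∈ L) (hφ : Tv N t φ v) (hφv : φ v = 0)
    (hψ : Tv N s ψ v) : Tv N (t * s) (φ + ψ) v := by
  intro m
  obtain ⟨n1, hn1, h1⟩ := hψ m
  obtain ⟨n2, hn2, h2⟩ := hφ m
  obtain ⟨n3, hn3, h3⟩ := hφ v
  rw [hφv, zero_smul, add_zero] at h3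
  refine ⟨n2 + ψ m • n3 + n1, add_mem (add_mem hn2 (zmem _ hn3)) hn1, ?_⟩
  rw [mul_smul, h1, smul_add, smul_add, h.LN t ht n1 hn1, smul_zsmul, h3, h2, LinearMap.add_apply]
  module

theorem th_add {v : M} (hv : v ∈ Λ) {φ ψ : Dual (ZMod 2) M} (hφ : φ ∈ th L N v) (hψ : ψ ∈ th L N v) :
    φ + ψ ∈ th L N v := by
  have h0 := h.th_self hv hφ
  obtain ⟨t, ht, h1⟩ := hφ
  obtain ⟨s, hs, h2⟩ := hψ
  exact ⟨t * s, mul_mem ht hs, h.tv_mul ht h1 h0 h2⟩

omit h in
/-- the action of `g` -/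
def sm (g : H) : M →ₗ[ZMod 2] M where
  toFun m := g • m
  map_add' a b := smul_add g a b
  map_smul' a m := smul_zsmul g a m

omit h in
/-- the functional `φ ∘ g⁻¹` -/
def cf (g : H) (φ : Dual (ZMod 2) M) : Dual (ZMod 2) M := φ.comp (sm g⁻¹)

omit h in
theorem cf_apply (g : H) (φ : Dual (ZMod 2) M) (m : M) : cf g φ m = φ (g⁻¹ • m) := rfl

omit h in
theorem finDual [Finite M] : Finite (Dual (ZMod 2) M) := DFunLike.finite _

omit h in
theorem cf_inj (g : H) : Function.Injective (cf (M := M) g) := by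
  intro φ ψ e
  ext m
  have := LinearMap.congr_fun e (g • m)
  rwa [cf_apply, cf_apply, inv_smul_smul] at this

theorem tv_conj {v : M} {φ : Dual (ZMod 2) M} {t : H} (hφ : Tv N t φ v) (g : H) :
    Tv N (g * t * g⁻¹) (cf g φ) (g • v) := by
  intro m
  obtain ⟨n, hn, h1⟩ := hφ (g⁻¹ • m)
  refine ⟨g • n, h.HN g n hn, ?_⟩
  rw [mul_smul, mul_smul, h1, smul_add, smul_add, smul_inv_smul, smul_zsmul, cf_apply]

theorem th_conj {v : M} {φ : Dual (ZMod 2) M} (hφ : φ ∈ th L N v) (g : H) : cf g φ ∈ th L N (g • v) := by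
  obtain ⟨t, ht, h1⟩ := hφ
  exact ⟨_, h.Ln g t ht, h.tv_conj h1 g⟩

theorem tv_congr {v w : M} {φ : Dual (ZMod 2) M} {t : H} (hφ : Tv N t φ v) (hvw : v - w ∈ N) : Tv N t φ w := by
  intro m
  obtain ⟨n, hn, h1⟩ := hφ m
  refine ⟨φ m • (v - w) + n, add_mem (zmem _ hvw) hn, ?_⟩
  rw [h1, smul_sub]; abel

theorem th_congr {v w : M} (hvw : v - w ∈ N) : th L N v = th L N w := by
  have hwv : w - v ∈ N := by rw [← neg_sub]; exact neg_mem hvw
  ext φ
  exact ⟨fun ⟨t, ht, h1⟩ => ⟨t, ht, h.tv_congr h1 hvw⟩, fun ⟨t, ht, h1⟩ => ⟨t, ht, h.tv_congr h1 hwv⟩⟩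

theorem ncard_th [Finite M] {v w : M} (hv : v ∈ Λ) (hw : w ∈ Λ) : (th L N v).ncard = (th L N w).ncard := by
  have := finDual (M := M)
  have key : ∀ v ∈ Λ, ∀ w ∈ Λ, (th L N v).ncard ≤ (th L N w).ncard := by
    intro v hv w hw
    obtain ⟨g, rfl⟩ := h.trans v hv w hw
    exact Set.ncard_le_ncard_of_injOn (cf g) (fun φ hφ => h.th_conj hφ g) ((cf_inj g).injOn) (Set.toFinite _)
  exact le_antisymm (key v hv w hw) (key w hw v hv)

/-- if `v` is joined to `w`, `ψ ∈ Th(w)`, `ψ(v) = 0`, then `ψ ∈ Th(v)` -/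
theorem th_of_jo {v w : M} (hw : w ∈ Λ) (hj : Jo L N v w) {ψ : Dual (ZMod 2) M} (hψ : ψ ∈ th L N w)
    (hψv : ψ v = 0) : ψ ∈ th L N v := by
  obtain ⟨φ, hφ, hφw⟩ := hj
  have hψw := h.th_self hw hψ
  have hψN := fun n (hn : n ∈ N) => h.th_N hw hψ hn
  obtain ⟨t, ht, h1⟩ := hφ
  -- `cf t ψ = ψ`
  have e1 : cf t ψ = ψ := by
    have key : ∀ m, ψ (t • m) = ψ m := by
      intro m
      obtain ⟨n, hn, h2⟩ := h1 m
      rw [h2, map_add, map_add, map_smul, hψv, smul_zero, add_zero, hψN n hn, add_zero]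
    ext m
    rw [cf_apply, ← key (t⁻¹ • m), smul_inv_smul]
  have h2 := h.th_conj hψ t
  rw [e1] at h2
  obtain ⟨n, hn, h3⟩ := h1 w
  rw [hφw, one_smul] at h3
  have h4 : th L N (t • w) = th L N (w + v) := h.th_congr (by rw [h3, add_sub_cancel_left]; exact hn)
  rw [h4] at h2
  obtain ⟨a, ha, ha1⟩ := h2
  obtain ⟨b, hb, hb1⟩ := hψ
  refine ⟨a * b, mul_mem ha hb, fun m => ?_⟩
  obtain ⟨n1, hn1, e1⟩ := hb1 m
  obtain ⟨n2, hn2, e2⟩ := ha1 (m + ψ m • w)
  refine ⟨n2 + n1, add_mem hn2 hn1, ?_⟩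
  rw [mul_smul, e1, smul_add, h.LN a ha n1 hn1, e2, map_add, map_smul, hψw, smul_zero, add_zero, smul_add]
  have e3 : m + ψ m • w + (ψ m • w + ψ m • v) = m + ψ m • v + (ψ m • w + ψ m • w) := by abel
  rw [e3, add_self', add_zero, add_assoc]

theorem jo_symm [Finite M] {v w : M} (hv : v ∈ Λ) (hw : w ∈ Λ) (hj : Jo L N v w) : Jo L N w v := by
  have := finDual (M := M)
  by_contra hcon
  have h0 : ∀ ψ ∈ th L N w, ψ v = 0 := by
    intro ψ hψ
    rcases zcases (ψ v) with e | e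
    · exact e
    · exact absurd ⟨ψ, hψ, e⟩ hcon
  have h1 : th L N w ⊆ th L N v := fun ψ hψ => h.th_of_jo hw hj hψ (h0 ψ hψ)
  have h2 : th L N w = th L N v := Set.eq_of_subset_of_ncard_le h1 (h.ncard_th hv hw).le (Set.toFinite _)
  obtain ⟨φ, hφ, hφw⟩ := hj
  rw [← h2] at hφ
  rw [h.th_self hw hφ] at hφw
  exact absurd hφw (by decide)

theorem jo_congr {v w w' : M} (hv : v ∈ Λ) (hww : w - w' ∈ N) (hj : Jo L N v w) : Jo L N v w' := by
  obtain ⟨φ, hφ, h1⟩ := hj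
  refine ⟨φ, hφ, ?_⟩
  have h2 := h.th_N hv hφ hww
  rw [map_sub, h1] at h2
  exact (sub_eq_zero.1 h2).symm

theorem jo_conj {v w : M} (hj : Jo L N v w) (g : H) : Jo L N (g • v) (g • w) := by
  obtain ⟨φ, hφ, h1⟩ := hj
  exact ⟨_, h.th_conj hφ g, by rw [cf_apply, inv_smul_smul]; exact h1⟩

theorem jo_congr_left {v v' w : M} (hvv : v - v' ∈ N) (hj : Jo L N v w) : Jo L N v' w := by
  obtain ⟨φ, hφ, h1⟩ := hj
  exact ⟨φ, by rwa [← h.th_congr hvv], h1⟩

/-! ### (TR) -/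

/-- (TR) for joined `μ`, `ρ` -/
theorem tr_one [Finite M] {v m r : M} (hv : v ∈ Λ) (hm : m ∈ Λ) (hr : r ∈ Λ) (hvm : Jo L N v m) (hvr : Jo L N v r)
    (hmr : Jo L N m r) : ∃ l ∈ L, l • v - v ∈ N ∧ l • m - r ∈ N := by
  obtain ⟨φ0, hφ0, h0⟩ := id hmr
  obtain ⟨t, ht, ht1⟩ := id hφ0
  -- `σ = m + r`
  obtain ⟨n, hn, hs⟩ := ht1 r
  rw [h0, one_smul] at hs
  set s := t • r with hsdef
  have hsΛ : s ∈ Λ := h.HL t r hr
  have hmm := h.th_self hm hφ0
  have hms : Jo L N m s := ⟨φ0, hφ0, by rw [hs, map_add, map_add, h0, hmm, h.th_N hm hφ0 hn]; rfl⟩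
  obtain ⟨ψ0, hψ0, hψm⟩ := h.jo_symm hm hsΛ hms
  -- it is enough to find `ψ ∈ Th(σ)`, `ψ(m) = 1`, `ψ(v) = 0`
  have key : ∀ ψ ∈ th L N s, ψ m = 1 → ψ v = 0 → ∃ l ∈ L, l • v - v ∈ N ∧ l • m - r ∈ N := by
    rintro ψ ⟨l, hl, hl1⟩ h1 h2
    refine ⟨l, hl, ?_, ?_⟩
    · obtain ⟨k, hk, e⟩ := hl1 v
      rw [e, h2, zero_smul, add_zero, add_sub_cancel_left]
      exact hk
    · obtain ⟨k, hk, e⟩ := hl1 m
      rw [e, h1, one_smul, hs]
      have e3 : m + (r + m + n) + k - r = (m + m) + (n + k) := by abel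
      rw [e3, add_self', zero_add]
      exact add_mem hn hk
  rcases zcases (ψ0 v) with e | e
  · exact key ψ0 hψ0 hψm e
  -- `σ` is joined to `v`
  have hsv : Jo L N s v := ⟨ψ0, hψ0, e⟩
  obtain ⟨φs, hφs, hφs1⟩ := h.jo_symm hsΛ hv hsv
  -- elements of `Th(v)` vanishing on `σ` with value 1 on `m`
  have key2 : ∀ φ ∈ th L N v, φ s = 0 → φ m = 1 → ∃ l ∈ L, l • v - v ∈ N ∧ l • m - r ∈ N := fun φ hφ h1 h2 =>
    key φ (h.th_of_jo hv hsv hφ h1) h2 (h.th_self hv hφ)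
  have hval : ∀ φ ∈ th L N v, φ s = φ r + φ m := by
    intro φ hφ
    rw [hs, map_add, map_add, h.th_N hv hφ hn, add_zero]
  obtain ⟨φr, hφr, hφr1⟩ := hvr
  obtain ⟨φm, hφm, hφm1⟩ := hvm
  rcases zcases (φs m) with e1 | e1
  · -- `φs(r) = 1`
    rcases zcases (φm r) with e2 | e2
    · refine key2 (φs + φm) (h.th_add hv hφs hφm) ?_ ?_
      · rw [LinearMap.add_apply, hφs1, hval φm hφm, e2, hφm1]; rfl
      · rw [LinearMap.add_apply, e1, hφm1]; rfl
    · exact key2 φm hφm (by rw [hval φm hφm, e2, hφm1]; rfl) hφm1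
  · rcases zcases (φr m) with e2 | e2
    · refine key2 (φs + φr) (h.th_add hv hφs hφr) ?_ ?_
      · rw [LinearMap.add_apply, hφs1, hval φr hφr, e2, hφr1]; rfl
      · rw [LinearMap.add_apply, e1, e2]; rfl
    · exact key2 φr hφr (by rw [hval φr hφr, e2, hφr1]; rfl) e2

/-- (TR) -/
theorem tr [Finite M] {v m r : M} (hv : v ∈ Λ) (hm : m ∈ Λ) (hr : r ∈ Λ) (hvm : Jo L N v m) (hvr : Jo L N v r) :
    ∃ l ∈ L, l • v - v ∈ N ∧ l • m - r ∈ N := by
  by_cases hmr : Jo L N m r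
  · exact h.tr_one hv hm hr hvm hvr hmr
  obtain ⟨φ, hφ, h1⟩ := id hvm
  obtain ⟨t, ht, ht1⟩ := id hφ
  have hvv := h.th_self hv hφ
  obtain ⟨n, hn, e⟩ := ht1 m
  rw [h1, one_smul] at e
  obtain ⟨k, hk, e'⟩ := ht1 v
  rw [hvv, zero_smul, add_zero] at e'
  have hm' : t • m ∈ Λ := h.HL t m hm
  have h2 : Jo L N v (t • m) := ⟨φ, hφ, by rw [e, map_add, map_add, h1, hvv, h.th_N hv hφ hn]; rfl⟩
  have h3 : Jo L N r (t • m) := by
    obtain ⟨ψ, hψ, h4⟩ := h.jo_symm hv hr hvr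
    refine ⟨ψ, hψ, ?_⟩
    have h5 : ψ m = 0 := by
      rcases zcases (ψ m) with e2 | e2
      · exact e2
      · exact absurd (h.jo_symm hr hm ⟨ψ, hψ, e2⟩) hmr
    rw [e, map_add, map_add, h5, h4, h.th_N hr hψ hn]; rfl
  obtain ⟨l, hl, h4, h5⟩ := h.tr_one hv hm' hr h2 hvr (h.jo_symm hr hm' h3)
  refine ⟨l * t, mul_mem hl ht, ?_, ?_⟩
  · rw [mul_smul, e', smul_add, h.LN l hl k hk]
    have : l • v + k - v = (l • v - v) + k := by abel
    rw [this]
    exact add_mem h4 hk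
  · rw [mul_smul]; exact h5

/-! ### the conjugates of `v` under `L` -/

omit h in
/-- `v^L`, modulo `P` -/
def Xc (L : Subgroup H) (P : AddSubgroup M) (v : M) : Set M := {u | ∃ y ∈ L, u - y • v ∈ P}

theorem xc_ul [Finite H] {v u u' : M} (hv : v ∈ Λ) (hu : u ∈ Xc L P v) (hu' : u' ∈ Xc L P v) (e : u - u' ∈ N) :
    u - u' ∈ P := by
  obtain ⟨y, hy, h1⟩ := hu
  obtain ⟨y', hy', h2⟩ := hu'
  have h3 : y • v - y' • v ∈ N := by
    have e1 : y • v - y' • v = (u - u') - (u - y • v) + (u' - y' • v) := by abel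
    rw [e1]
    exact add_mem (sub_mem e (h.PN h1)) (h.PN h2)
  have h4 : (y'⁻¹ * y) • v - v ∈ N := by
    have e1 : (y'⁻¹ * y) • v - v = y'⁻¹ • (y • v - y' • v) := by
      rw [mul_smul, smul_sub, inv_smul_smul]
    rw [e1]
    exact h.LN' _ (inv_mem hy') _ h3
  have h5 := h.ul hv (mul_mem (inv_mem hy') hy) h4
  have h6 := h.LP' y' hy' _ h5
  rw [smul_sub, mul_smul, smul_inv_smul] at h6
  have e1 : u - u' = (u - y • v) + (y • v - y' • v) - (u' - y' • v) := by abel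
  rw [e1]
  exact sub_mem (add_mem h1 h6) h2

theorem xc_self (v : M) : v ∈ Xc L P v := ⟨1, one_mem _, by rw [one_smul, sub_self]; exact zero_mem _⟩

theorem xc_L {v u : M} (hu : u ∈ Xc L P v) {l : H} (hl : l ∈ L) : l • u ∈ Xc L P v := by
  obtain ⟨y, hy, h1⟩ := hu
  refine ⟨l * y, mul_mem hl hy, ?_⟩
  rw [mul_smul, ← smul_sub]
  exact h.LP' l hl _ h1

theorem xc_s {v u : M} (hu : u ∈ Xc L P v) {s : H} (hs : s • v - v ∈ P) : s • u ∈ Xc L P v := by
  obtain ⟨y, hy, h1⟩ := hu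
  refine ⟨s * y * s⁻¹, h.Ln s y hy, ?_⟩
  have h2 := h.HP s _ h1
  have h3 := h.LP' _ (h.Ln s y hy) _ hs
  have e : s • u - (s * y * s⁻¹) • v = s • (u - y • v) + (s * y * s⁻¹) • (s • v - v) := by
    rw [smul_sub, smul_sub, ← mul_smul, ← mul_smul]
    have : s * y * s⁻¹ * s = s * y := by group
    rw [this]; abel
  rw [e]
  exact add_mem h2 h3

theorem jo_L [Finite M] {v m : M} (hv : v ∈ Λ) (hm : m ∈ Λ) (hj : Jo L N v m) : ∃ y ∈ L, y • v - m ∈ N := by
  obtain ⟨φ, hφ, h1⟩ := id hj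
  obtain ⟨ψ, ⟨s, hs, hs1⟩, h2⟩ := h.jo_symm hv hm hj
  have hvv := h.th_self hv hφ
  obtain ⟨t, ht, ht1⟩ := hφ
  obtain ⟨n, hn, e1⟩ := hs1 v
  obtain ⟨k, hk, e2⟩ := ht1 (v + m)
  rw [h2, one_smul] at e1
  rw [map_add, hvv, h1, zero_add, one_smul] at e2
  refine ⟨t * s, mul_mem ht hs, ?_⟩
  rw [mul_smul, e1, smul_add, h.LN t ht n hn, e2]
  have : v + m + v + k + n - m = (v + v) + (k + n) := by abel
  rw [this, add_self', zero_add]
  exact add_mem hk hn

/-- data: `t ∈ L` acts as a transvection with centre `v`, `m ∈ v^L` is moved -/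
structure Mv (L : Subgroup H) (N P : AddSubgroup M) (Λ : Set M) (v m : M) (t : H) : Prop where
  t_mem : t ∈ L
  tv : ∃ φ, Tv N t φ v ∧ φ m = 1
  m_mem : m ∈ Λ
  m_xc : m ∈ Xc L P v

theorem Mv.jo {v m : M} {t : H} (k : Mv L N P Λ v m t) : Jo L N v m := by
  obtain ⟨φ, h1, h2⟩ := k.tv
  exact ⟨φ, ⟨t, k.t_mem, h1⟩, h2⟩

theorem Mv.eq {v m : M} {t : H} (k : Mv L N P Λ v m t) : ∃ n ∈ N, t • m = m + v + n := by
  obtain ⟨φ, h1, h2⟩ := k.tv
  obtain ⟨n, hn, h3⟩ := h1 m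
  rw [h2, one_smul] at h3
  exact ⟨n, hn, h3⟩

/-- `ν = v + m + t m` lies in `N` -/
theorem nu_mem {v m : M} {t : H} (k : Mv L N P Λ v m t) : v + m + t • m ∈ N := by
  obtain ⟨n, hn, e⟩ := Mv.eq h k
  rw [e]
  have : v + m + (m + v + n) = (v + v) + (m + m) + n := by abel
  rw [this, add_self', add_self', zero_add, zero_add]
  exact hn

/-- `ν` is constant modulo `P` -/
theorem nu_const [Finite H] [Finite M] {v m m' : M} {t t' : H} (hv : v ∈ Λ) (k : Mv L N P Λ v m t)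
    (k' : Mv L N P Λ v m' t') : (v + m + t • m) - (v + m' + t' • m') ∈ P := by
  obtain ⟨l, hl, h1, h2⟩ := h.tr hv k.m_mem k'.m_mem (Mv.jo h k) (Mv.jo h k')
  have h1' := h.ul hv hl h1
  have h2' := h.xc_ul hv (h.xc_L k.m_xc hl) k'.m_xc h2
  have h3 : l • (t • m) - t' • m' ∈ N := by
    obtain ⟨n, hn, e⟩ := Mv.eq h k
    obtain ⟨n', hn', e'⟩ := Mv.eq h k'
    have : l • (t • m) - t' • m' = (l • m - m') + (l • v - v) + (l • n - n') := by
      rw [e, e', smul_add, smul_add]; abel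
    rw [this, h.LN l hl n hn]
    exact add_mem (add_mem h2 h1) (sub_mem hn hn')
  have h3' := h.xc_ul hv (h.xc_L (h.xc_L k.m_xc k.t_mem) hl) (h.xc_L k'.m_xc k'.t_mem) h3
  have h4 := h.LN l hl _ (h.nu_mem k)
  have : (v + m + t • m) - (v + m' + t' • m') = (l • v - v) + (l • m - m') + (l • (t • m) - t' • m') := by
    conv_lhs => rw [← h4]
    rw [smul_add, smul_add]; abel
  rw [this]
  exact add_mem (add_mem h1' h2') h3'

/-- an element fixing `v` can be corrected by an element of `L` to fix `v`, `m`, `t m` modulo `P` -/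
theorem fix_three [Finite H] [Finite M] {v m : M} {t s : H} (hv : v ∈ Λ) (k : Mv L N P Λ v m t)
    (hs : s • v - v ∈ P) : ∃ l ∈ L, (l * s) • v - v ∈ P ∧ (l * s) • m - m ∈ P ∧
      (l * s) • (t • m) - t • m ∈ P := by
  have hsN := h.PN hs
  have hj : Jo L N v (s • m) := h.jo_congr_left hsN (h.jo_conj (Mv.jo h k) s)
  obtain ⟨l, hl, h1, h2⟩ := h.tr hv (h.HL s m k.m_mem) k.m_mem hj (Mv.jo h k)
  have h1' := h.ul hv hl h1
  have h2' := h.xc_ul hv (h.xc_L (h.xc_s k.m_xc hs) hl) k.m_xc h2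
  have hlv : (l * s) • v - v = l • (s • v - v) + (l • v - v) := by rw [mul_smul, smul_sub]; abel
  have h3 : l • (s • (t • m)) - t • m ∈ N := by
    obtain ⟨n, hn, e⟩ := Mv.eq h k
    have : l • (s • (t • m)) - t • m = (l • (s • m) - m) + (l • (s • v - v) + (l • v - v)) + (l • (s • n) - n) := by
      rw [e, smul_add, smul_add, smul_add, smul_add, smul_sub]; abel
    rw [this, h.LN l hl _ (h.HN s n hn)]
    exact add_mem (add_mem h2 (add_mem (h.LN' l hl _ hsN) h1)) (sub_mem (h.HN s n hn) hn)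
  have h3' := h.xc_ul hv (h.xc_L (h.xc_s (h.xc_L k.m_xc k.t_mem) hs) hl) (h.xc_L k.m_xc k.t_mem) h3
  refine ⟨l, hl, ?_, ?_, ?_⟩
  · rw [hlv]
    exact add_mem (h.LP' l hl _ hs) h1'
  · rw [mul_smul]; exact h2'
  · rw [mul_smul]; exact h3'

/-- **the end of (N1)** -/
theorem tp_end [Finite H] [Finite M] {v : M} (hv : v ∈ Λ) {m : M} {t : H} (k : Mv L N P Λ v m t)
    (hν : v + m + t • m ∈ P) {s : H} (hs : s ∈ L) {φ : Dual (ZMod 2) M} (hφ : Tv N s φ v) {w : M} (hw : w ∈ Λ) :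
    ∃ n ∈ P, s • w = w + φ w • v + n := by
  rcases zcases (φ w) with e | e
  · obtain ⟨n, hn, h1⟩ := hφ w
    rw [e, zero_smul, add_zero] at h1
    refine ⟨s • w - w, h.ul hw hs (by rw [h1, add_sub_cancel_left]; exact hn), ?_⟩
    rw [e, zero_smul]; abel
  · obtain ⟨y, hy, h1⟩ := h.jo_L hv hw ⟨φ, ⟨s, hs, hφ⟩, e⟩
    have hφN := h.th_N hv ⟨s, hs, hφ⟩ h1
    have h2 : φ (y • v) = 1 := by
      rw [map_sub, e] at hφN
      exact sub_eq_zero.1 hφN
    have k' : Mv L N P Λ v (y • v) s := ⟨hs, ⟨φ, hφ, h2⟩, h.HL y v hv, ⟨y, hy, by rw [sub_self]; exact zero_mem _⟩⟩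
    have h3 := h.nu_const hv k k'
    have h4 : v + y • v + s • (y • v) ∈ P := by
      have : v + y • v + s • (y • v) = (v + m + t • m) - ((v + m + t • m) - (v + y • v + s • (y • v))) := by abel
      rw [this]
      exact sub_mem hν h3
    refine ⟨v + y • v + s • (y • v), h4, ?_⟩
    have h5 : s • w = s • (y • v) - (y • v - w) := by
      have : s • w = s • (y • v) - s • (y • v - w) := by rw [smul_sub]; abel
      rw [this, h.LN s hs _ h1]
    rw [h5, e, one_smul]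
    have : w + v + (v + y • v + s • (y • v)) = (v + v) + (y • v + y • v) + (w - y • v) + s • (y • v) := by abel
    rw [this, add_self', add_self', zero_add, zero_add]
    abel

end Sy

/-! ### (1): from (S) and exactness to transvections -/

section one

variable {L : Subgroup H} {N P : AddSubgroup M} {Λ : Set M}

/-- (S) for `h`: the group generated by `C^h` and `C^{h⁻¹}` maps `h v` and `h⁻¹ v` into `⟨h v, h⁻¹ v⟩ + N` -/
def SS (C : Subgroup H) (N : AddSubgroup M) (v : M) (h : H) : Prop :=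
  ∀ g ∈ Subgroup.closure ({x | ∃ c ∈ C, x = h * c * h⁻¹} ∪ {x | ∃ c ∈ C, x = h⁻¹ * c * h}),
    (∃ a b : ZMod 2, g • (h • v) - (a • (h • v) + b • (h⁻¹ • v)) ∈ N) ∧
      ∃ a b : ZMod 2, g • (h⁻¹ • v) - (a • (h • v) + b • (h⁻¹ • v)) ∈ N

/-- (S) : `v + h v + h⁻¹ v ∈ N`, and `[h v, C] ⊆ ⟨v⟩ + N` -/
theorem SS.out (hN : ∀ (g : H), ∀ n ∈ N, g • n ∈ N) {C : Subgroup H} {v : M} (hv : v ∉ N)
    (hC : ∀ c ∈ C, c • v = v) {a h : H} (ha : a ∈ C) (haa : a * a = 1) (hodd : Odd (orderOf h))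
    (hinv : a * h * a⁻¹ = h⁻¹) (hne : h • v - v ∉ N) (hs : SS C N v h) :
    v + h • v + h⁻¹ • v ∈ N ∧ ∀ c ∈ C, ∃ b : ZMod 2, c • (h • v) - (h • v + b • v) ∈ N := by
  set K := Subgroup.closure ({x | ∃ c ∈ C, x = h * c * h⁻¹} ∪ {x | ∃ c ∈ C, x = h⁻¹ * c * h}) with hK
  have hK1 : ∀ c ∈ C, h * c * h⁻¹ ∈ K := fun c hc => Subgroup.subset_closure (Or.inl ⟨c, hc, rfl⟩)
  have hK2 : ∀ c ∈ C, h⁻¹ * c * h ∈ K := fun c hc => Subgroup.subset_closure (Or.inr ⟨c, hc, rfl⟩)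
  have hai : a⁻¹ = a := inv_eq_of_mul_eq_one_left haa
  have hinv' : a * h⁻¹ * a⁻¹ = h := by
    have := congrArg (fun x => x⁻¹) hinv
    simpa [mul_assoc] using this
  -- `h ∈ K`
  have hhK : h ∈ K := by
    have h1 : h ^ 4 ∈ K := by
      have h2 := K.mul_mem (hK1 a ha) (hK2 a ha)
      have e : h * a * h⁻¹ * (h⁻¹ * a * h) = h ^ 4 := by
        calc h * a * h⁻¹ * (h⁻¹ * a * h) = h * (a * h⁻¹ * a⁻¹) * (a * h⁻¹ * a⁻¹) * (a * a) * h := by group
          _ = h ^ 4 := by rw [hinv', haa, mul_one, pow_succ, pow_succ, pow_two]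
      rwa [e] at h2
    obtain ⟨m, hm⟩ := exists_pow_eq_self_of_coprime (x := h) (n := 4)
      (show Nat.Coprime 4 (orderOf h) by
        rw [show (4 : ℕ) = 2 ^ 2 by norm_num]
        exact Nat.Coprime.pow_left _ (Nat.coprime_two_left.2 hodd))
    rw [← hm]
    exact K.pow_mem h1 m
  -- `v ∈ ⟨h v, h⁻¹ v⟩ + N`
  have hne' : h⁻¹ • v - v ∉ N := by
    intro h0
    apply hne
    have := hN h _ h0
    rw [smul_sub, smul_inv_smul] at this
    rw [← neg_sub]
    exact neg_mem this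
  have h3 : v + h • v + h⁻¹ • v ∈ N := by
    obtain ⟨α, β, h4⟩ := (hs h hhK).2
    rw [smul_inv_smul] at h4
    rcases zcases α with rfl | rfl <;> rcases zcases β with rfl | rfl
    · rw [zero_smul, zero_smul, add_zero, sub_zero] at h4
      exact absurd h4 hv
    · rw [zero_smul, one_smul, zero_add] at h4
      exact absurd (by rw [← neg_sub]; exact neg_mem h4) hne'
    · rw [zero_smul, one_smul, add_zero] at h4
      exact absurd (by rw [← neg_sub]; exact neg_mem h4) hne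
    · rw [one_smul, one_smul, sub_eq', ← add_assoc] at h4
      exact h4
  refine ⟨h3, fun c hc => ?_⟩
  -- `h (h v) ∈ h⁻¹ v + N`
  have h5 : h • (h • v) - h⁻¹ • v ∈ N := by
    have h6 := hN h _ h3
    rw [smul_add, smul_add, smul_inv_smul] at h6
    have e : h • (h • v) - h⁻¹ • v = (h • v + h • (h • v) + v) - (v + h • v + h⁻¹ • v) := by abel
    rw [e]
    exact sub_mem h6 h3
  have h5' : h⁻¹ • (h⁻¹ • v) - h • v ∈ N := by
    have h6 := hN h⁻¹ _ h3
    rw [smul_add, smul_add, inv_smul_smul] at h6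
    have e : h⁻¹ • (h⁻¹ • v) - h • v = (h⁻¹ • v + v + h⁻¹ • (h⁻¹ • v)) - (v + h • v + h⁻¹ • v) := by abel
    rw [e]
    exact sub_mem h6 h3
  set g := h * c * h⁻¹ with hg
  have hgK : g ∈ K := hK1 c hc
  have hgh : g • (h • v) = h • v := by
    rw [hg, mul_smul, mul_smul, inv_smul_smul, hC c hc]
  obtain ⟨α, β, h7⟩ := (hs g hgK).2
  have hβ : β = 1 := by
    rcases zcases β with rfl | rfl
    · exfalso
      rw [zero_smul, add_zero] at h7
      rcases zcases α with rfl | rfl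
      · rw [zero_smul, sub_zero] at h7
        have h8 := hN h _ (hN g⁻¹ _ h7)
        rw [inv_smul_smul, smul_inv_smul] at h8
        exact hv h8
      · rw [one_smul] at h7
        have h8 := hN g⁻¹ _ h7
        rw [smul_sub, inv_smul_smul] at h8
        have h9 : g⁻¹ • (h • v) = h • v := by rw [inv_smul_eq_iff, hgh]
        rw [h9] at h8
        apply hv
        have e : v = (v + h • v + h⁻¹ • v) - (h • v + h⁻¹ • v) := by abel
        rw [e]
        refine sub_mem h3 ?_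
        rwa [sub_eq', add_comm] at h8
    · rfl
  rw [hβ, one_smul] at h7
  refine ⟨α, ?_⟩
  -- `c (h v) = h⁻¹ g (h (h v))`
  have e1 : c • (h • v) = h⁻¹ • (g • (h • (h • v))) := by
    rw [hg, ← mul_smul, ← mul_smul, ← mul_smul, ← mul_smul]
    congr 1
    group
  have h8 : g • (h • (h • v)) - g • (h⁻¹ • v) ∈ N := by rw [← smul_sub]; exact hN g _ h5
  have h9 : h⁻¹ • (g • (h • (h • v))) - h⁻¹ • (α • (h • v) + h⁻¹ • v) ∈ N := by
    rw [← smul_sub]
    apply hN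
    have e : g • (h • (h • v)) - (α • (h • v) + h⁻¹ • v) =
      (g • (h • (h • v)) - g • (h⁻¹ • v)) + (g • (h⁻¹ • v) - (α • (h • v) + h⁻¹ • v)) := by abel
    rw [e]
    exact add_mem h8 h7
  rw [e1]
  have e2 : h⁻¹ • (α • (h • v) + h⁻¹ • v) = α • v + h⁻¹ • (h⁻¹ • v) := by
    rw [smul_add, smul_zsmul, inv_smul_smul]
  rw [e2] at h9
  have e3 : h⁻¹ • (g • (h • (h • v))) - (h • v + α • v) =
    (h⁻¹ • (g • (h • (h • v))) - (α • v + h⁻¹ • (h⁻¹ • v))) + (h⁻¹ • (h⁻¹ • v) - h • v) := by abel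
  rw [e3]
  exact add_mem h9 h5'

/-- `{m : [m, C] ⊆ ⟨v⟩ + N}` -/
def M1 (C : Subgroup H) (N : AddSubgroup M) (v : M) : AddSubgroup M where
  carrier := {m | ∀ c ∈ C, ∃ b : ZMod 2, c • m - (m + b • v) ∈ N}
  zero_mem' := fun c _ => ⟨0, by rw [smul_zero, zero_smul, add_zero, sub_zero]; exact zero_mem _⟩
  add_mem' := by
    intro m m' hm hm' c hc
    obtain ⟨a, ha⟩ := hm c hc
    obtain ⟨b, hb⟩ := hm' c hc
    refine ⟨a + b, ?_⟩
    have e : c • (m + m') - (m + m' + (a + b) • v) = (c • m - (m + a • v)) + (c • m' - (m' + b • v)) := by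
      rw [smul_add, add_smul]; abel
    rw [e]
    exact add_mem ha hb
  neg_mem' := by
    intro m hm
    rw [neg_self']
    exact hm

/-- `{m : [m, A] ⊆ K}` -/
def cA (A : Subgroup H) (K : AddSubgroup M) : AddSubgroup M where
  carrier := {m | ∀ a ∈ A, a • m - m ∈ K}
  zero_mem' := fun c _ => by rw [smul_zero, sub_self]; exact zero_mem _
  add_mem' := by
    intro m m' hm hm' c hc
    have e : c • (m + m') - (m + m') = (c • m - m) + (c • m' - m') := by rw [smul_add]; abel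
    rw [e]
    exact add_mem (hm c hc) (hm' c hc)
  neg_mem' := by
    intro m hm
    rw [neg_self']
    exact hm

theorem sum_units' {B : Type*} [Group B] [Fintype B] (t : B → ℤˣ) (ht : ∀ b b', t (b * b') = t b * t b') :
    ∑ b, ((t b : ℤˣ) : ℤ) = by classical exact if (∀ b, t b = 1) then (Fintype.card B : ℤ) else 0 := by
  classical
  split_ifs with h
  · simp [h]
  · push Not at h
    obtain ⟨c, hc⟩ := h
    have hc' : t c = -1 := (Int.units_eq_one_or (t c)).resolve_left hc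
    have h1 : ∑ b, ((t b : ℤˣ) : ℤ) = ∑ b, ((t (c * b) : ℤˣ) : ℤ) :=
      (Fintype.sum_equiv (Equiv.mulLeft c) _ _ (fun b => rfl)).symm
    have h2 : ∑ b, ((t (c * b) : ℤˣ) : ℤ) = - ∑ b, ((t b : ℤˣ) : ℤ) := by
      rw [← Finset.sum_neg_distrib]
      refine Finset.sum_congr rfl fun b _ => ?_
      rw [ht, hc']
      simp
    omega

/-- double counting for a pairing with values `±1` -/
theorem pairing_units' {A B : Type*} [Group A] [Group B] [Finite A] [Finite B] (s : A → B → ℤˣ)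
    (hl : ∀ a a' b, s (a * a') b = s a b * s a' b) (hr : ∀ a b b', s a (b * b') = s a b * s a b') :
    Nat.card {a // ∀ b, s a b = 1} * Nat.card B = Nat.card A * Nat.card {b // ∀ a, s a b = 1} := by
  classical
  have := Fintype.ofFinite A
  have := Fintype.ofFinite B
  have h1 : ∑ a, ∑ b, ((s a b : ℤˣ) : ℤ) = Nat.card {a // ∀ b, s a b = 1} * Nat.card B := by
    have : ∀ a, ∑ b, ((s a b : ℤˣ) : ℤ) = if (∀ b, s a b = 1) then (Fintype.card B : ℤ) else 0 :=
      fun a => by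
        rw [sum_units' (s a) (hr a)]
    simp only [this]
    rw [Finset.sum_ite, Finset.sum_const_zero, add_zero, Finset.sum_const, nsmul_eq_mul,
      Nat.card_eq_fintype_card, Nat.card_eq_fintype_card, Fintype.card_subtype]
  have h2 : ∑ b, ∑ a, ((s a b : ℤˣ) : ℤ) = Nat.card {b // ∀ a, s a b = 1} * Nat.card A := by
    have : ∀ b, ∑ a, ((s a b : ℤˣ) : ℤ) = if (∀ a, s a b = 1) then (Fintype.card A : ℤ) else 0 :=
      fun b => by
        rw [sum_units' (fun a => s a b) (fun a a' => hl a a' b)]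
    simp only [this]
    rw [Finset.sum_ite, Finset.sum_const_zero, add_zero, Finset.sum_const, nsmul_eq_mul,
      Nat.card_eq_fintype_card, Nat.card_eq_fintype_card, Fintype.card_subtype]
  rw [Finset.sum_comm, h2] at h1
  have h3 : (Nat.card {a // ∀ b, s a b = 1} * Nat.card B : ℤ) =
      Nat.card A * Nat.card {b // ∀ a, s a b = 1} := by rw [← h1, mul_comm]
  exact_mod_cast h3

theorem card_sup_mul [Finite M] (A B : AddSubgroup M) :
    Nat.card ↥(A ⊔ B) * Nat.card ↥(A ⊓ B) = Nat.card A * Nat.card B := by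
  have h1 : B.relIndex (A ⊔ B) = B.relIndex A := AddSubgroup.relIndex_sup_right A B
  have key : ∀ X Y : AddSubgroup M, X ≤ Y → Nat.card Y = Nat.card X * X.relIndex Y := by
    intro X Y hXY
    have h2 := AddSubgroup.card_mul_index (X.addSubgroupOf Y)
    have h3 : Nat.card (X.addSubgroupOf Y) = Nat.card X :=
      Nat.card_congr (AddSubgroup.addSubgroupOfEquivOfLe hXY).toEquiv
    rw [← h2, h3]
    rfl
  have h2 := key B (A ⊔ B) le_sup_right
  have h3 := key (A ⊓ B) A inf_le_left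
  have h4 : (A ⊓ B).relIndex A = B.relIndex A := AddSubgroup.inf_relIndex_left A B
  rw [h2, h3, h1, h4]
  ring

/-- **(1)** -/
theorem tv_of [Finite H] [Finite M] (hN : ∀ (g : H), ∀ n ∈ N, g • n ∈ N) {A A0 : Subgroup H} {C : Subgroup H} {v : M}
    (hv : v ∉ N) (hAC : A ≤ C)
    (hC : ∀ c ∈ C, c • v = v) (hsq : ∀ a ∈ A, a * a = 1)
    (hex : Nat.card M * Nat.card A0 ≤ Nat.card A * Nat.card (cA A (⊥ : AddSubgroup M)))
    (hmv : ∀ a ∈ A, a ∉ A0 → ∃ h, Odd (orderOf h) ∧ a * h * a⁻¹ = h⁻¹ ∧ h • v - v ∉ N ∧ SS C N v h) :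
    ∀ a ∈ A, ∀ m : M, ∃ b : ZMod 2, a • m - (m + b • v) ∈ N := by
  classical
  have hval : ∀ a ∈ A, ∀ m ∈ M1 C N v, ∃ b : ZMod 2, a • m - (m + b • v) ∈ N := fun a ha m hm => hm a (hAC ha)
  -- the pairing
  have hnot : ∀ a ∈ A, ∀ m ∈ M1 C N v, a • m - m ∉ N → a • m - m - v ∈ N := by
    intro a ha m hm h1
    obtain ⟨b, hb⟩ := hval a ha m hm
    rcases zcases b with rfl | rfl
    · rw [zero_smul, add_zero] at hb
      exact absurd hb h1
    · rw [one_smul, ← sub_sub] at hb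
      exact hb
  have hadd : ∀ x y : M, x ∉ N → x - v ∈ N → y ∉ N → y - v ∈ N → x + y ∈ N := by
    intro x y _ h1 _ h2
    have e : x + y = (x - v) + (y - v) + (v + v) := by abel
    rw [e, add_self', add_zero]
    exact add_mem h1 h2
  have hadd' : ∀ x y : M, x ∈ N → y ∉ N → x + y ∉ N := by
    intro x y h1 h2 h3
    exact h2 ((AddSubgroup.add_mem_cancel_left N h1).1 h3)
  let s : A → Multiplicative (M1 C N v) → ℤˣ := fun a m =>
    if (a : H) • ((Multiplicative.toAdd m : M1 C N v) : M) - ((Multiplicative.toAdd m : M1 C N v) : M) ∈ N then 1 else -1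
  have hl : ∀ a a' b, s (a * a') b = s a b * s a' b := by
    intro a a' b
    set m : M := ((Multiplicative.toAdd b : M1 C N v) : M) with hm
    have hmM : m ∈ M1 C N v := (Multiplicative.toAdd b : M1 C N v).2
    have e : ((a * a' : A) : H) • m - m = (a : H) • ((a' : H) • m - m) + ((a : H) • m - m) := by
      rw [Subgroup.coe_mul, mul_smul, smul_sub]; abel
    -- `a (a' m - m) = (a' m - m)` modulo `N`
    have e2 : (a : H) • ((a' : H) • m - m) - ((a' : H) • m - m) ∈ N := by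
      by_cases h1 : (a' : H) • m - m ∈ N
      · exact sub_mem (hN _ _ h1) h1
      · have h2 := hnot a' a'.2 m hmM h1
        have e3 : (a : H) • ((a' : H) • m - m) - ((a' : H) • m - m) =
          (a : H) • ((a' : H) • m - m - v) - ((a' : H) • m - m - v) + ((a : H) • v - v) := by
          rw [smul_sub (a : H) ((a' : H) • m - m) v]; abel
        rw [e3, hC _ (hAC a.2), sub_self, add_zero]
        exact sub_mem (hN _ _ h2) h2
    have e4 : ((a * a' : A) : H) • m - m ∈ N ↔ ((a' : H) • m - m) + ((a : H) • m - m) ∈ N := by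
      have e5 : ((a * a' : A) : H) • m - m = ((a : H) • ((a' : H) • m - m) - ((a' : H) • m - m)) +
          (((a' : H) • m - m) + ((a : H) • m - m)) := by rw [e]; abel
      rw [e5]
      exact AddSubgroup.add_mem_cancel_left N e2
    change (if ((a * a' : A) : H) • m - m ∈ N then (1 : ℤˣ) else -1) =
      (if (a : H) • m - m ∈ N then 1 else -1) * (if (a' : H) • m - m ∈ N then 1 else -1)
    by_cases h1 : (a : H) • m - m ∈ N <;> by_cases h2 : (a' : H) • m - m ∈ N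
    · rw [if_pos (e4.2 (add_mem h2 h1)), if_pos h1, if_pos h2, one_mul]
    · rw [if_neg (fun h3 => hadd' _ _ h1 h2 (by rw [add_comm]; exact e4.1 h3)), if_pos h1, if_neg h2, one_mul]
    · rw [if_neg (fun h3 => hadd' _ _ h2 h1 (e4.1 h3)), if_neg h1, if_pos h2, mul_one]
    · rw [if_pos (e4.2 (hadd _ _ h2 (hnot a' a'.2 m hmM h2) h1 (hnot a a.2 m hmM h1))), if_neg h1, if_neg h2]
      rfl
  have hr : ∀ a b b', s a (b * b') = s a b * s a b' := by
    intro a b b'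
    set m : M := ((Multiplicative.toAdd b : M1 C N v) : M) with hm
    set m' : M := ((Multiplicative.toAdd b' : M1 C N v) : M) with hm'
    have hmM : m ∈ M1 C N v := (Multiplicative.toAdd b : M1 C N v).2
    have hmM' : m' ∈ M1 C N v := (Multiplicative.toAdd b' : M1 C N v).2
    have e : (a : H) • (m + m') - (m + m') = ((a : H) • m - m) + ((a : H) • m' - m') := by rw [smul_add]; abel
    change (if (a : H) • (m + m') - (m + m') ∈ N then (1 : ℤˣ) else -1) =
      (if (a : H) • m - m ∈ N then 1 else -1) * (if (a : H) • m' - m' ∈ N then 1 else -1)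
    rw [e]
    by_cases h1 : (a : H) • m - m ∈ N <;> by_cases h2 : (a : H) • m' - m' ∈ N
    · rw [if_pos (add_mem h1 h2), if_pos h1, if_pos h2, one_mul]
    · rw [if_neg (hadd' _ _ h1 h2), if_pos h1, if_neg h2, one_mul]
    · rw [add_comm, if_neg (hadd' _ _ h2 h1), if_neg h1, if_pos h2, mul_one]
    · rw [if_pos (hadd _ _ h1 (hnot a a.2 m hmM h1) h2 (hnot a a.2 m' hmM' h2)), if_neg h1, if_neg h2]
      rfl
  have hp := pairing_units' s hl hr
  have hs1 : ∀ a b, s a b = 1 ↔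
      (a : H) • ((Multiplicative.toAdd b : M1 C N v) : M) - ((Multiplicative.toAdd b : M1 C N v) : M) ∈ N := by
    intro a b
    change (if _ then (1 : ℤˣ) else -1) = 1 ↔ _
    by_cases h1 : (a : H) • ((Multiplicative.toAdd b : M1 C N v) : M) - ((Multiplicative.toAdd b : M1 C N v) : M) ∈ N
    · rw [if_pos h1]; exact ⟨fun _ => h1, fun _ => rfl⟩
    · rw [if_neg h1]; exact ⟨fun h2 => absurd h2 (by decide), fun h2 => absurd h2 h1⟩
  have c1 : Nat.card {a // ∀ b, s a b = 1} ≤ Nat.card A0 := by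
    refine Nat.card_le_card_of_injective (fun a => (⟨((a : A) : H), ?_⟩ : A0)) ?_
    · by_contra hcon
      obtain ⟨h, hodd, hinv, hne, hss⟩ := hmv _ (a : A).2 hcon
      obtain ⟨h1, h2⟩ := hss.out hN hv hC (hAC (a : A).2) (hsq _ (a : A).2) hodd hinv hne
      have h3 : h • v ∈ M1 C N v := h2
      have h4 := (hs1 a (Multiplicative.ofAdd ⟨h • v, h3⟩)).1 (a.2 _)
      change ((a : A) : H) • (h • v) - h • v ∈ N at h4
      have h5 : ((a : A) : H) • (h • v) = h⁻¹ • v := by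
        rw [← hinv, mul_smul, mul_smul]
        have h6 : ((a : A) : H)⁻¹ • v = v := by rw [inv_smul_eq_iff, hC _ (hAC (a : A).2)]
        rw [h6]
      rw [h5, sub_eq'] at h4
      apply hv
      have e : v = (v + h • v + h⁻¹ • v) - (h⁻¹ • v + h • v) := by abel
      rw [e]
      exact sub_mem h1 h4
    · intro a a' e
      exact Subtype.ext (Subtype.ext (congrArg (fun x : A0 => (x : H)) e))
  have c2 : Nat.card ↥(M1 C N v ⊓ cA A N) ≤ Nat.card {b // ∀ a, s a b = 1} := by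
    refine Nat.card_le_card_of_injective
      (fun m => ⟨Multiplicative.ofAdd (⟨(m : M), m.2.1⟩ : M1 C N v), fun a => (hs1 a _).2 (m.2.2 a a.2)⟩) ?_
    intro m m' e
    have h1 := congrArg (fun x => ((Multiplicative.toAdd x.1 : M1 C N v) : M)) e
    exact Subtype.ext h1
  have c3 : Nat.card (cA A (⊥ : AddSubgroup M)) ≤ Nat.card (cA A N) := by
    refine Nat.card_le_card_of_injective (fun m => ⟨(m : M), fun a ha => ?_⟩) ?_
    · have := m.2 a ha
      rw [AddSubgroup.mem_bot] at this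
      rw [this]
      exact zero_mem _
    · intro m m' e
      have h1 := congrArg (fun x : cA A N => (x : M)) e
      exact Subtype.ext h1
  have c4 := card_sup_mul (M1 C N v) (cA A N)
  have hcM : Nat.card (Multiplicative (M1 C N v)) = Nat.card (M1 C N v) := rfl
  rw [hcM] at hp
  have p0 : 0 < Nat.card A0 := Nat.card_pos
  have p1 : 0 < Nat.card ↥(M1 C N v ⊓ cA A N) := Nat.card_pos
  have d1 : Nat.card A * Nat.card ↥(M1 C N v ⊓ cA A N) ≤ Nat.card A0 * Nat.card (M1 C N v) :=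
    (Nat.mul_le_mul_left _ c2).trans (hp.ge.trans (Nat.mul_le_mul_right _ c1))
  have d2 : Nat.card M * Nat.card A0 ≤ Nat.card A * Nat.card (cA A N) := hex.trans (Nat.mul_le_mul_left _ c3)
  have d3 : Nat.card M ≤ Nat.card ↥(M1 C N v ⊔ cA A N) := by
    refine Nat.le_of_mul_le_mul_right ?_ (Nat.mul_pos p1 p0)
    calc Nat.card M * (Nat.card ↥(M1 C N v ⊓ cA A N) * Nat.card A0)
        = (Nat.card M * Nat.card A0) * Nat.card ↥(M1 C N v ⊓ cA A N) := by ring
      _ ≤ (Nat.card A * Nat.card (cA A N)) * Nat.card ↥(M1 C N v ⊓ cA A N) := Nat.mul_le_mul_right _ d2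
      _ = (Nat.card A * Nat.card ↥(M1 C N v ⊓ cA A N)) * Nat.card (cA A N) := by ring
      _ ≤ (Nat.card A0 * Nat.card (M1 C N v)) * Nat.card (cA A N) := Nat.mul_le_mul_right _ d1
      _ = (Nat.card ↥(M1 C N v ⊔ cA A N) * Nat.card ↥(M1 C N v ⊓ cA A N)) * Nat.card A0 := by rw [c4]; ring
      _ = _ := by ring
  have htop : M1 C N v ⊔ cA A N = ⊤ := AddSubgroup.eq_top_of_le_card _ d3
  intro a ha m
  have hm : m ∈ M1 C N v ⊔ cA A N := by rw [htop]; exact AddSubgroup.mem_top m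
  obtain ⟨x, hx, y, hy, rfl⟩ := AddSubgroup.mem_sup.1 hm
  obtain ⟨b, hb⟩ := hx a (hAC ha)
  refine ⟨b, ?_⟩
  have e : a • (x + y) - (x + y + b • v) = (a • x - (x + b • v)) + (a • y - y) := by rw [smul_add]; abel
  rw [e]
  exact add_mem hb (hy a ha)

/-- a functional -/
theorem exists_tv {v : M} (hv : v ∉ N) {a : H}
    (h : ∀ m : M, ∃ b : ZMod 2, a • m - (m + b • v) ∈ N) : ∃ φ : Dual (ZMod 2) M, Tv N a φ v := by
  classical
  choose f hf using h
  have huniq : ∀ m (b : ZMod 2), a • m - (m + b • v) ∈ N → b = f m := by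
    intro m b hb
    have h1 := sub_mem hb (hf m)
    have e : a • m - (m + b • v) - (a • m - (m + f m • v)) = (f m - b) • v := by rw [sub_smul]; abel
    rw [e] at h1
    rcases zcases (f m - b) with h2 | h2
    · exact (sub_eq_zero.1 h2).symm
    · rw [h2, one_smul] at h1
      exact absurd h1 hv
  have hadd : ∀ m m', f (m + m') = f m + f m' := by
    intro m m'
    refine (huniq _ _ ?_).symm
    have e : a • (m + m') - (m + m' + (f m + f m') • v) = (a • m - (m + f m • v)) + (a • m' - (m' + f m' • v)) := by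
      rw [smul_add, add_smul]; abel
    rw [e]
    exact add_mem (hf m) (hf m')
  refine ⟨(AddMonoidHom.mk' f hadd).toZModLinearMap 2, fun m => ⟨_, hf m, ?_⟩⟩
  change a • m = m + f m • v + _
  abel

end one

end Cfsg.Agent.Omega.NO3S.WZero.NOne
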