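import Cfsg.Agent.Omega.NO3S.WZero.Exact
import Cfsg.Agent.Omega.NO3S.WZero.NOneAbs
import Cfsg.Agent.Omega.NO3S.TypeN.Main
import Cfsg.Agent.Omega.NO3S.TwoMid.Alpha

/-!
# W0: case (N1) is impossible (helper511 #19388, helper315 #19437, helper502 #19214)

* `MM H W ..` : the elementary abelian group `W` as `F₂`-module for `H ≤ N(W)`;
* `Wz.sy` : the instance `Sy` of `NOneAbs` for the point `p`;
* `Wz.n1` : for some critical pair `(p, q)` some `f ∈ N_q` does not centralise `W_p`.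
-/

set_option autoImplicit false
set_option linter.unusedSectionVars false

namespace Cfsg.Agent.Omega.NO3S.WZero

open Subgroup Cfsg Cfsg.Agent.ZN Cfsg.Agent.MinSimple.Geo Cfsg.Agent.Omega.CaseL Cfsg.Agent.Omega.NO3S.TwoOne
open Cfsg.Agent.Omega.NO3S.Pt
open Cfsg.Agent.Omega.NO3S.Dual (nn mem_nn DW)
open Cfsg.Agent.ZN.Block (conj_mem_of_normalizer conj_mem_of_normalizer' le_normalizer_of_forall
  mem_normalizer_of)

universe u

variable {G : Type u} [Group G]

namespace NOne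

/-! ### the module -/

/-- `W` as a module -/
def MM (H W : Subgroup G) (_ : ∀ a ∈ W, ∀ b ∈ W, a * b = b * a) (_ : ∀ a ∈ W, a * a = 1)
    (_ : H ≤ normalizer (W : Set G)) : Type u := Additive W

section MM

variable {H W : Subgroup G} {hc : ∀ a ∈ W, ∀ b ∈ W, a * b = b * a} {hs : ∀ a ∈ W, a * a = 1}
  {hn : H ≤ normalizer (W : Set G)}

instance : AddGroup (MM H W hc hs hn) := (inferInstance : AddGroup (Additive W))

instance : AddCommGroup (MM H W hc hs hn) :=
  { (inferInstance : AddGroup (MM H W hc hs hn)) with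
    add_comm := fun a b => congrArg Additive.ofMul
      (Subtype.ext (hc _ (Additive.toMul (show Additive W from a)).2 _ (Additive.toMul (show Additive W from b)).2)) }

/-- the element of `W` -/
def val (m : MM H W hc hs hn) : G := ((Additive.toMul (show Additive W from m) : W) : G)

/-- an element of the module -/
def mk (w : G) (hw : w ∈ W) : MM H W hc hs hn := Additive.ofMul (⟨w, hw⟩ : W)

theorem val_mk {w : G} (hw : w ∈ W) : val (mk w hw : MM H W hc hs hn) = w := rfl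

theorem val_inj {a b : MM H W hc hs hn} (h : val a = val b) : a = b := by
  have h1 : (Additive.toMul (show Additive W from a) : W) = Additive.toMul (show Additive W from b) := Subtype.ext h
  exact h1

theorem val_mem (m : MM H W hc hs hn) : val m ∈ W := (Additive.toMul (show Additive W from m) : W).2

theorem val_add (a b : MM H W hc hs hn) : val (a + b) = val a * val b := rfl

theorem val_zero : val (0 : MM H W hc hs hn) = 1 := rfl

theorem val_neg (a : MM H W hc hs hn) : val (-a) = (val a)⁻¹ := rfl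

theorem val_sub (a b : MM H W hc hs hn) : val (a - b) = val a * (val b)⁻¹ := by
  rw [sub_eq_add_neg, val_add, val_neg]

instance : Module (ZMod 2) (MM H W hc hs hn) := AddCommGroup.zmodModule fun x => by
  rw [two_nsmul]
  exact val_inj (by rw [val_add, val_zero]; exact hs _ (val_mem x))

instance : DistribMulAction H (MM H W hc hs hn) where
  smul g m := mk (g * val m * (g : G)⁻¹) (conj_mem_of_normalizer hn g.2 (val_mem m))
  one_smul m := val_inj (by change (1 : G) * val m * (1 : G)⁻¹ = val m; group)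
  mul_smul g h m := val_inj (by
    change (g * h : G) * val m * (g * h : G)⁻¹ = g * (h * val m * (h : G)⁻¹) * (g : G)⁻¹
    group)
  smul_zero g := val_inj (by change (g : G) * 1 * (g : G)⁻¹ = 1; group)
  smul_add g a b := val_inj (by
    change (g : G) * (val a * val b) * (g : G)⁻¹ = (g * val a * (g : G)⁻¹) * (g * val b * (g : G)⁻¹)
    group)

theorem val_smul (g : H) (m : MM H W hc hs hn) : val (g • m) = g * val m * (g : G)⁻¹ := rfl

instance [Finite G] : Finite (MM H W hc hs hn) := (inferInstance : Finite (Additive W))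

/-- the submodule given by `K ≤ G` -/
def sb (K : Subgroup G) : AddSubgroup (MM H W hc hs hn) where
  carrier := {m | val m ∈ K}
  zero_mem' := by change (1 : G) ∈ K; exact one_mem _
  add_mem' := fun {a b} ha hb => by change val a * val b ∈ K; exact mul_mem ha hb
  neg_mem' := fun {a} ha => by change (val a)⁻¹ ∈ K; exact inv_mem ha

theorem mem_sb {K : Subgroup G} {m : MM H W hc hs hn} : m ∈ sb K ↔ val m ∈ K := Iff.rfl

theorem card_MM : Nat.card (MM H W hc hs hn) = Nat.card W := rfl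

end MM

/-! ### the group `L` -/

variable {T V : Subgroup G} {z p q : G} {n : ℕ}

/-- the group generated by the `W_q`, `(p, q)` critical -/
def lg (V : Subgroup G) (n : ℕ) (p : G) : Subgroup G := Subgroup.closure {f | ∃ q, Cr V n p q ∧ f ∈ ws V q}

theorem mem_lg {f : G} (hc : Cr V n p q) (hf : f ∈ ws V q) : f ∈ lg V n p := subset_closure ⟨q, hc, hf⟩

theorem lg_le [Finite G] (h : Wz T V z n) (p : G) : lg V n p ≤ centralizer ({p} : Set G) := by
  refine (closure_le _).2 ?_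
  rintro f ⟨q, hc, hf⟩
  exact h.le_cent hc.symm hf

theorem lg_norm (V : Subgroup G) (n : ℕ) (p : G) : centralizer ({p} : Set G) ≤ normalizer (lg V n p : Set G) := by
  refine le_normalizer_of_forall fun g hg y hy => ?_
  have hgp : g * p * g⁻¹ = p := by
    rw [mem_centralizer_singleton_iff.1 hg]; group
  change y ∈ Subgroup.closure _ at hy
  induction hy using closure_induction with
  | mem f hf =>
    obtain ⟨q, hc, hf⟩ := hf
    have h1 := hc.conj g
    rw [hgp] at h1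
    exact mem_lg h1 (conj_mem_ws g hf)
  | one => rw [mul_one, mul_inv_cancel]; exact one_mem _
  | mul a b _ _ h1 h2 =>
    have e : g * (a * b) * g⁻¹ = (g * a * g⁻¹) * (g * b * g⁻¹) := by group
    rw [e]; exact mul_mem h1 h2
  | inv a _ h1 =>
    have e : g * a⁻¹ * g⁻¹ = (g * a * g⁻¹)⁻¹ := by group
    rw [e]; exact inv_mem h1

theorem nn_norm (V : Subgroup G) (p : G) :
    centralizer ({p} : Set G) ≤ normalizer ((nn (ws V p) (kq V p) : Subgroup G) : Set G) := by
  refine le_normalizer_of_forall fun g hg w hw => ?_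
  obtain ⟨h1, h2⟩ := mem_nn.1 hw
  have hgp : g * p * g⁻¹ = p := by rw [mem_centralizer_singleton_iff.1 hg]; group
  have hgp' : g⁻¹ * p * g = p := by
    have := mem_centralizer_singleton_iff.1 hg
    rw [mul_assoc, ← this, inv_mul_cancel_left]
  refine mem_nn.2 ⟨conj_mem_of_normalizer (centralizer_le_normalizer_ws V p) hg h1, fun k hk => ?_⟩
  have hk' : g⁻¹ * k * g ∈ kq V p := by
    have := conj_mem_kq g⁻¹ hk
    rwa [inv_inv, hgp'] at this
  have h3 := h2 _ hk'
  calc k * (g * w * g⁻¹) = g * ((g⁻¹ * k * g) * w) * g⁻¹ := by group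
    _ = g * (w * (g⁻¹ * k * g)) * g⁻¹ := by rw [h3]
    _ = g * w * g⁻¹ * k := by group

/-- elements of the Sylow group of a flag `(p, {p, x, px})` fix `x` modulo `⟨p⟩` -/
theorem exists_syl [Finite G] (h : Fr T V z) {x : G} (hx : Col V p x) (hxp : x ≠ p) :
    ∃ S : Subgroup G, S ≤ centralizer ({p} : Set G) ∧ IsPGroup 2 S ∧
      ¬ 2 ∣ S.relIndex (centralizer ({p} : Set G)) ∧ (∀ s ∈ S, s * x * s⁻¹ * x⁻¹ ∈ zpowers p) ∧
      ∀ w ∈ ws V p, (∀ s ∈ S, s * w = w * s) → w ∈ zpowers p := by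
  obtain ⟨g, hp, hxg, hp1, hx1⟩ := hx
  obtain ⟨k, hk, hkz, hf⟩ := h.flag hp hp1
  refine ⟨cj k T, hf.ln.T_le, hf.ln.two, hf.ln.T_syl, fun s hs => ?_, fun w hw hws => ?_⟩
  · have h1 : s * x * s⁻¹ ∈ cj g V := conj_mem_of_normalizer hf.ln.T_norm hs hxg
    have hsp := mem_centralizer_singleton_iff.1 (hf.ln.T_le hs)
    have hne : s * x * s⁻¹ ≠ 1 := fun e => hx1 (conj_eq_one_iff.1 e)
    have hne' : s * x * s⁻¹ ≠ p := by
      intro e
      apply hxp
      calc x = s⁻¹ * (s * x * s⁻¹) * s := by group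
        _ = s⁻¹ * (p * s) := by rw [e]; group
        _ = s⁻¹ * (s * p) := by rw [hsp]
        _ = p := by group
    rcases hf.ln.four hp hxg hp1 hx1 (Ne.symm hxp) h1 with e | e | e | e
    · exact absurd e hne
    · exact absurd e hne'
    · rw [e, mul_inv_cancel]; exact one_mem _
    · rw [e, mul_inv_cancel_right]; exact mem_zpowers p
  · have hpp : Col V p p := ⟨g, hp, hp, hp1, hp1⟩
    have h1 : w ∈ cj k T := by
      have h2 := hf.ln.ws_le_o2
      rw [ws_cj] at h2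
      have h3 : o2 (centralizer ({p} : Set G)) ≤ cj k T :=
        MinSimple.VModule.o2_le_of_sylow hf.ln.two hf.ln.T_syl
      exact h3 (h2 hw)
    rcases hf.ln.soc w h1 (h.ws_sq hpp w hw) hws with e | e
    · rw [e]; exact one_mem _
    · rw [e]; exact mem_zpowers p

end NOne

open NOne

/-- the module of the point `p` -/
abbrev Mp {T V : Subgroup G} {z : G} {n : ℕ} (h : Wz T V z n) {p : G} (hp : Col V p p) : Type u :=
  MM (centralizer ({p} : Set G)) (ws V p) (h.fr.ws_comm hp) (h.fr.ws_sq hp) (centralizer_le_normalizer_ws V p)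

namespace Wz

variable {T V : Subgroup G} {z p q : G} {n : ℕ} [Finite G]

/-- the instance -/
theorem sy (h : Wz T V z n) (hp : Col V p p)
    (hN1 : ∀ q, Cr V n p q → ∀ f ∈ ws V q, ∀ w ∈ nn (ws V p) (kq V p), f * w = w * f) :
    Sy (M := Mp h hp) ((lg V n p).subgroupOf (centralizer ({p} : Set G)))
      (sb (nn (ws V p) (kq V p))) (sb (zpowers p)) {m | Col V p (val m) ∧ val m ≠ p} where
  Ln g y hy := by
    rw [mem_subgroupOf] at hy ⊢
    exact conj_mem_of_normalizer (lg_norm V n p) g.2 hy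
  LN y hy m hm := by
    apply val_inj
    rw [val_smul]
    have h1 : lg V n p ≤ centralizer ((nn (ws V p) (kq V p) : Subgroup G) : Set G) := by
      refine (closure_le _).2 ?_
      rintro f ⟨q, hc, hf⟩
      rw [SetLike.mem_coe, mem_centralizer_iff]
      exact fun w hw => (hN1 q hc f hf w hw).symm
    exact conj_eq_of_comm (mem_centralizer_iff.1 (h1 (mem_subgroupOf.1 hy)) _ hm).symm
  HN g m hm := conj_mem_of_normalizer (nn_norm V p) g.2 hm
  HP g m hm := by
    rw [mem_sb, val_smul]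
    obtain ⟨i, hi⟩ := mem_zpowers_iff.1 (mem_sb.1 hm)
    rw [← hi, ← conj_zpow]
    have : (g : G) * p * (g : G)⁻¹ = p := by rw [mem_centralizer_singleton_iff.1 g.2]; group
    rw [this]
    exact zpow_mem (mem_zpowers p) i
  PN := by
    intro m hm
    have h1 : zpowers p ≤ nn (ws V p) (kq V p) := by
      rw [zpowers_le]
      exact (h.fr.dw hp).q_mem_nn
    exact h1 hm
  HL g m hm := by
    have hgp : (g : G) * p * (g : G)⁻¹ = p := by rw [mem_centralizer_singleton_iff.1 g.2]; group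
    refine ⟨?_, fun e => hm.2 ?_⟩
    · have := hm.1.conj (g : G)
      rwa [hgp] at this
    · rw [val_smul] at e
      calc val m = (g : G)⁻¹ * (g * val m * (g : G)⁻¹) * g := by group
        _ = (g : G)⁻¹ * (g * p * (g : G)⁻¹) * g := by rw [e, hgp]
        _ = p := by group
  trans v hv w hw := by
    obtain ⟨g, hg1, hg2⟩ := TypeN.exists_conj_flag h.fr hv.1 hv.2 hw.1 hw.2
    have hg : g ∈ centralizer ({p} : Set G) := by
      rw [mem_centralizer_singleton_iff]
      exact mul_inv_eq_iff_eq_mul.1 hg1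
    exact ⟨⟨g, hg⟩, val_inj hg2⟩
  LaN v hv hvN := by
    obtain ⟨g, hp', hx, hp1, hx1⟩ := hv.1
    obtain ⟨k, hk, -, hk2⟩ := h.fr.mover_cj hp' hp1
    have h1 := hk2 _ hx hx1 hv.2
    have h2 := (mem_nn.1 (mem_sb.1 hvN)).2 k hk
    rw [conj_eq_of_comm h2] at h1
    exact hp1 (by simpa using h1.symm)
  syl v hv := by
    obtain ⟨S, hS1, hS2, hS3, hS4, -⟩ := exists_syl h.fr hv.1 hv.2
    refine ⟨(S ⊓ lg V n p).subgroupOf (centralizer ({p} : Set G)), comap_mono inf_le_right, ?_, fun s hs => ?_⟩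
    · rw [relIndex_subgroupOf (lg_le h p), inf_relIndex_right]
      exact not_dvd_relIndex_of_normal hS1 hS2 hS3 (lg_le h p) (lg_norm V n p)
    · rw [mem_sb, val_sub, val_smul]
      exact hS4 _ hs.1

end Wz

/-! ### movers -/

open Cfsg.Agent.Omega.NO3S.TwoMid.Alpha (Iv exists_iv pow_four')

/-- `(p, q)` critical, `r` the neighbour of `p` on a geodesic, on the line `cj g V` -/
structure St (V : Subgroup G) (m : ℕ) (p q r g : G) : Prop where
  cr : Cr V (m + 1) p q
  pth : Pth V m q r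
  pg : p ∈ cj g V
  rg : r ∈ cj g V
  p1 : p ≠ 1
  r1 : r ≠ 1
  rp : r ≠ p
  ho2 : ws V q ≤ o2 (centralizer ((cj g V : Subgroup G) : Set G))

theorem exists_st [Finite G] {T V : Subgroup G} {z : G} (h : Fr T V z) {m : ℕ} {p q : G} (hc : Cr V (m + 1) p q) :
    ∃ r g, St V m p q r g := by
  obtain ⟨r, g, h1, h2, h3, h4, h5, h6, h7⟩ := hc.symm.last h
  exact ⟨r, g, hc, h1, h3, h2, h5, h4, h6, h7⟩

namespace St

variable {T V : Subgroup G} {z p q r g : G} {m : ℕ}

theorem col (s : St V m p q r g) : Col V p r := ⟨g, s.pg, s.rg, s.p1, s.r1⟩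

theorem pp (s : St V m p q r g) : Col V p p := s.col.left

theorem rr (s : St V m p q r g) : Col V r r := s.col.right

variable [Finite G]

/-- `W_q` centralises `W_r` -/
theorem com (s : St V m p q r g) : ws V q ≤ centralizer (ws V r : Set G) := by
  intro a ha
  rw [mem_centralizer_iff]
  intro b hb
  exact (s.cr.min m (by omega) q r s.pth a ha b hb).symm

theorem cent_r (h : Fr T V z) (s : St V m p q r g) {c : G} (hc : c ∈ centralizer (ws V r : Set G)) : c * r = r * c :=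
  (mem_centralizer_iff.1 hc r (h.mem_ws_self s.rr)).symm

theorem cent_p (h : Fr T V z) (s : St V m p q r g) {c : G} (hc : c ∈ centralizer (ws V r : Set G)) : c * p = p * c :=
  (mem_centralizer_iff.1 hc p (h.mem_ws_of_col s.col.symm)).symm

/-- (LIFT) -/
theorem eq_one (h : Fr T V z) (s : St V m p q r g) {f u : G} (hf : f ∈ ws V q) (i : Iv p f u)
    (hr : u * r * u⁻¹ = r ∨ u * r * u⁻¹ = p * r) : u = 1 := by
  have hpp : p * p = 1 := h.pt_sq s.pp
  have h2 : u * u * r = r * (u * u) := by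
    rcases hr with e | e
    · have h3 := comm_of_conj_eq e
      rw [mul_assoc, h3, ← mul_assoc, h3, mul_assoc]
    · apply comm_of_conj_eq
      calc u * u * r * (u * u)⁻¹ = u * (u * r * u⁻¹) * u⁻¹ := by group
        _ = u * p * (r * u⁻¹) := by rw [e]; group
        _ = p * (u * r * u⁻¹) := by rw [i.cb]; group
        _ = r := by rw [e, ← mul_assoc, hpp, one_mul]
  have h2' : u * u * p = p * (u * u) := by
    rw [mul_assoc, i.cb, ← mul_assoc, i.cb, mul_assoc]
  obtain ⟨k, hk, -, hfl⟩ := h.flag s.pg s.p1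
  have huC : u * u ∈ centralizer ((cj g V : Subgroup G) : Set G) :=
    hfl.mem_centralizer_of s.pg s.p1 s.rg s.r1 s.rp h2' h2
  have hfo := s.ho2 hf
  have h4 : u * u * f * (u * u)⁻¹ * f⁻¹ ∈ o2 (centralizer ((cj g V : Subgroup G) : Set G)) :=
    mul_mem (conj_mem_of_normalizer (MinSimple.VModule.le_normalizer_o2 _) huC hfo) (inv_mem hfo)
  have hi := i.symm.inv
  rw [inv_inv] at hi
  have h5 : u * u * f * (u * u)⁻¹ * f⁻¹ = u ^ 4 := by
    calc u * u * f * (u * u)⁻¹ * f⁻¹ = u * u * (f * u⁻¹ * f⁻¹) * (f * u⁻¹ * f⁻¹) := by group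
      _ = u ^ 4 := by rw [hi, pow_four']
  rw [h5] at h4
  obtain ⟨n, hn⟩ := MinSimple.VModule.o2_isPGroup (centralizer ((cj g V : Subgroup G) : Set G)) ⟨u ^ 4, h4⟩
  have h6 : u ^ (4 * 2 ^ n) = 1 := by
    rw [pow_mul]
    exact congrArg Subtype.val hn
  have h7 : orderOf u ∣ 4 * 2 ^ n := orderOf_dvd_of_pow_eq_one h6
  have h8 : Nat.Coprime (orderOf u) (4 * 2 ^ n) := by
    have : 4 * 2 ^ n = 2 ^ (n + 2) := by rw [pow_add]; ring
    rw [this]
    exact Nat.Coprime.pow_right _ (Nat.coprime_two_right.2 i.odd)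
  exact orderOf_eq_one_iff.mp (Nat.eq_one_of_dvd_coprimes h8 dvd_rfl h7)

end St

/-- an element of odd order with square in `K` -/
theorem mem_of_sq {K : Subgroup G} {u : G} (ho : Odd (orderOf u)) (h : u * u ∈ K) : u ∈ K := by
  obtain ⟨j, hj⟩ := exists_pow_eq_self_of_coprime (x := u) (n := 2) (Nat.coprime_two_left.2 ho)
  rw [← hj]
  exact K.pow_mem (by rwa [pow_two]) j

/-- a mover: `f ∈ W_q`, `h ≠ 1` odd inverted by `f` -/
structure Mr (V : Subgroup G) (m : ℕ) (p q r g f u : G) : Prop extends St V m p q r g where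
  f_mem : f ∈ ws V q
  iv : Iv p f u
  ne : u ≠ 1

namespace Mr

variable {T V : Subgroup G} {z p q r g f u : G} {m : ℕ} [Finite G]

theorem ff (h : Fr T V z) (s : Mr V m p q r g f u) : f * f = 1 := h.ws_sq s.cr.path.right f s.f_mem

theorem fr (h : Fr T V z) (s : Mr V m p q r g f u) : f * r = r * f := s.cent_r h (s.com s.f_mem)

theorem fp (h : Fr T V z) (s : Mr V m p q r g f u) : f * p = p * f := s.cent_p h (s.com s.f_mem)

theorem up (s : Mr V m p q r g f u) : u * p * u⁻¹ = p := by rw [s.iv.cb, mul_inv_cancel_right]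

theorem up' (s : Mr V m p q r g f u) : u⁻¹ * p * u = p := by rw [mul_assoc, ← s.iv.cb, inv_mul_cancel_left]

theorem uC (s : Mr V m p q r g f u) : u ∈ centralizer ({p} : Set G) := mem_centralizer_singleton_iff.2 s.iv.cb

/-- `u ∈ L` -/
theorem u_mem (s : Mr V m p q r g f u) : u ∈ lg V (m + 1) p := by
  refine mem_of_sq s.iv.odd ?_
  have hf : f ∈ lg V (m + 1) p := mem_lg s.cr s.f_mem
  have h1 : f * (u⁻¹ * f⁻¹ * u⁻¹⁻¹) ∈ lg V (m + 1) p :=
    mul_mem hf (conj_mem_of_normalizer (lg_norm V (m + 1) p) (inv_mem s.uC) (inv_mem hf))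
  have hi := s.iv.symm.inv
  rw [inv_inv] at hi
  have e : f * (u⁻¹ * f⁻¹ * u⁻¹⁻¹) = u * u := by
    calc f * (u⁻¹ * f⁻¹ * u⁻¹⁻¹) = (f * u⁻¹ * f⁻¹) * u := by group
      _ = u * u := by rw [hi]
  rwa [e] at h1

theorem colx (s : Mr V m p q r g f u) : Col V p (u * r * u⁻¹) := by
  have := s.col.conj u
  rwa [s.up] at this

theorem colx' (s : Mr V m p q r g f u) : Col V p (u⁻¹ * r * u) := by
  have := s.col.conj u⁻¹
  rwa [inv_inv, s.up'] at this

theorem xf (h : Fr T V z) (s : Mr V m p q r g f u) : f * (u * r * u⁻¹) * f⁻¹ = u⁻¹ * r * u := by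
  have h1 := s.iv.inv
  have h2 := s.iv.symm.inv
  rw [inv_inv] at h2
  have h3 : f * r * f⁻¹ = r := by rw [s.fr h, mul_inv_cancel_right]
  calc f * (u * r * u⁻¹) * f⁻¹ = (f * u * f⁻¹) * (f * r * f⁻¹) * (f * u⁻¹ * f⁻¹) := by group
    _ = u⁻¹ * r * u := by rw [h1, h2, h3]

theorem x_ne_p (s : Mr V m p q r g f u) : u * r * u⁻¹ ≠ p := by
  intro e
  apply s.rp
  calc r = u⁻¹ * (u * r * u⁻¹) * u := by group
    _ = p := by rw [e, s.up']

theorem x'_ne_p (s : Mr V m p q r g f u) : u⁻¹ * r * u ≠ p := by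
  intro e
  apply s.rp
  calc r = u * (u⁻¹ * r * u) * u⁻¹ := by group
    _ = p := by rw [e, s.up]

theorem fx_ne (h : Fr T V z) (s : Mr V m p q r g f u) : f * (u * r * u⁻¹) * f⁻¹ ≠ u * r * u⁻¹ := by
  rw [s.xf h]
  intro e
  have h1 : (u * u) * r * (u * u)⁻¹ = r := by
    calc (u * u) * r * (u * u)⁻¹ = u * (u * r * u⁻¹) * u⁻¹ := by group
      _ = u * (u⁻¹ * r * u) * u⁻¹ := by rw [e]
      _ = r := by group
  have hp2 : Iv p f (u * u) := by
    have := s.iv.pow 2
    rwa [pow_two] at this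
  have h2 := s.eq_one h s.f_mem hp2 (Or.inl h1)
  exact s.ne (by
    have : u ∈ (⊥ : Subgroup G) := mem_of_sq s.iv.odd (by rw [h2]; exact one_mem _)
    exact mem_bot.1 this)

/-- (D) fails -/
theorem notD (h : Wz T V z (m + 1)) (s : Mr V m p q r g f u) :
    ¬ (ws V (u * r * u⁻¹) ⊓ ws V (u⁻¹ * r * u) ≤ ws V p) := by
  have := h.noD p q r s.cr s.col s.rp s.pth.symm f u s.f_mem s.iv.cb s.iv.odd s.iv.inv s.ne (s.fx_ne h.fr)
  rwa [s.xf h.fr] at this

/-- `u` centralises `W_x ∩ W_{x'}`, so `W_x ∩ W_{x'} ≤ W_r` -/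
theorem inf_le (h : Fr T V z) (s : Mr V m p q r g f u) :
    ws V (u * r * u⁻¹) ⊓ ws V (u⁻¹ * r * u) ≤ ws V r := by
  intro d hd
  have hfc := s.com s.f_mem
  have h1 : (u * f * u⁻¹) * d = d * (u * f * u⁻¹) := by
    have h2 : u⁻¹ * d * u ∈ ws V r := by
      have := conj_mem_ws u⁻¹ hd.1
      have e : u⁻¹ * (u * r * u⁻¹) * u⁻¹⁻¹ = r := by group
      rwa [e, inv_inv] at this
    have h3 := mem_centralizer_iff.1 hfc _ h2
    calc (u * f * u⁻¹) * d = u * (f * (u⁻¹ * d * u)) * u⁻¹ := by group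
      _ = u * ((u⁻¹ * d * u) * f) * u⁻¹ := by rw [h3]
      _ = d * (u * f * u⁻¹) := by group
  have h1' : (u⁻¹ * f * u) * d = d * (u⁻¹ * f * u) := by
    have h2 : u * d * u⁻¹ ∈ ws V r := by
      have := conj_mem_ws u hd.2
      have e : u * (u⁻¹ * r * u) * u⁻¹ = r := by group
      rwa [e] at this
    have h3 := mem_centralizer_iff.1 hfc _ h2
    calc (u⁻¹ * f * u) * d = u⁻¹ * (f * (u * d * u⁻¹)) * u := by group
      _ = u⁻¹ * ((u * d * u⁻¹) * f) * u := by rw [h3]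
      _ = d * (u⁻¹ * f * u) := by group
  -- `u⁴ = (u f u⁻¹) (u⁻¹ f u)`
  have hi := s.iv.symm.inv
  rw [inv_inv] at hi
  have e4 : (u * f * u⁻¹) * (u⁻¹ * f * u) = (u * u) * (u * u) := by
    calc (u * f * u⁻¹) * (u⁻¹ * f * u) = u * (f * u⁻¹ * f⁻¹) * (f * u⁻¹ * f⁻¹) * (f * f) * u := by group
      _ = (u * u) * (u * u) := by rw [hi, s.ff h, mul_one]; group
  have h5 : (u * u) * (u * u) ∈ centralizer ({d} : Set G) := by
    rw [← e4]
    exact mul_mem (mem_centralizer_singleton_iff.2 h1) (mem_centralizer_singleton_iff.2 h1')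
  have hodd : Odd (orderOf (u * u)) := by
    have := (s.iv.pow 2).odd
    rwa [pow_two] at this
  have h6 : u ∈ centralizer ({d} : Set G) := mem_of_sq s.iv.odd (mem_of_sq hodd h5)
  have h7 : u⁻¹ * d * u = d := by
    have := mem_centralizer_singleton_iff.1 h6
    rw [mul_assoc, ← this, inv_mul_cancel_left]
  have h8 := conj_mem_ws u⁻¹ hd.1
  have e : u⁻¹ * (u * r * u⁻¹) * u⁻¹⁻¹ = r := by group
  rw [e, inv_inv, h7] at h8
  exact h8

end Mr

/-! ### (S) for movers -/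

/-- membership in `⟨X, Y⟩ K` in the language of the module -/
theorem exists_coef {H W : Subgroup G} {hc : ∀ a ∈ W, ∀ b ∈ W, a * b = b * a} {hs : ∀ a ∈ W, a * a = 1}
    {hn : H ≤ normalizer (W : Set G)} {K : Subgroup G} (hK : K ≤ W) {X Y w : MM H W hc hs hn}
    (hw : val w ∈ Subgroup.closure {val X, val Y} ⊔ K) : ∃ a b : ZMod 2, w - (a • X + b • Y) ∈ sb K := by
  have hle : Subgroup.closure ({val X, val Y} : Set G) ≤ W := by
    rw [closure_le]
    rintro y (rfl | rfl)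
    · exact val_mem X
    · exact val_mem Y
  obtain ⟨c, hcm, k, hk, e⟩ := Dual.mem_sup_of_comm hc hle hK hw
  have h1 : ∃ a b : ZMod 2, c = val (a • X + b • Y) := by
    clear e hw
    induction hcm using closure_induction with
    | mem x hx =>
      rcases hx with rfl | rfl
      · exact ⟨1, 0, by rw [one_smul, zero_smul, add_zero]⟩
      · exact ⟨0, 1, by rw [one_smul, zero_smul, zero_add]⟩
    | one => exact ⟨0, 0, by rw [zero_smul, zero_smul, add_zero]; rfl⟩
    | mul x y _ _ h1 h2 =>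
      obtain ⟨a, b, rfl⟩ := h1
      obtain ⟨a', b', rfl⟩ := h2
      refine ⟨a + a', b + b', ?_⟩
      rw [← val_add]
      congr 1
      module
    | inv x _ h1 =>
      obtain ⟨a, b, rfl⟩ := h1
      refine ⟨a, b, ?_⟩
      rw [← val_neg, neg_self']
  obtain ⟨a, b, rfl⟩ := h1
  refine ⟨a, b, ?_⟩
  rw [mem_sb, val_sub, e, hc _ (val_mem _) _ (hK hk), mul_inv_cancel_right]
  exact hk

namespace Mr

variable {T V : Subgroup G} {z p q r g f u : G} {m : ℕ} [Finite G]

/-- `r` as an element of the module -/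
def vr (h : Wz T V z (m + 1)) (s : St V m p q r g) : Mp h s.pp := NOne.mk r (h.fr.mem_ws_of_col s.col)

theorem ss (h : Wz T V z (m + 1)) (s : Mr V m p q r g f u) :
    SS ((centralizer (ws V r : Set G)).subgroupOf (centralizer ({p} : Set G)))
      (sb (nn (ws V p) (kq V p))) (vr h s.toSt) ⟨u, s.uC⟩ := by
  intro c hc
  -- `c ∈ G*`
  have h1 : (c : G) ∈ centralizer (ws V (u * r * u⁻¹) : Set G) ⊔ centralizer (ws V (u⁻¹ * r * u) : Set G) := by
    have hle : Subgroup.closure ({x | ∃ c ∈ (centralizer (ws V r : Set G)).subgroupOf (centralizer ({p} : Set G)),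
          x = (⟨u, s.uC⟩ : ↥(centralizer ({p} : Set G))) * c * (⟨u, s.uC⟩ : ↥(centralizer ({p} : Set G)))⁻¹} ∪
        {x | ∃ c ∈ (centralizer (ws V r : Set G)).subgroupOf (centralizer ({p} : Set G)),
          x = (⟨u, s.uC⟩ : ↥(centralizer ({p} : Set G)))⁻¹ * c * (⟨u, s.uC⟩ : ↥(centralizer ({p} : Set G)))}) ≤
        (centralizer (ws V (u * r * u⁻¹) : Set G) ⊔ centralizer (ws V (u⁻¹ * r * u) : Set G)).comap
          (centralizer ({p} : Set G)).subtype := by
      rw [closure_le]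
      rintro x (⟨c, hc, rfl⟩ | ⟨c, hc, rfl⟩)
      · refine mem_sup_left ?_
        change u * (c : G) * u⁻¹ ∈ centralizer (ws V (u * r * u⁻¹) : Set G)
        have hc' := mem_centralizer_iff.1 (mem_subgroupOf.1 hc)
        rw [mem_centralizer_iff]
        intro w hw
        have h2 : u⁻¹ * w * u ∈ ws V r := by
          have := conj_mem_ws u⁻¹ hw
          have e : u⁻¹ * (u * r * u⁻¹) * u⁻¹⁻¹ = r := by group
          rwa [e, inv_inv] at this
        calc w * (u * (c : G) * u⁻¹) = u * ((u⁻¹ * w * u) * c) * u⁻¹ := by group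
          _ = u * (c * (u⁻¹ * w * u)) * u⁻¹ := by rw [hc' _ h2]
          _ = u * (c : G) * u⁻¹ * w := by group
      · refine mem_sup_right ?_
        change u⁻¹ * (c : G) * u ∈ centralizer (ws V (u⁻¹ * r * u) : Set G)
        have hc' := mem_centralizer_iff.1 (mem_subgroupOf.1 hc)
        rw [mem_centralizer_iff]
        intro w hw
        have h2 : u * w * u⁻¹ ∈ ws V r := by
          have := conj_mem_ws u hw
          have e : u * (u⁻¹ * r * u) * u⁻¹ = r := by group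
          rwa [e] at this
        calc w * (u⁻¹ * (c : G) * u) = u⁻¹ * ((u * w * u⁻¹) * c) * u := by group
          _ = u⁻¹ * (c * (u * w * u⁻¹)) * u := by rw [hc' _ h2]
          _ = u⁻¹ * (c : G) * u * w := by group
    exact hle hc
  obtain ⟨h2, h3⟩ := (h.fr.lemD s.colx s.colx' s.x_ne_p s.x'_ne_p).resolve_left (s.notD h) _ h1
  have hN : nn (ws V p) (kq V p) ≤ ws V p := fun w hw => (mem_nn.1 hw).1
  have e1 : val ((⟨u, s.uC⟩ : ↥(centralizer ({p} : Set G))) • vr h s.toSt) = u * r * u⁻¹ := rfl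
  have e2 : val ((⟨u, s.uC⟩ : ↥(centralizer ({p} : Set G)))⁻¹ • vr h s.toSt) = u⁻¹ * r * u := by
    change u⁻¹ * r * u⁻¹⁻¹ = _
    rw [inv_inv]
  refine ⟨exists_coef hN ?_, exists_coef hN ?_⟩
  · rw [e1, e2, val_smul, e1]; exact h2
  · rw [e1, e2, val_smul, e2]; exact h3

end Mr

open Mr (vr)

section main

variable {T V : Subgroup G} {z p q r g : G} {m : ℕ} [Finite G]

/-- the hypothesis (N1) at the point `p` -/
def NOneAt (V : Subgroup G) (n : ℕ) (p : G) : Prop :=
  ∀ q, Cr V n p q → ∀ f ∈ ws V q, ∀ w ∈ nn (ws V p) (kq V p), f * w = w * f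

/-- every element of `W_q - C(W_p)` gives a mover -/
theorem exists_mr (h : Wz T V z (m + 1)) (s : St V m p q r g) {f : G} (hf : f ∈ ws V q)
    (hfp : ¬ ∀ w ∈ ws V p, f * w = w * f) : ∃ u, Mr V m p q r g f u := by
  have hfC : f * p = p * f := s.cent_p h.fr (s.com hf)
  obtain ⟨u, hi, hu⟩ := exists_iv h.fr s.pp hfC (h.fr.ws_sq s.cr.path.right f hf) fun hk =>
    hfp (h.kq_cent s.cr hf hk)
  exact ⟨u, s, hf, hi, hu⟩

/-- `u r u⁻¹` is not in `r N_p` -/
theorem Mr.nmem (h : Wz T V z (m + 1)) {f u : G} (s : Mr V m p q r g f u) (hN1 : NOneAt V (m + 1) p) :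
    (⟨u, s.uC⟩ : ↥(centralizer ({p} : Set G))) • vr h s.toSt - vr h s.toSt ∉
      (sb (nn (ws V p) (kq V p)) : AddSubgroup (Mp h s.pp)) := by
  intro h0
  have h1 := (h.sy s.pp hN1).ul (v := vr h s.toSt) ⟨s.col, s.rp⟩
    (y := ⟨u, s.uC⟩) (mem_subgroupOf.2 s.u_mem) h0
  rw [mem_sb, val_sub, val_smul] at h1
  have h2 : u * r * u⁻¹ * r⁻¹ ∈ zpowers p := h1
  apply s.ne
  refine s.eq_one h.fr s.f_mem s.iv ?_
  rcases (mem_zpowers_iff_of_mul_self (h.fr.pt_sq s.pp)).mp h2 with e | e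
  · left; exact mul_inv_eq_one.1 e
  · right; exact mul_inv_eq_iff_eq_mul.1 e

/-- **(1)**: the elements of `W_q` act as transvections with centre `r` modulo `N_p` -/
theorem exists_tv' (h : Wz T V z (m + 1)) (s : St V m p q r g) (hN1 : NOneAt V (m + 1) p) {f : G}
    (hf : f ∈ ws V q) (hfC : f ∈ centralizer ({p} : Set G)) :
    ∃ φ : Module.Dual (ZMod 2) (Mp h s.pp), Tv (sb (nn (ws V p) (kq V p))) (⟨f, hfC⟩ : ↥(centralizer ({p} : Set G))) φ
      (vr h s) := by
  have hsy := h.sy s.pp hN1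
  have hv : vr h s ∉ (sb (nn (ws V p) (kq V p)) : AddSubgroup (Mp h s.pp)) := hsy.LaN _ ⟨s.col, s.rp⟩
  refine exists_tv hv ?_
  have hqC : ws V q ≤ centralizer ({p} : Set G) := h.le_cent s.cr.symm
  have hce : ce V q p ≤ centralizer ({p} : Set G) := fun x hx => hqC (mem_ce.1 hx).1
  refine tv_of hsy.HN (A := (ws V q).subgroupOf (centralizer ({p} : Set G)))
    (A0 := (ce V q p).subgroupOf (centralizer ({p} : Set G)))
    (C := (centralizer (ws V r : Set G)).subgroupOf (centralizer ({p} : Set G))) hv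
    (fun a ha => s.com (mem_subgroupOf.1 ha)) (fun c hc => ?_) (fun a ha => ?_) ?_ (fun a ha ha0 => ?_)
    ⟨f, hfC⟩ (mem_subgroupOf.2 hf)
  · apply val_inj
    rw [val_smul]
    exact conj_eq_of_comm (s.cent_r h.fr (mem_subgroupOf.1 hc))
  · exact Subtype.ext (h.fr.ws_sq s.cr.path.right _ (mem_subgroupOf.1 ha))
  · -- the count
    have e1 : Nat.card ((ws V q).subgroupOf (centralizer ({p} : Set G))) = Nat.card (ws V q) :=
      Nat.card_congr (subgroupOfEquivOfLe hqC).toEquiv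
    have e2 : Nat.card ((ce V q p).subgroupOf (centralizer ({p} : Set G))) = Nat.card (ce V q p) :=
      Nat.card_congr (subgroupOfEquivOfLe hce).toEquiv
    have e3 : Nat.card (ce V p q) ≤ Nat.card (cA ((ws V q).subgroupOf (centralizer ({p} : Set G)))
        (⊥ : AddSubgroup (Mp h s.pp))) := by
      refine Nat.card_le_card_of_injective (fun w => ⟨NOne.mk (w : G) (mem_ce.1 w.2).1, fun a ha => ?_⟩) ?_
      · rw [AddSubgroup.mem_bot, sub_eq_zero]
        apply val_inj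
        rw [val_smul]
        exact conj_eq_of_comm ((mem_ce.1 w.2).2 _ (mem_subgroupOf.1 ha)).symm
      · intro w w' e
        have h1 := congrArg (fun x => val x.1) e
        exact Subtype.ext h1
    have e4 : Nat.card (Mp h s.pp) = Nat.card (ws V p) := rfl
    have h1 : Nat.card (ce V q p) * (ce V q p).relIndex (ws V q) = Nat.card (ws V q) :=
      Dual.card_mul_relIndex_of_le fun x hx => (mem_ce.1 hx).1
    have h2 : Nat.card (ce V p q) * (ce V p q).relIndex (ws V p) = Nat.card (ws V p) :=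
      Dual.card_mul_relIndex_of_le fun x hx => (mem_ce.1 hx).1
    rw [e1, e2, e4]
    refine le_trans (le_of_eq ?_) (Nat.mul_le_mul_left _ e3)
    rw [← h1, ← h2, h.exact s.cr]
    ring
  · have haf := mem_subgroupOf.1 ha
    obtain ⟨u, hu⟩ := exists_mr h s haf fun h0 => ha0 (mem_subgroupOf.2 (mem_ce.2 ⟨haf, h0⟩))
    refine ⟨⟨u, hu.uC⟩, ?_, Subtype.ext hu.iv.inv, hu.nmem h hN1, hu.ss h⟩
    rw [← Subgroup.orderOf_coe]
    exact hu.iv.odd

/-- an element of `K_p` with prescribed signs on `x`, `x'` -/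
theorem exists_corr (h : Fr T V z) (hp : Col V p p) {x x' : G} (hx : x ∈ ws V p) (hx' : x' ∈ ws V p)
    (hxN : x ∉ nn (ws V p) (kq V p)) (hxN' : x' ∉ nn (ws V p) (kq V p)) (hxx : x * x' ∉ nn (ws V p) (kq V p))
    {c : G} (h1 : c * x * c⁻¹ = x ∨ c * x * c⁻¹ = p * x) (h2 : c * x' * c⁻¹ = x' ∨ c * x' * c⁻¹ = p * x') :
    ∃ k ∈ kq V p, (k * c) * x * (k * c)⁻¹ = x ∧ (k * c) * x' * (k * c)⁻¹ = x' := by
  have hpp := h.pt_sq hp
  -- an element of `K_p` fixing `y` and moving `y'`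
  have key : ∀ y ∈ ws V p, ∀ y' ∈ ws V p, y' ∉ nn (ws V p) (kq V p) → y * y' ∉ nn (ws V p) (kq V p) →
      ∃ k ∈ kq V p, k * y = y * k ∧ k * y' * k⁻¹ = p * y' := by
    intro y hy y' hy' hy'N hyy
    by_contra hcon
    push Not at hcon
    have h3 : y' ∈ closure ({y} : Set G) ⊔ nn (ws V p) (kq V p) := by
      refine (h.dw hp).dual ((closure_le _).2 (by rintro _ rfl; exact hy)) hy' fun k hk hkU => ?_
      rcases h.kq_cases' hp hk hy' with e | e
      · exact comm_of_conj_eq e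
      · exact absurd e (hcon k hk (hkU y (subset_closure rfl)))
    obtain ⟨a, ha, b, hb, e⟩ := Dual.mem_sup_of_comm (W := ws V p) (h.ws_comm hp)
      ((closure_le _).2 (by rintro _ rfl; exact hy)) (fun w hw => (mem_nn.1 hw).1) h3
    rw [← zpowers_eq_closure] at ha
    rcases (mem_zpowers_iff_of_mul_self (h.ws_sq hp y hy)).mp ha with rfl | rfl
    · rw [one_mul] at e
      rw [e] at hy'N
      exact hy'N hb
    · apply hyy
      rw [e, ← mul_assoc, h.ws_sq hp a hy, one_mul]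
      exact hb
  have hcx : c * x * c⁻¹ ∈ ws V p := by
    rcases h1 with e | e
    · rw [e]; exact hx
    · rw [e]; exact mul_mem (h.mem_ws_self hp) hx
  have hkp : ∀ k ∈ kq V p, k * p * k⁻¹ = p := fun k hk => conj_eq_of_comm (mem_centralizer_singleton_iff.1
    (kq_le_centralizer V p hk))
  have hmul : ∀ k y : G, k * (p * y) * k⁻¹ = (k * p * k⁻¹) * (k * y * k⁻¹) := fun k y => by group
  have hass : ∀ k y : G, (k * c) * y * (k * c)⁻¹ = k * (c * y * c⁻¹) * k⁻¹ := fun k y => by group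
  rcases h1 with e1 | e1 <;> rcases h2 with e2 | e2
  · exact ⟨1, one_mem _, by rw [one_mul]; exact e1, by rw [one_mul]; exact e2⟩
  · obtain ⟨k, hk, hk1, hk2⟩ := key x hx x' hx' hxN' hxx
    refine ⟨k, hk, ?_, ?_⟩
    · rw [hass, e1, conj_eq_of_comm hk1]
    · rw [hass, e2, hmul, hkp k hk, hk2, ← mul_assoc, hpp, one_mul]
  · obtain ⟨k, hk, hk1, hk2⟩ := key x' hx' x hx hxN (by rw [h.ws_comm hp x' hx' x hx]; exact hxx)
    refine ⟨k, hk, ?_, ?_⟩
    · rw [hass, e1, hmul, hkp k hk, hk2, ← mul_assoc, hpp, one_mul]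
    · rw [hass, e2, conj_eq_of_comm hk1]
  · obtain ⟨k, hk, hk1, hk2⟩ := key x hx x' hx' hxN' hxx
    obtain ⟨l, hl, hl1, hl2⟩ := key x' hx' x hx hxN (by rw [h.ws_comm hp x' hx' x hx]; exact hxx)
    have hassl : ∀ y : G, (l * k) * (p * y) * (l * k)⁻¹ = p * (l * (k * y * k⁻¹) * l⁻¹) := by
      intro y
      have e : (l * k) * (p * y) * (l * k)⁻¹ = l * ((k * p * k⁻¹) * (k * y * k⁻¹)) * l⁻¹ := by group
      rw [e, hkp k hk, hmul, hkp l hl]
    refine ⟨l * k, mul_mem hl hk, ?_, ?_⟩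
    · rw [hass, e1, hassl, conj_eq_of_comm hk1, hl2, ← mul_assoc, hpp, one_mul]
    · rw [hass, e2, hassl, hk2, hmul, hkp l hl, conj_eq_of_comm hl1, ← mul_assoc, hpp, one_mul]

/-- the mover as a datum for `nu_const` -/
theorem Mr.mv (h : Wz T V z (m + 1)) {f u : G} (s : Mr V m p q r g f u) (hN1 : NOneAt V (m + 1) p)
    (hfC : f ∈ centralizer ({p} : Set G)) :
    Sy.Mv ((lg V (m + 1) p).subgroupOf (centralizer ({p} : Set G))) (sb (nn (ws V p) (kq V p))) (sb (zpowers p))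
      {m | Col V p (val m) ∧ val m ≠ p} (vr h s.toSt)
      ((⟨u, s.uC⟩ : ↥(centralizer ({p} : Set G))) • vr h s.toSt) (⟨f, hfC⟩ : ↥(centralizer ({p} : Set G))) := by
  have hsy := h.sy s.pp hN1
  have hv : vr h s.toSt ∉ (sb (nn (ws V p) (kq V p)) : AddSubgroup (Mp h s.pp)) := hsy.LaN _ ⟨s.col, s.rp⟩
  refine ⟨mem_subgroupOf.2 (mem_lg s.cr s.f_mem), ?_, ⟨s.colx, s.x_ne_p⟩, ⟨⟨u, s.uC⟩, mem_subgroupOf.2 s.u_mem,
    by rw [sub_self]; exact zero_mem _⟩⟩
  obtain ⟨φ, hφ⟩ := exists_tv' h s.toSt hN1 s.f_mem hfC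
  refine ⟨φ, hφ, ?_⟩
  by_contra hne
  have h0 : φ ((⟨u, s.uC⟩ : ↥(centralizer ({p} : Set G))) • vr h s.toSt) = 0 := (zcases _).resolve_right hne
  obtain ⟨n, hn, e⟩ := hφ ((⟨u, s.uC⟩ : ↥(centralizer ({p} : Set G))) • vr h s.toSt)
  rw [h0, zero_smul, add_zero] at e
  have e1 : (⟨f, hfC⟩ : ↥(centralizer ({p} : Set G))) • ((⟨u, s.uC⟩ : ↥(centralizer ({p} : Set G))) • vr h s.toSt) =
      (⟨u, s.uC⟩ : ↥(centralizer ({p} : Set G)))⁻¹ • vr h s.toSt := by
    apply val_inj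
    change f * (u * r * u⁻¹) * f⁻¹ = u⁻¹ * r * u⁻¹⁻¹
    rw [s.xf h.fr, inv_inv]
  rw [e1] at e
  have hodd : Odd (orderOf (⟨u, s.uC⟩ : ↥(centralizer ({p} : Set G)))) := by
    rw [← Subgroup.orderOf_coe]
    exact s.iv.odd
  obtain ⟨h3, -⟩ := (s.ss h).out hsy.HN hv
    (C := (centralizer (ws V r : Set G)).subgroupOf (centralizer ({p} : Set G)))
    (fun c hc => by
      apply val_inj
      rw [val_smul]
      exact conj_eq_of_comm (s.cent_r h.fr (mem_subgroupOf.1 hc)))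
    (a := ⟨f, hfC⟩) (s.com s.f_mem) (Subtype.ext (s.ff h.fr)) hodd (Subtype.ext s.iv.inv) (s.nmem h hN1)
  apply hv
  have e2 : vr h s.toSt = (vr h s.toSt + (⟨u, s.uC⟩ : ↥(centralizer ({p} : Set G))) • vr h s.toSt +
      (⟨u, s.uC⟩ : ↥(centralizer ({p} : Set G)))⁻¹ • vr h s.toSt) -
      (((⟨u, s.uC⟩ : ↥(centralizer ({p} : Set G))) • vr h s.toSt +
        (⟨u, s.uC⟩ : ↥(centralizer ({p} : Set G))) • vr h s.toSt) + n) := by rw [e]; abel
  rw [e2, add_self', zero_add]
  exact sub_mem h3 hn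

/-- **(4)**: `ν = 0` -/
theorem Mr.nu (h : Wz T V z (m + 1)) {f u : G} (s : Mr V m p q r g f u) (hN1 : NOneAt V (m + 1) p)
    (hfC : f ∈ centralizer ({p} : Set G)) :
    vr h s.toSt + (⟨u, s.uC⟩ : ↥(centralizer ({p} : Set G))) • vr h s.toSt +
      (⟨f, hfC⟩ : ↥(centralizer ({p} : Set G))) • ((⟨u, s.uC⟩ : ↥(centralizer ({p} : Set G))) • vr h s.toSt) ∈
        (sb (zpowers p) : AddSubgroup (Mp h s.pp)) := by
  by_contra hcon
  have hsy := h.sy s.pp hN1
  have k := s.mv h hN1 hfC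
  have hvΛ : vr h s.toSt ∈ {m : Mp h s.pp | Col V p (val m) ∧ val m ≠ p} := ⟨s.col, s.rp⟩
  set v := vr h s.toSt with hv
  set x := (⟨u, s.uC⟩ : ↥(centralizer ({p} : Set G))) • v with hx
  set t : ↥(centralizer ({p} : Set G)) := ⟨f, hfC⟩ with ht
  set ν := v + x + t • x with hν
  have hνN : ν ∈ (sb (nn (ws V p) (kq V p)) : AddSubgroup (Mp h s.pp)) := hsy.nu_mem k
  have hvN : v ∉ (sb (nn (ws V p) (kq V p)) : AddSubgroup (Mp h s.pp)) := hsy.LaN _ hvΛ
  have hpp := h.fr.pt_sq s.pp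
  -- the elements of `G`
  have evv : val v = r := rfl
  have evx : val x = u * r * u⁻¹ := rfl
  have evt : val (t • x) = u⁻¹ * r * u := s.xf h.fr
  have evν : val ν = r * (u * r * u⁻¹) * (u⁻¹ * r * u) := by
    rw [hν, val_add, val_add, evv, evx, evt]
  -- the Sylow group
  obtain ⟨S, hS1, hS2, hS3, hS4, hS5⟩ := exists_syl h.fr s.col s.rp
  have hw : ∃ s0 ∈ S, s0 * val ν ≠ val ν * s0 := by
    by_contra hno
    push Not at hno
    exact hcon (hS5 _ (val_mem ν) hno)
  obtain ⟨s0, hs0, hs0ν⟩ := hw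
  set s1 : ↥(centralizer ({p} : Set G)) := ⟨s0, hS1 hs0⟩ with hs1
  have hs1v : s1 • v - v ∈ (sb (zpowers p) : AddSubgroup (Mp h s.pp)) := by
    rw [mem_sb, val_sub, val_smul]
    exact hS4 s0 hs0
  obtain ⟨l, hl, hl1, hl2, hl3⟩ := hsy.fix_three hvΛ k hs1v
  -- `s₁ ν = ν p`
  have hsν : s1 • ν ∈ (sb (nn (ws V p) (kq V p)) : AddSubgroup (Mp h s.pp)) := hsy.HN s1 _ hνN
  have hlν : (l * s1) • ν = s1 • ν := by rw [mul_smul, hsy.LN l hl _ hsν]
  have hνP : (l * s1) • ν - ν ∈ (sb (zpowers p) : AddSubgroup (Mp h s.pp)) := by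
    have e : (l * s1) • ν - ν = ((l * s1) • v - v) + ((l * s1) • x - x) + ((l * s1) • (t • x) - t • x) := by
      rw [hν, smul_add, smul_add]; abel
    rw [e]
    exact add_mem (add_mem hl1 hl2) hl3
  have hpow : ∀ {w w' : Mp h s.pp}, w - w' ∈ (sb (zpowers p) : AddSubgroup (Mp h s.pp)) →
      val w = val w' ∨ val w = p * val w' := by
    intro w w' h1
    rw [mem_sb, val_sub] at h1
    rcases (mem_zpowers_iff_of_mul_self hpp).mp h1 with e | e
    · left; exact mul_inv_eq_one.1 e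
    · right; exact mul_inv_eq_iff_eq_mul.1 e
  set c : G := ((l * s1 : ↥(centralizer ({p} : Set G))) : G) with hc
  have hcν : c * val ν * c⁻¹ = p * val ν := by
    rcases hpow hνP with e | e
    · exfalso
      rw [hlν] at e
      exact hs0ν (comm_of_conj_eq e)
    · exact e
  have hcx : c * (u * r * u⁻¹) * c⁻¹ = u * r * u⁻¹ ∨ c * (u * r * u⁻¹) * c⁻¹ = p * (u * r * u⁻¹) := hpow hl2
  have hcx' : c * (u⁻¹ * r * u) * c⁻¹ = u⁻¹ * r * u ∨ c * (u⁻¹ * r * u) * c⁻¹ = p * (u⁻¹ * r * u) := by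
    have := hpow hl3
    rw [evt] at this
    have e : val ((l * s1) • (t • x)) = c * (u⁻¹ * r * u) * c⁻¹ := by rw [val_smul, evt]
    rwa [e] at this
  -- the correction by `K_p`
  have hxW : u * r * u⁻¹ ∈ ws V p := h.fr.mem_ws_of_col s.colx
  have hxW' : u⁻¹ * r * u ∈ ws V p := h.fr.mem_ws_of_col s.colx'
  have hxN : u * r * u⁻¹ ∉ nn (ws V p) (kq V p) := hsy.LaN x k.m_mem
  have hxN' : u⁻¹ * r * u ∉ nn (ws V p) (kq V p) := by
    have := hsy.LaN (t • x) (hsy.HL t x k.m_mem)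
    rw [mem_sb, evt] at this
    exact this
  have hxx : (u * r * u⁻¹) * (u⁻¹ * r * u) ∉ nn (ws V p) (kq V p) := by
    intro h0
    apply hvN
    have h1 : x + t • x ∈ (sb (nn (ws V p) (kq V p)) : AddSubgroup (Mp h s.pp)) := by
      rw [mem_sb, val_add, evx, evt]
      exact h0
    have e : v = ν - (x + t • x) := by rw [hν]; abel
    rw [e]
    exact sub_mem hνN h1
  obtain ⟨k0, hk0, hk1, hk2⟩ := exists_corr h.fr s.pp hxW hxW' hxN hxN' hxx hcx hcx'
  set d := k0 * c with hd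
  have hk0p : k0 * p * k0⁻¹ = p := conj_eq_of_comm (mem_centralizer_singleton_iff.1 (kq_le_centralizer V p hk0))
  have hk0ν : k0 * val ν * k0⁻¹ = val ν := conj_eq_of_comm ((mem_nn.1 hνN).2 k0 hk0)
  have hdν : d * val ν * d⁻¹ = p * val ν := by
    calc d * val ν * d⁻¹ = k0 * (c * val ν * c⁻¹) * k0⁻¹ := by rw [hd]; group
      _ = (k0 * p * k0⁻¹) * (k0 * val ν * k0⁻¹) := by rw [hcν]; group
      _ = p * val ν := by rw [hk0p, hk0ν]
  have er : r = val ν * (u⁻¹ * r * u)⁻¹ * (u * r * u⁻¹)⁻¹ := by rw [evν]; group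
  have hdr : d * r * d⁻¹ = p * r := by
    calc d * r * d⁻¹ = d * (val ν * (u⁻¹ * r * u)⁻¹ * (u * r * u⁻¹)⁻¹) * d⁻¹ := by rw [← er]
      _ = (d * val ν * d⁻¹) * (d * (u⁻¹ * r * u) * d⁻¹)⁻¹ * (d * (u * r * u⁻¹) * d⁻¹)⁻¹ := by group
      _ = p * (val ν * (u⁻¹ * r * u)⁻¹ * (u * r * u⁻¹)⁻¹) := by rw [hdν, hk1, hk2]; group
      _ = p * r := by rw [← er]
  -- (D) holds
  refine s.notD h fun y hy => ?_
  refine h.fr.inf_mul_le s.col s.rp ⟨s.inf_le h.fr hy, ?_⟩
  have h1 : d⁻¹ * y * d ∈ ws V (u * r * u⁻¹) := by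
    have h2 := conj_mem_ws d⁻¹ hy.1
    have e : d⁻¹ * (u * r * u⁻¹) * d⁻¹⁻¹ = u * r * u⁻¹ := by
      conv_lhs => rw [← hk1]
      group
    rwa [e, inv_inv] at h2
  have h1' : d⁻¹ * y * d ∈ ws V (u⁻¹ * r * u) := by
    have h2 := conj_mem_ws d⁻¹ hy.2
    have e : d⁻¹ * (u⁻¹ * r * u) * d⁻¹⁻¹ = u⁻¹ * r * u := by
      conv_lhs => rw [← hk2]
      group
    rwa [e, inv_inv] at h2
  have h3 := conj_mem_ws d (s.inf_le h.fr ⟨h1, h1'⟩)
  rw [hdr] at h3
  have e : d * (d⁻¹ * y * d) * d⁻¹ = y := by group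
  rwa [e] at h3

/-- **(5)**: `[W_p, W_q]` lies on the line `p r` -/
theorem comm_mem_line (h : Wz T V z (m + 1)) (s : St V m p q r g) (hN1 : NOneAt V (m + 1) p) {f : G}
    (hf : f ∈ ws V q) {w : G} (hw : w ∈ ws V p) : f * w * f⁻¹ * w⁻¹ ∈ cj g V := by
  -- a mover exists
  obtain ⟨f0, hf0, u, hm⟩ : ∃ f0 ∈ ws V q, ∃ u, Mr V m p q r g f0 u := by
    by_contra hcon
    push Not at hcon
    apply s.cr.ne
    intro a ha b hb
    by_contra hab
    obtain ⟨u, hu⟩ := exists_mr h s hb fun h0 => hab (h0 a ha).symm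
    exact hcon b hb u hu
  have hsy := h.sy s.pp hN1
  have hfC : f ∈ centralizer ({p} : Set G) := h.le_cent s.cr.symm hf
  have hf0C : f0 ∈ centralizer ({p} : Set G) := h.le_cent s.cr.symm hf0
  have hν := hm.nu h hN1 hf0C
  have k := hm.mv h hN1 hf0C
  have hvΛ : vr h s ∈ {m : Mp h s.pp | Col V p (val m) ∧ val m ≠ p} := ⟨s.col, s.rp⟩
  obtain ⟨φ, hφ⟩ := exists_tv' h s hN1 hf hfC
  have hfL : (⟨f, hfC⟩ : ↥(centralizer ({p} : Set G))) ∈ (lg V (m + 1) p).subgroupOf (centralizer ({p} : Set G)) :=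
    mem_subgroupOf.2 (mem_lg s.cr hf)
  have hpt : ∀ y : G, Col V p y → f * y * f⁻¹ * y⁻¹ ∈ cj g V := by
    intro y hy
    by_cases hyp : y = p
    · subst hyp
      rw [mem_centralizer_singleton_iff.1 hfC, mul_inv_cancel_right, mul_inv_cancel]
      exact one_mem _
    obtain ⟨n, hn, e⟩ := hsy.tp_end hvΛ k hν hfL hφ
      (w := NOne.mk y (h.fr.mem_ws_of_col hy)) ⟨hy, hyp⟩
    have h1 : (⟨f, hfC⟩ : ↥(centralizer ({p} : Set G))) • (NOne.mk y (h.fr.mem_ws_of_col hy) : Mp h s.pp) -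
        NOne.mk y (h.fr.mem_ws_of_col hy) = φ (NOne.mk y (h.fr.mem_ws_of_col hy)) • vr h s + n := by
      rw [e]; abel
    have h2 := congrArg val h1
    rw [val_sub, val_smul, val_mk, val_add] at h2
    change f * y * f⁻¹ * y⁻¹ = _ at h2
    rw [h2]
    have hn' : val n ∈ cj g V := by
      rcases (mem_zpowers_iff_of_mul_self (h.fr.pt_sq s.pp)).mp (mem_sb.1 hn) with e1 | e1
      · rw [e1]; exact one_mem _
      · rw [e1]; exact s.pg
    refine mul_mem ?_ hn'
    rcases zcases (φ (NOne.mk y (h.fr.mem_ws_of_col hy))) with e1 | e1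
    · rw [e1, zero_smul, val_zero]; exact one_mem _
    · rw [e1, one_smul]; exact s.rg
  let D : Subgroup G :=
    { carrier := {w | w ∈ ws V p ∧ f * w * f⁻¹ * w⁻¹ ∈ cj g V}
      one_mem' := ⟨one_mem _, by simp⟩
      mul_mem' := by
        rintro a b ⟨ha, ha1⟩ ⟨hb, hb1⟩
        refine ⟨mul_mem ha hb, ?_⟩
        have hfn : f ∈ normalizer (ws V p : Set G) := centralizer_le_normalizer_ws V p hfC
        have hb2 : f * b * f⁻¹ * b⁻¹ ∈ ws V p := mul_mem (conj_mem_of_normalizer le_rfl hfn hb) (inv_mem hb)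
        have e : f * (a * b) * f⁻¹ * (a * b)⁻¹ = (f * a * f⁻¹) * ((f * b * f⁻¹ * b⁻¹) * a⁻¹) := by group
        rw [e, h.fr.ws_comm s.pp _ hb2 _ (inv_mem ha), ← mul_assoc]
        exact mul_mem ha1 hb1
      inv_mem' := by
        rintro a ⟨ha, ha1⟩
        rw [inv_eq_of_mul_eq_one_left (h.fr.ws_sq s.pp a ha)]
        exact ⟨ha, ha1⟩ }
  have hD : ws V p ≤ D := by
    refine ws_le fun L hL => ?_
    obtain ⟨⟨l, rfl⟩, hpl⟩ := id hL
    intro y hy
    refine ⟨h.fr.line_le_ws hpl hy, ?_⟩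
    by_cases hy1 : y = 1
    · rw [hy1]; simp
    · exact hpt y ⟨l, hpl, hy, s.p1, hy1⟩
  exact (hD hw).2

/-- `St` from a given geodesic -/
theorem St.of (h : Fr T V z) (hc : Cr V (m + 1) p q) (hp : Pth V m q r) (hpg : p ∈ cj g V) (hrg : r ∈ cj g V) :
    St V m p q r g := by
  have hrp : r ≠ p := by
    rintro rfl
    exact hc.ne (hc.min m (by omega) q r hp).symm
  refine ⟨hc, hp, hpg, hrg, hc.path.left.ne_one, hp.right.ne_one, hrp, ?_⟩
  have h1 := h.ws_le_o2_of_pth hc.min m (by omega) q r hp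
  have h2 : ws V q ≤ centralizer ((cj g V : Subgroup G) : Set G) := by
    intro a ha
    rw [mem_centralizer_iff]
    intro b hb
    exact (hc.min m (by omega) q r hp a ha b (h.line_le_ws hrg hb)).symm
  have h3 : centralizer ((cj g V : Subgroup G) : Set G) ≤ centralizer ({r} : Set G) := by
    intro c hc
    rw [mem_centralizer_singleton_iff]
    exact (mem_centralizer_iff.mp hc r hrg).symm
  refine le_trans (le_inf h1 h2) (MinSimple.VModule.le_o2 inf_le_right
    ((MinSimple.VModule.o2_isPGroup _).to_le inf_le_left) ?_)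
  refine le_normalizer_of_forall fun c hc a ha => ?_
  exact ⟨conj_mem_of_normalizer (MinSimple.VModule.le_normalizer_o2 _) (h3 hc) ha.1, conj_mem_cent hc ha.2⟩

/-- **(N1) is impossible** -/
theorem Wz.n1 {n : ℕ} (h : Wz T V z n) (hc : Cr V n p q) :
    ∃ p q, Cr V n p q ∧ ∃ f ∈ nn (ws V q) (kq V q), ∃ w ∈ ws V p, f * w ≠ w * f := by
  by_contra hcon
  push Not at hcon
  have hN1 : ∀ p, NOneAt V n p := fun p q hc f hf w hw => (hcon q p hc.symm w hw f hf).symm
  obtain ⟨m, rfl⟩ := Nat.exists_eq_add_of_le' (le_trans one_le_two h.two)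
  -- both lines
  have hline : ∀ p q r g r' g', St V m p q r g → St V m q p r' g' → ∀ w ∈ ws V p, ∀ f ∈ ws V q,
      w * f * w⁻¹ * f⁻¹ ∈ cj g V ∧ w * f * w⁻¹ * f⁻¹ ∈ cj g' V := by
    intro p q r g r' g' s s' w hw f hf
    refine ⟨?_, comm_mem_line h s' (hN1 q) hw hf⟩
    have h1 := comm_mem_line h s (hN1 p) hf hw
    have e : w * f * w⁻¹ * f⁻¹ = (f * w * f⁻¹ * w⁻¹)⁻¹ := by group
    rw [e]
    exact inv_mem h1
  rcases Nat.lt_or_ge 2 (m + 1) with hm | hm
  · -- `n ≥ 3`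
    obtain ⟨r, g, s⟩ := exists_st h.fr hc
    obtain ⟨r', g', s'⟩ := exists_st h.fr hc.symm
    apply hc.ne
    intro a ha b hb
    by_contra hab
    obtain ⟨h1, h2⟩ := hline p q r g r' g' s s' a ha b hb
    have hne : a * b * a⁻¹ * b⁻¹ ≠ 1 := fun e => hab (by
      rw [mul_inv_eq_one, mul_inv_eq_iff_eq_mul] at e
      exact e)
    have hp2 : Pth V 2 p q := (Pth.of_col ⟨g, s.pg, h1, s.p1, hne⟩).step ⟨g', h2, s'.pg, hne, s'.p1⟩
    exact hab (hc.min 2 hm p q hp2 a ha b hb)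
  · -- `n = 2`
    have hm1 : m = 1 := by have := h.two; omega
    subst hm1
    have hty : TwoMid.TyN T V z := by
      refine { fr := h.fr, mn := hc.min, n := ?_ }
      intro a r b har hrb x hx y hy
      by_cases hcom : Com V a b
      · rw [hcom x hx y hy, mul_inv_cancel_right, mul_inv_cancel]
        exact one_mem _
      have hcab : Cr V (1 + 1) a b := ⟨(Pth.of_col har).step hrb, hcom, hc.min⟩
      obtain ⟨g, hag, hrg, ha1, hr1⟩ := id har
      obtain ⟨g', hrg', hbg', -, hb1⟩ := id hrb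
      have s : St V 1 a b r g := St.of h.fr hcab (Pth.of_col hrb.symm) hag hrg
      have s' : St V 1 b a r g' := St.of h.fr hcab.symm (Pth.of_col har) hbg' hrg'
      obtain ⟨h1, h2⟩ := hline a b r g r g' s s' x hx y hy
      set d := x * y * x⁻¹ * y⁻¹ with hd
      by_cases hd1 : d = 1
      · rw [hd1]; exact one_mem _
      by_cases hdr : d = r
      · rw [hdr]; exact mem_zpowers r
      -- the two lines coincide
      exfalso
      obtain ⟨k, -, -, hf⟩ := h.fr.flag hrg' hr1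
      obtain ⟨k', -, -, hf'⟩ := h.fr.flag hrg hr1
      have hbg : b ∈ cj g V := by
        rcases hf.ln.four hrg' h2 hr1 hd1 (Ne.symm hdr) hbg' with e | e | e | e
        · exact absurd e hb1
        · rw [e]; exact hrg
        · rw [e]; exact h1
        · rw [e]; exact mul_mem hrg h1
      exact hcom (hc.min 1 (by omega) a b (Pth.of_col ⟨g, hag, hbg, ha1, hb1⟩))
    obtain ⟨r, h1, h2⟩ := (show Cr V 2 p q from hc).path.exists_mid
    exact hc.ne (TypeN.com_of_tyN hty h1 h2)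

end main

end Cfsg.Agent.Omega.NO3S.WZero
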