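import Cfsg.Agent.Omega.NO3S.WZero.Def
import Cfsg.Agent.Omega.NO3S.TwoFar.NoOv

/-!
# (NO) of the world `W0` (#21024 of helper56) from (ML)
-/

set_option autoImplicit false
set_option linter.unusedSectionVars false

namespace Cfsg.Agent.Omega.NO3S.WZero

open Subgroup Cfsg Cfsg.Agent.ZN Cfsg.Agent.MinSimple.Geo Cfsg.Agent.Omega.CaseL Cfsg.Agent.Omega.NO3S.TwoOne
open Cfsg.Agent.Omega.NO3S.Pt
open Cfsg.Agent.Omega.ML.Final (MLK)

universe u

variable {G : Type u} [Group G] [Finite G] {T V : Subgroup G} {z : G}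

theorem noOv_of_mlk (hML : MLK.{u, u}) (h : Fr T V z)
    (hK : ∀ p : G, Col V p p → IsKGroup (centralizer ({p} : Set G))) : NoOv V := by
  intro g q hq hq1 A hA hsq N C hN hC
  obtain ⟨T', w, D⟩ := TwoFar.gdat h hq hq1 hA hsq
  exact MLK.grp hML (hK q (Col.of_mem hq hq hq1 hq1)) D hN hC

end Cfsg.Agent.Omega.NO3S.WZero
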