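import Cfsg.Agent.Omega.NO3S.WZero.Def
import Cfsg.Agent.Omega.NO3S.TwoMid.OppN

/-!
# The world `W0` (#21024 of helper56) at critical distance 2

* `nosw_two` : no `x ∼ p`, `f ∈ W_q` with `x^f = p x` (`p ∉ W_q`);
* `wz_two` : the world `Wz T V z 2` from (ML).
-/

set_option autoImplicit false
set_option linter.unusedSectionVars false

namespace Cfsg.Agent.Omega.NO3S.WZero

open Subgroup Cfsg Cfsg.Agent.ZN Cfsg.Agent.MinSimple.Geo Cfsg.Agent.Omega.CaseL Cfsg.Agent.Omega.NO3S.TwoOne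
open Cfsg.Agent.Omega.NO3S.Pt
open Cfsg.Agent.Omega.NO3S.Dual (nn mem_nn DW)
open Cfsg.Agent.Omega.NO3S.TwoMid
open Cfsg.Agent.Omega.ML.Final (MLK)

universe u

variable {G : Type u} [Group G] [Finite G] {T V : Subgroup G} {z p q : G}

/-- a critical pair at distance 2 with its middle -/
theorem exists_mid_two (h : Fr T V z) (hc : Cr V 2 p q) : ∃ r, Mid T V z q r p := by
  obtain ⟨r, h1, h2⟩ := hc.path.exists_mid
  exact ⟨r, ⟨⟨h, hc.min⟩, h2.symm, h1.symm, fun e => hc.ne e.symm⟩⟩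

theorem nosw_two (h : Fr T V z) (hc : Cr V 2 p q) {x f : G} (hx : Col V p x) (hf : f ∈ ws V q) :
    f * x * f⁻¹ ≠ p * x := by
  obtain ⟨r, hm⟩ := exists_mid_two h hc
  intro e
  have hxW : x ∈ ws V p := h.mem_ws_of_col hx
  have h1 : f * x * f⁻¹ * x⁻¹ = p := by rw [e, mul_inv_cancel_right]
  have h2 := comm_mem_rr hf hxW
  rw [h1] at h2
  exact hm.not_mem' (mem_inf.mp (hm.rr_le h2)).1

/-- **the world `W0`, `n = 2`** -/
theorem wz_two (hML : MLK.{u, u}) (h : Fr T V z)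
    (hK : ∀ p : G, Col V p p → IsKGroup (centralizer ({p} : Set G))) (hno : NoOv V) : Wz T V z 2 where
  fr := h
  two := le_rfl
  noov := hno
  nosw := fun _ _ hc _ _ hx _ hf => nosw_two h hc hx hf
  noD := fun _ _ _ hc hpr _ hrq _ _ hf hhp ho hi hh _ => noD_two hML h hK hc hpr hrq.col hf hhp ho hi hh

end Cfsg.Agent.Omega.NO3S.WZero
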