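import Cfsg.Agent.Omega.NO3S.WZero.NoD
import Cfsg.Agent.Omega.NO3S.WZero.NoOvOf
import Cfsg.Agent.Omega.NO3S.WZero.WorldTwo

/-!
# The world `W0` (#21024 of helper56) from (ML), every critical distance `n ≥ 2`

* `wz` : `Wz T V z n` (`n ≥ 3`: `world` of `NoD.lean`; `n = 2`: `wz_two`).
-/

set_option autoImplicit false

namespace Cfsg.Agent.Omega.NO3S.WZero

open Subgroup Cfsg Cfsg.Agent.ZN Cfsg.Agent.MinSimple.Geo Cfsg.Agent.Omega.CaseL Cfsg.Agent.Omega.NO3S.TwoOne
open Cfsg.Agent.Omega.NO3S.Pt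
open Cfsg.Agent.Omega.ML.Final (MLK)

universe u

variable {G : Type u} [Group G] [Finite G] {T V : Subgroup G} {z : G} {n : ℕ}

theorem wz (hML : MLK.{u, u}) (h : Fr T V z)
    (hK : ∀ p : G, Col V p p → IsKGroup (centralizer ({p} : Set G))) (hn : 2 ≤ n) : Wz T V z n := by
  have hno := noOv_of_mlk hML h hK
  rcases hn.eq_or_lt with rfl | hn3
  · exact wz_two hML h hK hno
  obtain ⟨m, rfl⟩ := Nat.exists_eq_add_of_le' (show 3 ≤ n from hn3)
  obtain ⟨-, h2, h3⟩ := world (m := m) hML h hK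
  exact
    { fr := h
      two := hn
      noov := hno
      nosw := fun p q hc x f hx hxp hf => h2 p q hc x hx.symm hxp f hf
      noD := fun p q r hc hpr hrp _ f k hf hkp _ _ _ hne => h3 p q hc (k * r * k⁻¹)
        (by
          have h4 := hpr.symm.conj k
          have h5 : k * p * k⁻¹ = p := by rw [hkp, mul_inv_cancel_right]
          rwa [h5] at h4) f hf hne }

end Cfsg.Agent.Omega.NO3S.WZero
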