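import Cfsg.Agent.Omega.NO3S.WZero.Landed

/-!
# NO-3S, `|V| = 4`: the world W0 is void (helper56 #21024)

* `Wz.false` : the world `Wz` has no critical pair (the sockets `nnLe`, `wTwo`, `nTwo`, `fullTwo` are in `Landed`).
-/

set_option autoImplicit false

namespace Cfsg.Agent.Omega.NO3S.WZero

open Subgroup Cfsg Cfsg.Agent.MinSimple.Geo Cfsg.Agent.Omega.CaseL Cfsg.Agent.Omega.NO3S.TwoOne Cfsg.Agent.Omega.NO3S.Pt

universe u

variable {G : Type u} [Group G] {T V : Subgroup G} {z : G} {n : ℕ}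

/-- **W0 is dead** -/
theorem Wz.false [Finite G] (h : Wz T V z n) {p q : G} (hc : Cr V n p q) : False := by
  obtain ⟨p', q', hc', f, hf, w, hw, hne⟩ := h.n1 hc
  exact hne (h.cent hc' hf hw)

end Cfsg.Agent.Omega.NO3S.WZero
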