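import Cfsg.Agent.Omega.NO3S.TwoFar.FullNode
import Cfsg.Agent.Omega.NO3S.WZero.Def

/-!
# The world W0 is void: the plug into the leaf NO-3S (helper56 #21024)

* `NNLe` : `Fr T V z`, a critical pair at distance `n ≥ 2`, K-group point centralisers: `N_z ≤ ⟨z⟩`;
* `nTwo_of`, `wTwo_of` : the sockets `NTwo K` and `WTwo K` from `NNLe`;
* `fullTwo_of` : `FullTwo K` from (F1) and `NNLe`.
-/

set_option autoImplicit false

namespace Cfsg.Agent.Omega.NO3S.WZero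

open Subgroup Cfsg Cfsg.Agent.ZN Cfsg.Agent.MinSimple.Geo Cfsg.Agent.Omega.CaseL Cfsg.Agent.Omega.NO3S.TwoOne
open Cfsg.Agent.Omega.NO3S Cfsg.Agent.Omega.NO3S.Pt Cfsg.Agent.Omega.Frame
open Cfsg.Agent.Omega.NO3S.Dual (nn mem_nn)

universe u

/-- **`N_z ≤ ⟨z⟩`** if there is a critical pair at distance `n ≥ 2` -/
def NNLe : Prop :=
  ∀ (G : Type u) [Group G] [Finite G] (T V : Subgroup G) (z : G), Fr T V z →
    (∀ p, Col V p p → IsKGroup (centralizer ({p} : Set G))) →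
    ∀ (n : ℕ) (p q : G), 2 ≤ n → Cr V n p q → nn (ws V z) (kq V z) ≤ zpowers z

variable {K : Cls.{u}}

theorem nTwo_of (h : NNLe.{u}) : TwoFar.NTwo K := by
  intro G _ _ _ S P hh hc z hz hz1 hfr n y hn _ hcr
  exact Or.inl (h G _ _ z hfr (fun p hp => TwoFar.isKGroup_centralizer_pt hh hp.ne_one) n _ _ hn hcr)

/-- **the socket `WTwo`** -/
theorem wTwo_of (h : NNLe.{u}) : WTwo K := by
  intro G _ _ hK S P hh hc z hz hz1 f1 n y hn hy
  have hfr := fr_four hh hc hz hz1 f1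
  have hcr := cr_of_crit hh hc hz hz1 hfr hy
  left
  rw [TwoFar.zc_eq hh hc hz hz1]
  exact TwoFar.full_of hfr.ln.zz hz1
    (h G _ _ z hfr (fun p hp => TwoFar.isKGroup_centralizer_pt hh hp.ne_one) n _ _ hn hcr)

/-- **the socket `FullTwo`** from (F1) -/
theorem fullTwo_of (h1 : TwoOne.FOneP K) (h : NNLe.{u}) : NO3S.FullTwo K :=
  TwoFar.fullTwo_of h1 (nTwo_of h)

end Cfsg.Agent.Omega.NO3S.WZero
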