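import Cfsg.Agent.Omega.NO3S.WZero.Def

/-!
# NO-3S, `|V| = 4`: LEMMA S0 of helper56 #21024 (6)

`CV V nv` : a family of canonical vectors: `nv x L n` = "`n` is a lift of the canonical vector of the flag `x ∈ L`"
(`L` a conjugate of `V`): `n ∈ N_x = C_{W_x}(K_x)`, unique up to `x`, equivariant, and `inj`: for `x' ∈ x N_p` the
canonical vectors of the flags `(p, px)`, `(p, px')` are different modulo `p` unless `x' ∈ x⟨p⟩`.

* `t6` : `Ω₁ Z(C_G(V)) = V`;
* `CV.s0` : `x, x' ~ p`, `x' ∈ x N_p`, `x' ∉ x⟨p⟩` implies `n_x n_x' ∉ W_p`;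
* `sZero` : the same for `Can` (`WZero/Def.lean`).
-/

set_option autoImplicit false
set_option linter.unusedSectionVars false

namespace Cfsg.Agent.Omega.NO3S.WZero

open Subgroup Cfsg Cfsg.Agent.ZN Cfsg.Agent.MinSimple.Geo Cfsg.Agent.Omega.CaseL Cfsg.Agent.Omega.NO3S.TwoOne
  Cfsg.Agent.Omega.NO3S.Pt
open Cfsg.Agent.Omega.NO3S.Dual (nn mem_nn DW)
open Cfsg.Agent.ZN.Block (conj_mem_of_normalizer conj_mem_of_normalizer' le_normalizer_of_forall
  mem_normalizer_of)

universe u

variable {G : Type u} [Group G]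

/-! ### (T6) -/

/-- **(T6)**: `Ω₁ Z(C_G(V)) ≤ V` -/
theorem t6 [Finite G] {T V : Subgroup G} {z : G} (h : Ln T V z) {u : G}
    (hu : u ∈ centralizer (V : Set G)) (huc : ∀ c ∈ centralizer (V : Set G), c * u = u * c)
    (hsq : u * u = 1) : u ∈ V := by
  have hVc : ∀ {v}, v ∈ V → v ∈ centralizer (V : Set G) := by
    intro v hv
    rw [mem_centralizer_iff]
    intro w hw
    exact h.comm hw hv
  -- the case `u ∈ T`
  have key : ∀ u ∈ T, u ∈ centralizer (V : Set G) → (∀ c ∈ centralizer (V : Set G), c * u = u * c) →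
      u * u = 1 → u ∈ V := by
    intro u huT hu huc hsq
    by_cases hall : ∀ s ∈ T, s * u = u * s
    · rcases h.soc u huT hsq hall with e | e
      · rw [e]; exact one_mem _
      · rw [e]; exact h.z_mem
    push Not at hall
    obtain ⟨s, hs, hsu⟩ := hall
    have hsn := h.T_norm hs
    have hsz : s * z = z * s := mem_centralizer_singleton_iff.mp (h.T_le hs)
    obtain ⟨y, hy, hy1, hyz⟩ := h.exists_y
    -- `s y s⁻¹ = z y`
    have hnc : ∀ t ∈ T, t ∉ centralizer (V : Set G) → t * y * t⁻¹ = z * y := by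
      intro t ht htc
      have htz : t * z = z * t := mem_centralizer_singleton_iff.mp (h.T_le ht)
      have h1 : t * y * t⁻¹ ∈ V := conj_mem_of_normalizer le_rfl (h.T_norm ht) hy
      rcases h.four h.z_mem hy h.z_ne hy1 (Ne.symm hyz) h1 with e | e | e | e
      · exfalso
        apply hy1
        have : y = t⁻¹ * (t * y * t⁻¹) * t := by group
        rw [this, e]; group
      · exfalso
        apply hyz
        have : y = t⁻¹ * (t * y * t⁻¹) * t := by group
        rw [this, e, mul_assoc, ← htz]; group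
      · exfalso
        exact htc (h.mem_centralizer_V hy hy1 hyz htz (comm_of_conj_eq e))
      · exact e
    have hsc : s ∉ centralizer (V : Set G) := fun e => hsu (huc s e)
    have hsy := hnc s hs hsc
    have hcos : ∀ t ∈ T, t ∉ centralizer (V : Set G) → s⁻¹ * t ∈ centralizer (V : Set G) := by
      intro t ht htc
      have hty := hnc t ht htc
      refine h.mem_centralizer_V hy hy1 hyz ?_ ?_
      · exact mem_centralizer_singleton_iff.mp (mul_mem (inv_mem (h.T_le hs)) (h.T_le ht))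
      · refine comm_of_conj_eq ?_
        calc s⁻¹ * t * y * (s⁻¹ * t)⁻¹ = s⁻¹ * (t * y * t⁻¹) * s := by group
          _ = s⁻¹ * (s * y * s⁻¹) * s := by rw [hty, hsy]
          _ = y := by group
    -- an element which commutes with `s` and `C(V)` commutes with `T`
    have hT : ∀ v : G, s * v = v * s → (∀ c ∈ centralizer (V : Set G), c * v = v * c) →
        ∀ t ∈ T, t * v = v * t := by
      intro v hv hvc t ht
      by_cases htc : t ∈ centralizer (V : Set G)
      · exact hvc t htc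
      · have h1 := hvc _ (hcos t ht htc)
        have h2 := mul_comm_of hv h1
        have e : s * (s⁻¹ * t) = t := by group
        rwa [e] at h2
    have hss : s * s ∈ centralizer (V : Set G) := by
      by_contra hc
      have := hcos (s * s) (mul_mem hs hs) hc
      have e : s⁻¹ * (s * s) = s := by group
      rw [e] at this
      exact hsc this
    set u' := s * u * s⁻¹ with hu'
    have hu'c : u' ∈ centralizer (V : Set G) :=
      conj_mem_of_normalizer (normalizer_le_normalizer_centralizer V) hsn hu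
    have hu'cc : ∀ c ∈ centralizer (V : Set G), c * u' = u' * c := by
      intro c hc
      have h1 := huc _ (conj_mem_of_normalizer' (normalizer_le_normalizer_centralizer V) hsn hc)
      calc c * (s * u * s⁻¹) = s * ((s⁻¹ * c * s) * u) * s⁻¹ := by group
        _ = s * (u * (s⁻¹ * c * s)) * s⁻¹ := by rw [h1]
        _ = s * u * s⁻¹ * c := by group
    have hv1 : s * (u * u') = u * u' * s := by
      apply comm_of_conj_eq
      have h1 : s * s * u = u * (s * s) := huc _ hss
      calc s * (u * u') * s⁻¹ = (s * u * s⁻¹) * ((s * s) * u * (s * s)⁻¹) := by rw [hu']; group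
        _ = u' * u := by rw [conj_eq_of_comm h1]
        _ = u * u' := huc u' hu'c
    have hv2 : ∀ c ∈ centralizer (V : Set G), c * (u * u') = u * u' * c := fun c hc =>
      comm_mul_of (huc c hc) (hu'cc c hc)
    have hvT : u * u' ∈ T := mul_mem huT (mul_mem (mul_mem hs huT) (inv_mem hs))
    have hu'sq : u' * u' = 1 := by
      calc s * u * s⁻¹ * (s * u * s⁻¹) = s * (u * u) * s⁻¹ := by group
        _ = 1 := by rw [hsq]; group
    have hvsq : u * u' * (u * u') = 1 := by
      calc u * u' * (u * u') = u * (u' * u) * u' := by group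
        _ = u * (u * u') * u' := by rw [huc u' hu'c]
        _ = (u * u) * (u' * u') := by group
        _ = 1 := by rw [hsq, hu'sq, one_mul]
    have hui : u⁻¹ = u := inv_eq_of_mul_eq_one_right hsq
    rcases h.soc _ hvT hvsq (hT _ hv1 hv2) with e | e
    · exfalso
      apply hsu
      apply comm_of_conj_eq
      have : u' = u⁻¹ := (inv_eq_of_mul_eq_one_right e).symm
      rw [← hu', this, hui]
    · -- `u' = u z`
      have e1 : s * u * s⁻¹ = u * z := by
        rw [← hu']
        calc u' = u⁻¹ * (u * u') := by group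
          _ = u * z := by rw [e, hui]
      have hzu : u * z = z * u := (huc z (hVc h.z_mem)).symm
      have hyu : y * u = u * y := huc y (hVc hy)
      have hw1 : s * (u * y) = u * y * s := by
        apply comm_of_conj_eq
        calc s * (u * y) * s⁻¹ = (s * u * s⁻¹) * (s * y * s⁻¹) := by group
          _ = u * z * (z * y) := by rw [e1, hsy]
          _ = u * (z * z) * y := by group
          _ = u * y := by rw [h.zz, mul_one]
      have hw2 : ∀ c ∈ centralizer (V : Set G), c * (u * y) = u * y * c := fun c hc =>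
        comm_mul_of (huc c hc) (mem_centralizer_iff.mp hc y hy).symm
      have hwsq : u * y * (u * y) = 1 := by
        calc u * y * (u * y) = u * (y * u) * y := by group
          _ = (u * u) * (y * y) := by rw [hyu]; group
          _ = 1 := by rw [hsq, h.sq y hy, one_mul]
      have hw := h.soc _ (mul_mem huT (h.V_le hy)) hwsq (hT _ hw1 hw2)
      have e2 : u = u * y * y := by rw [mul_assoc, h.sq y hy, mul_one]
      rw [e2]
      rcases hw with e3 | e3
      · rw [e3, one_mul]; exact hy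
      · rw [e3]; exact mul_mem h.z_mem hy
  have hun : u ∈ normalizer (V : Set G) := centralizer_le_normalizer _ hu
  obtain ⟨c, hc, hcT⟩ := exists_cj_le_of_sylow h.T_norm h.two h.T_syl'
    (A := zpowers u) (by simpa using hun) (isPGroup_zpowers hsq)
  have h1 := key (c * u * c⁻¹) (hcT (conj_mem_cj (mem_zpowers _)))
    (conj_mem_of_normalizer (normalizer_le_normalizer_centralizer V) hc hu) ?_ ?_
  · have h2 := conj_mem_of_normalizer' le_rfl hc h1
    have e : c⁻¹ * (c * u * c⁻¹) * c = u := by group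
    rwa [e] at h2
  · intro d hd
    have h1 := huc _ (conj_mem_of_normalizer' (normalizer_le_normalizer_centralizer V) hc hd)
    calc d * (c * u * c⁻¹) = c * ((c⁻¹ * d * c) * u) * c⁻¹ := by group
      _ = c * (u * (c⁻¹ * d * c)) * c⁻¹ := by rw [h1]
      _ = c * u * c⁻¹ * d := by group
  · calc c * u * c⁻¹ * (c * u * c⁻¹) = c * (u * u) * c⁻¹ := by group
      _ = 1 := by rw [hsq]; group

/-! ### canonical vectors -/

/-- a family of canonical vectors of the flags -/
structure CV (V : Subgroup G) (nv : G → Subgroup G → G → Prop) : Prop where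
  mem : ∀ g x n, x ∈ cj g V → x ≠ 1 → nv x (cj g V) n → n ∈ nn (ws V x) (kq V x)
  mul : ∀ g x n, x ∈ cj g V → x ≠ 1 → nv x (cj g V) n → nv x (cj g V) (x * n)
  uniq : ∀ g x n n', x ∈ cj g V → x ≠ 1 → nv x (cj g V) n → nv x (cj g V) n' → n' = n ∨ n' = x * n
  conj : ∀ c g x n, x ∈ cj g V → x ≠ 1 → nv x (cj g V) n →
    nv (c * x * c⁻¹) (cj c (cj g V)) (c * n * c⁻¹)
  ex : ∀ g x, x ∈ cj g V → x ≠ 1 → ∃ n, nv x (cj g V) n
  inj : ∀ g g' p x x' n n', p ∈ cj g V → x ∈ cj g V → p ∈ cj g' V → x' ∈ cj g' V → p ≠ 1 → x ≠ 1 →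
    x' ≠ 1 → x ≠ p → x' ≠ p → x⁻¹ * x' ∈ nn (ws V p) (kq V p) → nv p (cj g V) n → nv p (cj g' V) n' →
    (n' = n ∨ n' = p * n) → x' = x ∨ x' = p * x

namespace CV

variable {T V : Subgroup G} {z : G} {nv : G → Subgroup G → G → Prop}

theorem cj' (c : CV V nv) (a : G) : CV (cj a V) nv where
  mem g x n := by rw [cj_cj, ws_cj, kq_cj]; exact c.mem _ x n
  mul g x n := by rw [cj_cj]; exact c.mul _ x n
  uniq g x n n' := by rw [cj_cj]; exact c.uniq _ x n n'
  conj b g x n := by
    have := c.conj b (g * a) x n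
    rw [← cj_cj g a V] at this
    exact this
  ex g x := by rw [cj_cj]; exact c.ex _ x
  inj g g' p x x' n n' := by rw [cj_cj, cj_cj, ws_cj, kq_cj]; exact c.inj _ _ p x x' n n'

section one

variable {p x y n : G}

theorem mem1 (c : CV V nv) (hx : x ∈ V) (hx1 : x ≠ 1) (hn : nv x V n) : n ∈ nn (ws V x) (kq V x) := by
  have := c.mem 1 x n
  rw [cj_one] at this
  exact this hx hx1 hn

theorem mul1 (c : CV V nv) (hx : x ∈ V) (hx1 : x ≠ 1) (hn : nv x V n) : nv x V (x * n) := by
  have := c.mul 1 x n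
  rw [cj_one] at this
  exact this hx hx1 hn

theorem uniq1 (c : CV V nv) {n' : G} (hx : x ∈ V) (hx1 : x ≠ 1) (hn : nv x V n) (hn' : nv x V n') :
    n' = n ∨ n' = x * n := by
  have := c.uniq 1 x n n'
  rw [cj_one] at this
  exact this hx hx1 hn hn'

theorem conj1 (c : CV V nv) {g : G} (hg : g ∈ normalizer (V : Set G)) (hx : x ∈ V) (hx1 : x ≠ 1)
    (hn : nv x V n) : nv (g * x * g⁻¹) V (g * n * g⁻¹) := by
  have := c.conj g 1 x n
  rw [cj_one, cj_eq_of_mem_normalizer hg] at this
  exact this hx hx1 hn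

theorem ex1 (c : CV V nv) (hx : x ∈ V) (hx1 : x ≠ 1) : ∃ n, nv x V n := by
  have := c.ex 1 x
  rw [cj_one] at this
  exact this hx hx1

/-- an element of `C(V)` multiplies `n_x` by `1` or `x` -/
theorem cent_cases (c : CV V nv) {t : G} (ht : t ∈ centralizer (V : Set G)) (hx : x ∈ V) (hx1 : x ≠ 1)
    (hn : nv x V n) : t * n * t⁻¹ = n ∨ t * n * t⁻¹ = x * n := by
  have h1 := c.conj1 (centralizer_le_normalizer _ ht) hx hx1 hn
  rw [conj_eq_of_comm (mem_centralizer_iff.mp ht x hx).symm] at h1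
  exact c.uniq1 hx hx1 hn h1

end one

/-- (A): `K_p ∩ C(L)` centralises the canonical vectors of `L` -/
def AA (V : Subgroup G) (nv : G → Subgroup G → G → Prop) : Prop :=
  ∀ p ∈ V, p ≠ 1 → ∀ x ∈ V, x ≠ 1 → ∀ k ∈ kq V p, k ∈ centralizer (V : Set G) → ∀ n, nv x V n →
    k * n * k⁻¹ = n

/-- (A) for one pair gives (A) for all -/
theorem aa_of (h : Fr T V z) (c : CV V nv) {p x n : G} (hp : p ∈ V) (hp1 : p ≠ 1) (hx : x ∈ V)
    (hx1 : x ≠ 1) (hxp : x ≠ p) (hn : nv x V n)
    (ha : ∀ k ∈ kq V p, k ∈ centralizer (V : Set G) → k * n * k⁻¹ = n) : AA V nv := by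
  intro p' hp' hp'1 x' hx' hx'1 k hk hkV n' hn'
  by_cases hxp' : x' = p'
  · subst hxp'
    exact conj_eq_of_comm ((mem_nn.mp (c.mem1 hx' hx'1 hn')).2 k hk)
  -- an element of `N(V)` which maps `(p, x)` to `(p', x')`
  obtain ⟨g, hg, hgp, hgx⟩ : ∃ g ∈ normalizer (V : Set G), g * p * g⁻¹ = p' ∧ g * x * g⁻¹ = x' := by
    obtain ⟨a, ha, hap⟩ := h.ln.trans p hp hp1
    obtain ⟨b, hb, hbp⟩ := h.ln.trans p' hp' hp'1
    set g := b * a⁻¹ with hg
    have hgn : g ∈ normalizer (V : Set G) := mul_mem hb (inv_mem ha)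
    have hgp : g * p * g⁻¹ = p' := by
      calc g * p * g⁻¹ = b * (a⁻¹ * p * a) * b⁻¹ := by rw [hg]; group
        _ = b * (a⁻¹ * (a * z * a⁻¹) * a) * b⁻¹ := by rw [hap]
        _ = b * z * b⁻¹ := by group
        _ = p' := hbp
    have hgx := conj_mem_of_normalizer le_rfl hgn hx
    have hgx1 : g * x * g⁻¹ ≠ 1 := fun e => hx1 (conj_eq_one_iff.mp e)
    have hgxp : g * x * g⁻¹ ≠ p' := by
      rw [← hgp]
      intro e
      exact hxp (by simpa using e)
    rcases h.ln.four hp' hx' hp'1 hx'1 (Ne.symm hxp') hgx with e | e | e | e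
    · exact absurd e hgx1
    · exact absurd e hgxp
    · exact ⟨g, hgn, hgp, e⟩
    · obtain ⟨m, hm, hm1⟩ := h.exists_mover hp' hp'1
      have e1 := h.move hp' hp'1 hgx hgx1 hgxp hm hm1
      refine ⟨m * g, mul_mem (h.kq_le_normalizer hp' hp'1 hm) hgn, ?_, ?_⟩
      · calc m * g * p * (m * g)⁻¹ = m * (g * p * g⁻¹) * m⁻¹ := by group
          _ = p' := by rw [hgp, conj_eq_of_comm (h.kq_p hm)]
      · calc m * g * x * (m * g)⁻¹ = m * (g * x * g⁻¹) * m⁻¹ := by group
          _ = p' * (p' * x') := by rw [e1, e]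
          _ = x' := by rw [← mul_assoc, h.ln.sq p' hp', one_mul]
  have h1 := c.conj1 hg hx hx1 hn
  rw [hgx] at h1
  -- `k` centralises `g n g⁻¹`
  have hk1 : g⁻¹ * k * g ∈ kq V p := by
    have := conj_mem_kq g⁻¹ hk
    have e : g⁻¹ * p' * g⁻¹⁻¹ = p := by rw [← hgp]; group
    rwa [e, inv_inv] at this
  have hk2 : g⁻¹ * k * g ∈ centralizer (V : Set G) :=
    conj_mem_of_normalizer' (normalizer_le_normalizer_centralizer V) hg hkV
  have h2 := ha _ hk1 hk2
  have h3 : k * (g * n * g⁻¹) * k⁻¹ = g * n * g⁻¹ := by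
    calc k * (g * n * g⁻¹) * k⁻¹ = g * (g⁻¹ * k * g * n * (g⁻¹ * k * g)⁻¹) * g⁻¹ := by group
      _ = g * n * g⁻¹ := by rw [h2]
  rcases c.uniq1 hx' hx'1 h1 hn' with e | e
  · rw [e, h3]
  · have hkx : k * x' * k⁻¹ = x' := conj_eq_of_comm (mem_centralizer_iff.mp hkV x' hx').symm
    calc k * n' * k⁻¹ = (k * x' * k⁻¹) * (k * (g * n * g⁻¹) * k⁻¹) := by rw [e]; group
      _ = n' := by rw [hkx, h3, e]

/-- (B): `t ∈ C(V)` which centralises `n_x` centralises `n_y` -/
theorem step_b (h : Fr T V z) (c : CV V nv) (hA : AA V nv) {x y n m t : G} (hx : x ∈ V) (hx1 : x ≠ 1)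
    (hy : y ∈ V) (hy1 : y ≠ 1) (hxy : x ≠ y) (hn : nv x V n) (hm : nv y V m)
    (ht : t ∈ centralizer (V : Set G)) (h1 : t * n * t⁻¹ = n) : t * m * t⁻¹ = m := by
  -- the third point
  set p := y * x with hp
  have hpV : p ∈ V := mul_mem hy hx
  have hp1 : p ≠ 1 := h.mul_ne_one hx (Ne.symm hxy)
  have hxp : x ≠ p := fun e => hy1 (by simpa [hp] using e.symm)
  obtain ⟨k, hk, hkc⟩ := h.exists_mover hpV hp1
  have e1 : k * x * k⁻¹ = y := by
    rw [h.move hpV hp1 hx hx1 hxp hk hkc, hp, mul_assoc, h.ln.sq x hx, mul_one]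
  have hkn := h.kq_le_normalizer hpV hp1 hk
  have h2 := c.conj1 hkn hx hx1 hn
  rw [e1] at h2
  -- `k' = t k t⁻¹`
  have htn : t ∈ normalizer (V : Set G) := centralizer_le_normalizer _ ht
  have htp : t * p * t⁻¹ = p := conj_eq_of_comm (mem_centralizer_iff.mp ht p hpV).symm
  have hk' : t * k * t⁻¹ ∈ kq V p := by
    have := conj_mem_kq t hk
    rwa [htp] at this
  have hq : k⁻¹ * (t * k * t⁻¹) ∈ kq V p := mul_mem (inv_mem hk) hk'
  have hqc : k⁻¹ * (t * k * t⁻¹) ∈ centralizer (V : Set G) := by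
    have e : k⁻¹ * (t * k * t⁻¹) = (k⁻¹ * t * k) * t⁻¹ := by group
    rw [e]
    exact mul_mem (conj_mem_of_normalizer' (normalizer_le_normalizer_centralizer V) hkn ht) (inv_mem ht)
  have h3 := hA p hpV hp1 x hx hx1 _ hq hqc n hn
  have h4 : t * (k * n * k⁻¹) * t⁻¹ = k * n * k⁻¹ := by
    calc t * (k * n * k⁻¹) * t⁻¹ =
        k * (k⁻¹ * (t * k * t⁻¹) * (t * n * t⁻¹) * (k⁻¹ * (t * k * t⁻¹))⁻¹) * k⁻¹ := by group
      _ = k * n * k⁻¹ := by rw [h1, h3]
  rcases c.uniq1 hy hy1 h2 hm with e | e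
  · rw [e, h4]
  · have hty : t * y * t⁻¹ = y := conj_eq_of_comm (mem_centralizer_iff.mp ht y hy).symm
    calc t * m * t⁻¹ = (t * y * t⁻¹) * (t * (k * n * k⁻¹) * t⁻¹) := by rw [e]; group
      _ = m := by rw [hty, h4, e]

/-- (C): for a mover `k ∈ K_p`, `n_x (k n_x k⁻¹)` is a canonical vector of the flag `(p, L)` -/
theorem step_c [Finite G] (h : Fr T V z) (c : CV V nv) (hA : AA V nv) (hcom : ∀ x ∈ V, ∀ y ∈ V, x ≠ 1 → y ≠ 1 →
    Com V x y) {p x n k : G} (hp : p ∈ V) (hp1 : p ≠ 1)
    (hx : x ∈ V) (hx1 : x ≠ 1) (hxp : x ≠ p) (hn : nv x V n) (hk : k ∈ kq V p)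
    (hkc : k ∉ centralizer (V : Set G)) : nv p V (n * (k * n * k⁻¹)) := by
  have e1 := h.move hp hp1 hx hx1 hxp hk hkc
  have hkn := h.kq_le_normalizer hp hp1 hk
  set y := p * x with hy
  have hyV : y ∈ V := mul_mem hp hx
  have hy1 : y ≠ 1 := h.mul_ne_one hx (Ne.symm hxp)
  have hyp : y ≠ p := fun e => hx1 (by simpa [hy] using e)
  have hyx : y ≠ x := fun e => hp1 (by simpa [hy] using e)
  obtain ⟨a, ha⟩ := c.ex1 hp hp1
  have hd := c.conj1 hkn hx hx1 hn
  rw [e1] at hd
  set d := k * n * k⁻¹ with hdd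
  have haW := (mem_nn.mp (c.mem1 hp hp1 ha)).1
  have hnW := (mem_nn.mp (c.mem1 hx hx1 hn)).1
  have hdW := (mem_nn.mp (c.mem1 hyV hy1 hd)).1
  -- commutations
  have can : a * n = n * a := hcom p hp x hx hp1 hx1 a haW n hnW
  have cad : a * d = d * a := hcom p hp y hyV hp1 hy1 a haW d hdW
  have cnd : n * d = d * n := hcom x hx y hyV hx1 hy1 n hnW d hdW
  have sa := h.sq hp hp1 a haW
  have sn := h.sq hx hx1 n hnW
  have sd := h.sq hyV hy1 d hdW
  have cV : ∀ v ∈ V, ∀ q ∈ V, q ≠ 1 → ∀ w ∈ ws V q, v * w = w * v := fun v hv q hq hq1 w hw =>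
    h.V_comm hv (h.ws_le_centralizer_V hq hq1 hw)
  -- `u = a n d` centralises `C(V)`
  have hu1 : a * n * d ∈ centralizer (V : Set G) :=
    mul_mem (mul_mem (h.ws_le_centralizer_V hp hp1 haW) (h.ws_le_centralizer_V hx hx1 hnW))
      (h.ws_le_centralizer_V hyV hy1 hdW)
  have hpxy : p * x * y = 1 := by
    rw [hy, ← mul_assoc, mul_assoc p x p, h.ln.comm hx hp, ← mul_assoc, h.ln.sq p hp, one_mul,
      h.ln.sq x hx]
  have hu2 : ∀ t ∈ centralizer (V : Set G), t * (a * n * d) = a * n * d * t := by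
    intro t ht
    apply comm_of_conj_eq
    rcases c.cent_cases ht hx hx1 hn with e | e
    · have e2 := step_b h c hA hx hx1 hp hp1 hxp hn ha ht e
      have e3 := step_b h c hA hx hx1 hyV hy1 (Ne.symm hyx) hn hd ht e
      calc t * (a * n * d) * t⁻¹ = (t * a * t⁻¹) * (t * n * t⁻¹) * (t * d * t⁻¹) := by group
        _ = a * n * d := by rw [e2, e, e3]
    · have hne : t * n * t⁻¹ ≠ n := by
        rw [e]; intro e'; exact hx1 (by simpa using e')
      have e2 : t * a * t⁻¹ = p * a := by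
        rcases c.cent_cases ht hp hp1 ha with e' | e'
        · exact absurd (step_b h c hA hp hp1 hx hx1 (Ne.symm hxp) ha hn ht e') hne
        · exact e'
      have e3 : t * d * t⁻¹ = y * d := by
        rcases c.cent_cases ht hyV hy1 hd with e' | e'
        · exact absurd (step_b h c hA hyV hy1 hx hx1 hyx hd hn ht e') hne
        · exact e'
      calc t * (a * n * d) * t⁻¹ = (t * a * t⁻¹) * (t * n * t⁻¹) * (t * d * t⁻¹) := by group
        _ = p * a * (x * n) * (y * d) := by rw [e2, e, e3]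
        _ = p * (a * x) * (n * y) * d := by group
        _ = p * (x * a) * (y * n) * d := by
            rw [cV x hx p hp hp1 a haW, cV y hyV x hx hx1 n hnW]
        _ = p * x * (a * y) * n * d := by group
        _ = p * x * (y * a) * n * d := by rw [cV y hyV p hp hp1 a haW]
        _ = (p * x * y) * (a * n * d) := by group
        _ = a * n * d := by rw [hpxy, one_mul]
  have husq : a * n * d * (a * n * d) = 1 := by
    calc a * n * d * (a * n * d) = a * n * (d * a) * (n * d) := by group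
      _ = a * (n * a) * d * (n * d) := by rw [← cad]; group
      _ = (a * a) * n * (d * n) * d := by rw [← can]; group
      _ = (a * a) * (n * n) * (d * d) := by rw [← cnd]; group
      _ = 1 := by rw [sa, sn, sd]; simp
  have huV := t6 h.ln hu1 hu2 husq
  -- `k` swaps `n` and `d` and fixes `a`
  have hka : k * a * k⁻¹ = a := conj_eq_of_comm ((mem_nn.mp (c.mem1 hp hp1 ha)).2 k hk)
  have hkk : k * k ∈ centralizer (V : Set G) := by
    refine h.mem_centralizer_of hp hp1 hx hx1 hxp (mul_comm_of (h.kq_p hk) (h.kq_p hk)) ?_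
    apply comm_of_conj_eq
    have hkp : k * p * k⁻¹ = p := conj_eq_of_comm (h.kq_p hk)
    calc k * k * x * (k * k)⁻¹ = k * (k * x * k⁻¹) * k⁻¹ := by group
      _ = k * (p * x) * k⁻¹ := by rw [e1]
      _ = (k * p * k⁻¹) * (k * x * k⁻¹) := by group
      _ = p * (p * x) := by rw [hkp, e1]
      _ = x := by rw [← mul_assoc, h.ln.sq p hp, one_mul]
  have hkd : k * d * k⁻¹ = n := by
    have := hA p hp hp1 x hx hx1 _ (mul_mem hk hk) hkk n hn
    calc k * d * k⁻¹ = k * k * n * (k * k)⁻¹ := by rw [hdd]; group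
      _ = n := this
  have hku : k * (a * n * d) * k⁻¹ = a * n * d := by
    calc k * (a * n * d) * k⁻¹ = (k * a * k⁻¹) * (k * n * k⁻¹) * (k * d * k⁻¹) := by group
      _ = a * d * n := by rw [hka, hkd]
      _ = a * n * d := by rw [mul_assoc, ← cnd, mul_assoc]
  have hnd : n * d = a * (a * n * d) := by
    calc n * d = (a * a) * (n * d) := by rw [sa, one_mul]
      _ = a * (a * n * d) := by group
  rcases h.ln.four hp hx hp1 hx1 (Ne.symm hxp) huV with e | e | e | e
  · rw [hnd, e, mul_one]; exact ha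
  · rw [hnd, e, ← cV p hp p hp hp1 a haW]; exact c.mul1 hp hp1 ha
  · exfalso
    rw [e, e1] at hku
    exact hyx hku
  · exfalso
    rw [e] at hku
    have hkp : k * p * k⁻¹ = p := conj_eq_of_comm (h.kq_p hk)
    have : k * (p * x) * k⁻¹ = x := by
      calc k * (p * x) * k⁻¹ = (k * p * k⁻¹) * (k * x * k⁻¹) := by group
        _ = p * (p * x) := by rw [hkp, e1, hy]
        _ = x := by rw [← mul_assoc, h.ln.sq p hp, one_mul]
    rw [this] at hku
    exact hyx hku.symm

/-- **LEMMA S0** -/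
theorem s0 [Finite G] (h : Fr T V z) (c : CV V nv) (hm : Mn V 2) {p x x' g g' n n' : G} (hp : p ∈ cj g V)
    (hx : x ∈ cj g V) (hp' : p ∈ cj g' V) (hx' : x' ∈ cj g' V) (hp1 : p ≠ 1) (hx1 : x ≠ 1) (hx1' : x' ≠ 1)
    (hxp : x ≠ p) (hxp' : x' ≠ p) (hne : x' ≠ x) (hnp : x' ≠ p * x)
    (hν : x * x' ∈ nn (ws V p) (kq V p)) (hn : nv x (cj g V) n) (hn' : nv x' (cj g' V) n') :
    n * n' ∉ ws V p := by
  intro hw
  set w := n * n' with hwd
  obtain ⟨a, -, -, hf⟩ := h.flag hp hp1
  obtain ⟨a', -, -, hf'⟩ := h.flag hp' hp1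
  have cL := c.cj' g
  have cL' := c.cj' g'
  have hpc : Col V p p := ⟨g, hp, hp, hp1, hp1⟩
  have hpx : Col V p x := ⟨g, hp, hx, hp1, hx1⟩
  have hpx' : Col V p x' := ⟨g', hp', hx', hp1, hx1'⟩
  have hcom : ∀ a b, Col V a b → Com V a b := fun a b hab => hm 1 (by omega) a b (Pth.of_col hab)
  have hnW : n ∈ ws V x := (mem_nn.mp (c.mem _ _ _ hx hx1 hn)).1
  have hnW' : n' ∈ ws V x' := (mem_nn.mp (c.mem _ _ _ hx' hx1' hn')).1
  have hxW : x ∈ ws V p := h.mem_ws_of_col hpx
  have hxW' : x' ∈ ws V p := h.mem_ws_of_col hpx'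
  have hpW : p ∈ ws V p := h.mem_ws_self hpc
  have xx := h.pt_sq hpx.right
  have xx' := h.pt_sq hpx'.right
  have pp := h.pt_sq hpc
  have hνK : ∀ k ∈ kq V p, k * (x * x') = x * x' * k := (mem_nn.mp hν).2
  have hkp : ∀ k ∈ kq V p, k * p = p * k := fun k hk =>
    mem_centralizer_singleton_iff.mp (kq_le_centralizer V p hk)
  -- `k ∈ K_p`: `C(L)` iff `C(L')`
  have hLL' : ∀ k ∈ kq V p, k ∈ centralizer ((cj g V : Subgroup G) : Set G) →
      k ∈ centralizer ((cj g' V : Subgroup G) : Set G) := by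
    intro k hk hkL
    have e1 : k * x = x * k := (mem_centralizer_iff.mp hkL x hx).symm
    have e2 : k * x' = x' * k := by
      have h3 := comm_mul_of (comm_inv_of e1) (hνK k hk)
      rwa [inv_mul_cancel_left] at h3
    exact hf'.mem_centralizer_of hp' hp1 hx' hx1' hxp' (hkp k hk) e2
  have hL'L : ∀ k ∈ kq V p, k ∈ centralizer ((cj g' V : Subgroup G) : Set G) →
      k ∈ centralizer ((cj g V : Subgroup G) : Set G) := by
    intro k hk hkL
    have e1 : k * x' = x' * k := (mem_centralizer_iff.mp hkL x' hx').symm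
    have e2 : k * x = x * k := by
      have h3 := comm_mul_of (hνK k hk) e1
      rwa [mul_assoc, xx', mul_one] at h3
    exact hf.mem_centralizer_of hp hp1 hx hx1 hxp (hkp k hk) e2
  -- (a)
  have hfix : ∀ k ∈ kq V p, k ∈ centralizer ((cj g V : Subgroup G) : Set G) →
      k * n * k⁻¹ = n ∧ k * n' * k⁻¹ = n' := by
    intro k hk hkL
    have e1 := cL.cent_cases hkL hx hx1 hn
    have e2 := cL'.cent_cases (hLL' k hk hkL) hx' hx1' hn'
    have e3 := h.kq_cases' hpc hk hw
    have e4 : k * w * k⁻¹ = (k * n * k⁻¹) * (k * n' * k⁻¹) := by rw [hwd]; group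
    have cx'n : x' * n = n * x' := hcom p x hpx x' hxW' n hnW
    rw [e4] at e3
    rcases e1 with e1 | e1 <;> rcases e2 with e2 | e2
    · exact ⟨e1, e2⟩
    · exfalso
      rw [e1, e2] at e3
      have e5 : n * (x' * n') = x' * w := by rw [hwd, ← mul_assoc, ← cx'n, mul_assoc]
      rw [e5] at e3
      rcases e3 with e | e
      · exact hx1' (by simpa using e)
      · exact hxp' (mul_right_cancel e)
    · exfalso
      rw [e1, e2] at e3
      have e5 : x * n * n' = x * w := by rw [hwd, mul_assoc]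
      rw [e5] at e3
      rcases e3 with e | e
      · exact hx1 (by simpa using e)
      · exact hxp (mul_right_cancel e)
    · exfalso
      rw [e1, e2] at e3
      have e5 : x * n * (x' * n') = x * x' * w := by
        calc x * n * (x' * n') = x * (n * x') * n' := by group
          _ = x * x' * w := by rw [← cx'n, hwd]; group
      rw [e5] at e3
      rcases e3 with e | e
      · have e6 : x * x' = 1 := by simpa using e
        apply hne
        calc x' = x * (x * x') := by rw [← mul_assoc, xx, one_mul]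
          _ = x := by rw [e6, mul_one]
      · have e6 : x * x' = p := mul_right_cancel e
        apply hnp
        calc x' = x * (x * x') := by rw [← mul_assoc, xx, one_mul]
          _ = p * x := by rw [e6, h.ws_comm hpc x hxW p hpW]
  have hA : AA (cj g V) nv := by
    refine aa_of hf cL hp hp1 hx hx1 hxp hn fun k hk hkL => ?_
    rw [kq_cj] at hk
    exact (hfix k hk hkL).1
  have hA' : AA (cj g' V) nv := by
    refine aa_of hf' cL' hp' hp1 hx' hx1' hxp' hn' fun k hk hkL => ?_
    rw [kq_cj] at hk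
    exact (hfix k hk (hL'L k hk hkL)).2
  have hcomL : ∀ g : G, ∀ a ∈ cj g V, ∀ b ∈ cj g V, a ≠ 1 → b ≠ 1 → Com (cj g V) a b := by
    intro g a ha b hb ha1 hb1
    unfold Com
    rw [ws_cj, ws_cj]
    exact hcom a b ⟨g, ha, hb, ha1, hb1⟩
  -- a mover
  obtain ⟨k, hk, hkL⟩ := hf.exists_mover hp hp1
  have e1 := hf.move hp hp1 hx hx1 hxp hk hkL
  have hkV := hk
  rw [kq_cj] at hkV
  have hkL' : k ∉ centralizer ((cj g' V : Subgroup G) : Set G) := fun e => hkL (hL'L k hkV e)
  have hk' : k ∈ kq (cj g' V) p := by rwa [kq_cj]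
  have hα := step_c hf cL hA (hcomL g) hp hp1 hx hx1 hxp hn hk hkL
  have hα' := step_c hf' cL' hA' (hcomL g') hp' hp1 hx' hx1' hxp' hn' hk' hkL'
  set m := k * n * k⁻¹ with hmd
  set m' := k * n' * k⁻¹ with hmd'
  -- `m` commutes with `n'`
  have hmW : m ∈ ws V (p * x) := by
    rw [← e1]
    exact conj_mem_ws k hnW
  have hpxL : p * x ∈ cj g V := mul_mem hp hx
  have hpx1 : p * x ≠ 1 := hf.mul_ne_one hx (Ne.symm hxp)
  have c1 : m * w = w * m := hcom (p * x) p ⟨g, hpxL, hp, hpx1, hp1⟩ m hmW w hw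
  have c2 : m * n = n * m := hcom (p * x) x ⟨g, hpxL, hx, hpx1, hx1⟩ m hmW n hnW
  have c3 : m * n' = n' * m := by
    have h3 := comm_mul_of (comm_inv_of c2) c1
    rw [hwd] at h3
    rwa [inv_mul_cancel_left] at h3
  have hprod : w * (k * w * k⁻¹) = n * m * (n' * m') := by
    calc w * (k * w * k⁻¹) = n * (n' * m) * m' := by rw [hwd, hmd, hmd']; group
      _ = n * m * (n' * m') := by rw [← c3]; group
  have hαW := (mem_nn.mp (c.mem _ _ _ hp hp1 hα)).1
  have sα := h.ws_sq hpc _ hαW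
  have sw := h.ws_sq hpc _ hw
  have haux : ∀ α β : G, α * α = 1 → α * (α * β) = β := fun α β e => by rw [← mul_assoc, e, one_mul]
  have key : n' * m' = n * m ∨ n' * m' = p * (n * m) := by
    rcases h.kq_cases' hpc hkV hw with e | e
    · left
      rw [e, sw] at hprod
      calc n' * m' = n * m * (n * m * (n' * m')) := (haux _ _ sα).symm
        _ = n * m := by rw [← hprod, mul_one]
    · right
      have e5 : w * (p * w) = p := by
        rw [← mul_assoc, h.ws_comm hpc w hw p hpW, mul_assoc, sw, mul_one]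
      rw [e, e5] at hprod
      calc n' * m' = n * m * (n * m * (n' * m')) := (haux _ _ sα).symm
        _ = n * m * p := by rw [← hprod]
        _ = p * (n * m) := h.ws_comm hpc _ hαW p hpW
  have hν' : x⁻¹ * x' ∈ nn (ws V p) (kq V p) := by
    have : x⁻¹ = x := inv_eq_of_mul_eq_one_right xx
    rwa [this]
  rcases c.inj g g' p x x' _ _ hp hx hp' hx' hp1 hx1 hx1' hxp hxp' hν' hα hα' key with e | e
  · exact hne e
  · exact hnp e

end CV

/-- a system of canonical vectors gives a `CV` -/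
theorem Can.cv {T V : Subgroup G} {z : G} {NV : G → Subgroup G → G → Prop} (h : Fr T V z) (hc : Can V NV) :
    CV V NV where
  mem _ _ _ _ _ h3 := hc.mem h3
  mul _ _ _ _ _ h3 := hc.mulx h3
  uniq _ _ _ _ _ _ h3 h4 := hc.uniq h3 h4
  conj c _ _ _ _ _ h3 := hc.conj c h3
  ex _ _ h1 h2 := hc.ex h1 h2
  inj := by
    intro g g' p x x' n n' hp hx hp' hx' hp1 hx1 hx1' hxp hxp' hν hn hn' hnn
    have hpc : Col V p p := ⟨g, hp, hp, hp1, hp1⟩
    have pp := h.pt_sq hpc
    have xx := h.pt_sq (show Col V x x from ⟨g, hx, hx, hx1, hx1⟩)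
    have xx' := h.pt_sq (show Col V x' x' from ⟨g', hx', hx', hx1', hx1'⟩)
    have hzp : ∀ y : G, y ≠ 1 → y ≠ p → y ∉ zpowers p := by
      intro y hy hyp hy'
      rcases (mem_zpowers_iff_of_mul_self pp).mp hy' with e | e
      · exact hy e
      · exact hyp e
    have hν' : x * x' ∈ nn (ws V p) (kq V p) := by
      have e : x⁻¹ = x := inv_eq_of_mul_eq_one_right xx
      rwa [e] at hν
    have h1 := hc.shift hn hn' hp hp' hx hx' (hzp x hx1 hxp) (hzp x' hx1' hxp') hν'
    have hnW := (mem_nn.mp (hc.mem hn)).1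
    have nn1 := h.ws_sq hpc n hnW
    have hpW : p ∈ ws V p := h.mem_ws_self hpc
    have h2 : x * x' ∈ zpowers p := by
      have h3 : n * n' ∈ zpowers p := by
        rcases hnn with e | e
        · rw [e, nn1]; exact one_mem _
        · have : n * n' = p := by
            rw [e, ← mul_assoc, h.ws_comm hpc n hnW p hpW, mul_assoc, nn1, mul_one]
          rw [this]; exact mem_zpowers p
      have h4 := mul_mem (inv_mem h3) h1
      rwa [inv_mul_cancel_left] at h4
    rcases (mem_zpowers_iff_of_mul_self pp).mp h2 with e | e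
    · left
      calc x' = x * (x * x') := by rw [← mul_assoc, xx, one_mul]
        _ = x := by rw [e, mul_one]
    · right
      have hxW : x ∈ ws V p := h.mem_ws_of_col ⟨g, hp, hx, hp1, hx1⟩
      calc x' = x * (x * x') := by rw [← mul_assoc, xx, one_mul]
        _ = p * x := by rw [e, h.ws_comm hpc x hxW p hpW]

/-- **LEMMA S0**, (6) of helper56 #21024 -/
theorem sZero [Finite G] {T V : Subgroup G} {z : G} {NV : G → Subgroup G → G → Prop} (h : Fr T V z)
    (hm : Mn V 2) (hc : Can V NV) : SZero V NV := by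
  intro p x x' g g' n n' hp hx hp' hx' hp1 hx1 hx1' hxp hxp' h1 h2 h3 h4 h5
  exact (hc.cv h).s0 h hm hp hx hp' hx' hp1 hx1 hx1' hxp hxp' h1 h2 h3 h4 h5

end Cfsg.Agent.Omega.NO3S.WZero
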