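import Cfsg.Agent.Omega.NO3S.WZero.Exact

/-!
# The world W0: (1), (2), (3) of #21024 (helper56)

`Can V NV` = canonical vectors.

* `can_fix` : `b ∈ C(x) ∩ N(L)` maps `n_{x,L}` to itself or to `x n_{x,L}`;
* `Wz.one` (1) : `One V NV n`;
* `Wz.two_comm` (2) : `n_{y,L}` and `n_{y',L'}` commute if the lines `L`, `L'` have points at distance `< n`;
* `Wp V NV p` : the group `W'_p` generated by `W_p` and the `n_{x,L}`, `x, p ∈ L`;
* `Wz.wp_comm`, `Wz.wp_sq`, `cj_wp`;
* `Wz.wp_le_o2` (3) : `W'_b ≤ O₂(C_G(W_a))` at distance `< n`;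
* `Wz.wp_le_line` : for a critical pair `(p, q)` with last line `L = {y', q, ..}`: `W'_p ≤ O₂(C_G(L))`.
-/

set_option autoImplicit false

namespace Cfsg.Agent.Omega.NO3S.WZero

open Subgroup Cfsg Cfsg.Agent.ZN Cfsg.Agent.MinSimple.Geo Cfsg.Agent.Omega.CaseL Cfsg.Agent.Omega.NO3S.TwoOne
open Cfsg.Agent.Omega.NO3S.Pt
open Cfsg.Agent.Omega.NO3S.Dual (nn mem_nn DW)
open Cfsg.Agent.ZN.Block (conj_mem_of_normalizer conj_mem_of_normalizer' le_normalizer_of_forall
  mem_normalizer_of)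

universe u

variable {G : Type u} [Group G] {T V : Subgroup G} {z : G} {n : ℕ} {NV : G → Subgroup G → G → Prop}

theorem can_fix (hc : Can V NV) {x c b : G} {L : Subgroup G} (hx : NV x L c) (hb : b * x = x * b)
    (hbL : cj b L = L) : b * c * b⁻¹ = c ∨ b * c * b⁻¹ = x * c := by
  have h1 := hc.conj b hx
  have e : b * x * b⁻¹ = x := by rw [hb]; group
  rw [e, hbL] at h1
  exact hc.uniq hx h1

theorem cj_of_cent {b : G} {L : Subgroup G} (hb : b ∈ centralizer (L : Set G)) : cj b L = L :=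
  cj_eq_of_mem_normalizer (centralizer_le_normalizer _ hb)

theorem can_fix' (hc : Can V NV) {x c b : G} {L : Subgroup G} (hxL : x ∈ L) (hx : NV x L c)
    (hb : b ∈ centralizer (L : Set G)) : b * c * b⁻¹ = c ∨ b * c * b⁻¹ = x * c :=
  can_fix hc hx (mem_centralizer_iff.1 hb x hxL).symm (cj_of_cent hb)

theorem can_ws (hc : Can V NV) {x c : G} {L : Subgroup G} (hx : NV x L c) : c ∈ ws V x :=
  (mem_nn.1 (hc.mem hx)).1

/-- `c b c⁻¹ b⁻¹ ∈ ⟨x⟩` if `b` maps `c` to `c` or `x c` -/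
theorem comm_zpowers_of [Finite G] (h : Fr T V z) {x c b : G} (hx : Col V x x) (hcx : c ∈ ws V x)
    (hb : b * c * b⁻¹ = c ∨ b * c * b⁻¹ = x * c) : c * b * c⁻¹ * b⁻¹ ∈ zpowers x := by
  have hxc : c * x = x * c := h.ws_comm hx c hcx x (h.mem_ws_self hx)
  have e : c * b * c⁻¹ * b⁻¹ = c * (b * c * b⁻¹)⁻¹ := by group
  rw [e]
  rcases hb with e1 | e1
  · rw [e1, mul_inv_cancel]; exact one_mem _
  · rw [e1, ← hxc]
    have e2 : c * (c * x)⁻¹ = c * x⁻¹ * c⁻¹ := by group
    rw [e2]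
    have e3 : c * x⁻¹ * c⁻¹ = x⁻¹ := by
      calc c * x⁻¹ * c⁻¹ = (c * x * c⁻¹)⁻¹ := by group
        _ = x⁻¹ := by rw [hxc]; group
    rw [e3]
    exact inv_mem (mem_zpowers x)

/-- `W_q` centralises a line with a point at distance `< n` -/
theorem ws_le_cent_line (h : Fr T V z) (hm : Mn V n) {g q r : G} (hr : r ∈ cj g V)
    (hk : ∃ k < n, Pth V k q r) : ws V q ≤ centralizer ((cj g V : Subgroup G) : Set G) := by
  obtain ⟨k, hk, hp⟩ := hk
  intro b hb
  rw [mem_centralizer_iff]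
  intro v hv
  exact (hm k hk q r hp b hb v (h.line_le_ws hr hv)).symm

theorem col_of {g x y : G} (hx : x ∈ cj g V) (hx1 : x ≠ 1) (hy : y ∈ cj g V) (hy1 : y ≠ 1) : Col V x y :=
  Col.of_mem hx hy hx1 hy1

/-- **(1)** -/
theorem Wz.one [Finite G] (h : Wz T V z n) (hm : Mn V n) (hc : Can V NV) : One V NV n := by
  intro g q r y c hr hr1 hk hy hy1 hnv b hb
  have hbL := ws_le_cent_line h.fr hm hr hk hb
  obtain ⟨k, hk, hp⟩ := hk
  have hcy := can_ws hc hnv
  have hyy : Col V y y := (col_of hy hy1 hy hy1)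
  have hp' : Pth V n q y := (hp.step (col_of hr hr1 hy hy1)).mono (by omega)
  by_cases hcom : Com V q y
  · exact hcom b hb c hcy
  · have hcr : Cr V n y q := (⟨hp', hcom, hm⟩ : Cr V n q y).symm
    refine (h.X hcr hcy (fun b' hb' => ?_) b hb).symm
    have hbL' := ws_le_cent_line h.fr hm hr ⟨k, hk, hp⟩ hb'
    exact comm_zpowers_of h.fr hyy hcy (can_fix' hc hy hnv hbL')

/-- **(2)**, for the vectors -/
theorem Wz.two_comm [Finite G] (h : Wz T V z n) (hm : Mn V n) (hc : Can V NV) {g g' p q y y' c c' : G}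
    (hp : p ∈ cj g V) (hp1 : p ≠ 1) (hq : q ∈ cj g' V) (hq1 : q ≠ 1) (hk : ∃ k < n, Pth V k p q)
    (hy : y ∈ cj g V) (hy1 : y ≠ 1) (hy' : y' ∈ cj g' V) (hy1' : y' ≠ 1)
    (hnv : NV y (cj g V) c) (hnv' : NV y' (cj g' V) c') : c * c' = c' * c := by
  have hk' : ∃ k < n, Pth V k q p := by
    obtain ⟨k, hk, hpq⟩ := hk
    exact ⟨k, hk, hpq.symm⟩
  -- `c` centralises the line of `c'`
  have h1 : c ∈ centralizer ((cj g' V : Subgroup G) : Set G) := by
    rw [mem_centralizer_iff]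
    intro v hv
    exact h.one hm hc g q p y c hp hp1 hk' hy hy1 hnv v (h.fr.line_le_ws hq hv)
  have h2 : c' ∈ centralizer ((cj g V : Subgroup G) : Set G) := by
    rw [mem_centralizer_iff]
    intro v hv
    exact h.one hm hc g' p q y' c' hq hq1 hk hy' hy1' hnv' v (h.fr.line_le_ws hp hv)
  have hyy : Col V y y := (col_of hy hy1 hy hy1)
  have hyy' : Col V y' y' := (col_of hy' hy1' hy' hy1')
  by_cases hyy1 : y = y'
  · subst hyy1
    exact h.fr.ws_comm hyy c (can_ws hc hnv) c' (can_ws hc hnv')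
  · have h3 := comm_zpowers_of h.fr hyy' (can_ws hc hnv') (can_fix' hc hy' hnv' h1)
    have h4 := comm_zpowers_of h.fr hyy (can_ws hc hnv) (can_fix' hc hy hnv h2)
    have h5 : c * c' * c⁻¹ * c'⁻¹ ∈ zpowers y' := by
      have e : c * c' * c⁻¹ * c'⁻¹ = (c' * c * c'⁻¹ * c⁻¹)⁻¹ := by group
      rw [e]; exact inv_mem h3
    rcases (mem_zpowers_iff_of_mul_self (h.fr.pt_sq hyy)).1 h4 with e | e
    · calc c * c' = (c * c' * c⁻¹ * c'⁻¹) * (c' * c) := by group
        _ = c' * c := by rw [e, one_mul]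
    · rcases (mem_zpowers_iff_of_mul_self (h.fr.pt_sq hyy')).1 h5 with e' | e'
      · calc c * c' = (c * c' * c⁻¹ * c'⁻¹) * (c' * c) := by group
          _ = c' * c := by rw [e', one_mul]
      · exact absurd (e.symm.trans e') hyy1

/-- the vectors `n_{x,L}`, `x, p ∈ L` -/
def gens (V : Subgroup G) (NV : G → Subgroup G → G → Prop) (p : G) : Set G :=
  {a | ∃ g x, p ∈ cj g V ∧ x ∈ cj g V ∧ x ≠ 1 ∧ NV x (cj g V) a}

/-- `W'_p` -/
def Wp (V : Subgroup G) (NV : G → Subgroup G → G → Prop) (p : G) : Subgroup G :=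
  closure (gens V NV p ∪ (ws V p : Set G))

theorem ws_le_wp (V : Subgroup G) (NV : G → Subgroup G → G → Prop) (p : G) : ws V p ≤ Wp V NV p :=
  fun _ ha => subset_closure (Or.inr ha)

theorem mem_wp {p g x a : G} (hp : p ∈ cj g V) (hx : x ∈ cj g V) (hx1 : x ≠ 1) (ha : NV x (cj g V) a) :
    a ∈ Wp V NV p := subset_closure (Or.inl ⟨g, x, hp, hx, hx1, ha⟩)

theorem closure_comm {A B : Set G} (h : ∀ a ∈ A, ∀ b ∈ B, a * b = b * a) :
    ∀ a ∈ closure A, ∀ b ∈ closure B, a * b = b * a := by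
  have h1 : closure A ≤ centralizer B := by
    rw [closure_le]
    intro a ha
    rw [SetLike.mem_coe, mem_centralizer_iff]
    exact fun b hb => (h a ha b hb).symm
  have h2 : closure B ≤ centralizer ((closure A : Subgroup G) : Set G) := by
    rw [closure_le]
    intro b hb
    rw [SetLike.mem_coe, mem_centralizer_iff]
    intro a ha
    exact (mem_centralizer_iff.1 (h1 ha) b hb).symm
  intro a ha b hb
  exact mem_centralizer_iff.1 (h2 hb) a ha

/-- **(2)** : `[W'_p, W'_q] = 1` at distance `< n` -/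
theorem Wz.wp_comm [Finite G] (h : Wz T V z n) (hm : Mn V n) (hc : Can V NV) {p q : G}
    (hk : ∃ k < n, Pth V k p q) : ∀ a ∈ Wp V NV p, ∀ b ∈ Wp V NV q, a * b = b * a := by
  obtain ⟨k, hk, hpq⟩ := id hk
  have hp1 : p ≠ 1 := hpq.left.ne_one
  have hq1 : q ≠ 1 := hpq.right.ne_one
  have hk' : ∃ k < n, Pth V k q p := ⟨k, hk, hpq.symm⟩
  refine closure_comm ?_
  rintro a (⟨g, x, hp, hx, hx1, ha⟩ | ha) b (⟨g', x', hq, hx', hx1', hb⟩ | hb)
  · exact h.two_comm hm hc hp hp1 hq hq1 ⟨k, hk, hpq⟩ hx hx1 hx' hx1' ha hb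
  · exact (h.one hm hc g q p x a hp hp1 hk' hx hx1 ha b hb).symm
  · exact h.one hm hc g' p q x' b hq hq1 ⟨k, hk, hpq⟩ hx' hx1' hb a ha
  · exact hm k hk p q hpq a ha b hb

theorem Wz.wp_comm' [Finite G] (h : Wz T V z n) (hm : Mn V n) (hc : Can V NV) {p : G} (hp : Col V p p) :
    ∀ a ∈ Wp V NV p, ∀ b ∈ Wp V NV p, a * b = b * a :=
  h.wp_comm hm hc ⟨0, by have := h.two; omega, .zero hp⟩

/-- `W'_p` is elementary abelian -/
theorem Wz.wp_sq [Finite G] (h : Wz T V z n) (hm : Mn V n) (hc : Can V NV) {p : G} (hp : Col V p p) :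
    ∀ a ∈ Wp V NV p, a * a = 1 := by
  intro a ha
  induction ha using closure_induction with
  | mem a ha =>
    rcases ha with ⟨g, x, -, hx, hx1, ha⟩ | ha
    · exact h.fr.ws_sq (col_of hx hx1 hx hx1) a (can_ws hc ha)
    · exact h.fr.ws_sq hp a ha
  | one => simp
  | mul a b ha hb h1 h2 =>
    have h3 := h.wp_comm' hm hc hp a ha b hb
    calc a * b * (a * b) = a * (b * a) * b := by group
      _ = a * (a * b) * b := by rw [h3]
      _ = (a * a) * (b * b) := by group
      _ = 1 := by rw [h1, h2, one_mul]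
  | inv a ha h1 =>
    calc a⁻¹ * a⁻¹ = (a * a)⁻¹ := by group
      _ = 1 := by rw [h1, inv_one]

theorem cj_wp_le (hc : Can V NV) (k p : G) : cj k (Wp V NV p) ≤ Wp V NV (k * p * k⁻¹) := by
  have key : Wp V NV p ≤ cj k⁻¹ (Wp V NV (k * p * k⁻¹)) := by
    unfold Wp
    rw [closure_le]
    intro a ha
    rw [SetLike.mem_coe, mem_cj, inv_inv]
    refine subset_closure ?_
    rcases ha with ⟨g, x, hp, hx, hx1, ha⟩ | ha
    · refine Or.inl ⟨k * g, k * x * k⁻¹, ?_, ?_, fun e => hx1 (conj_eq_one_iff.1 e), ?_⟩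
      · rw [← cj_cj]; exact conj_mem_cj hp
      · rw [← cj_cj]; exact conj_mem_cj hx
      · rw [← cj_cj]; exact hc.conj k ha
    · exact Or.inr (conj_mem_ws k ha)
  rwa [cj_le_iff]

/-- `C_G(p)` normalises `W'_p` -/
theorem cent_norm_wp (hc : Can V NV) (p : G) :
    centralizer ({p} : Set G) ≤ normalizer ((Wp V NV p : Subgroup G) : Set G) := by
  refine le_normalizer_of_forall fun k hk a ha => ?_
  have h1 := cj_wp_le hc k p (conj_mem_cj ha)
  have e : k * p * k⁻¹ = p := by rw [mem_centralizer_singleton_iff.1 hk]; group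
  rwa [e] at h1

theorem isPGroup_of_sq {A : Subgroup G} (hA : ∀ a ∈ A, a * a = 1) : IsPGroup 2 A := by
  intro a
  refine ⟨1, ?_⟩
  ext
  simpa [pow_two] using hA a a.2

theorem cent_ws_le (h : Fr T V z) {a : G} (ha : Col V a a) :
    centralizer (ws V a : Set G) ≤ centralizer ({a} : Set G) := by
  intro c hc
  rw [mem_centralizer_singleton_iff]
  exact (mem_centralizer_iff.1 hc a (h.mem_ws_self ha)).symm

/-- **(3)** : `W'_b ≤ O₂(C_G(W_a))` at distance `< n` -/
theorem Wz.wp_le_o2 [Finite G] (h : Wz T V z n) (hm : Mn V n) (hc : Can V NV) :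
    ∀ k < n, ∀ b a, Pth V k b a → Wp V NV b ≤ o2 (centralizer (ws V a : Set G)) := by
  intro k
  induction k with
  | zero =>
    intro _ b a hba
    cases hba with
    | zero hb =>
      refine le_o2 ?_ (isPGroup_of_sq (h.wp_sq hm hc hb)) ?_
      · intro x hx
        rw [mem_centralizer_iff]
        intro w hw
        exact (h.wp_comm' hm hc hb x hx w (ws_le_wp V NV b hw)).symm
      · exact (cent_ws_le h.fr hb).trans (cent_norm_wp hc b)
  | succ k ih =>
    intro hk b a hba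
    have hba0 := hba
    cases hba with
    | @step _ _ y' _ hp c =>
      have h1 := ih (by omega) b y' hp
      have h2 : Wp V NV b ≤ centralizer (ws V a : Set G) := by
        intro x hx
        rw [mem_centralizer_iff]
        intro w hw
        exact (h.wp_comm hm hc ⟨k + 1, hk, hba0⟩ x hx w (ws_le_wp V NV a hw)).symm
      -- `C(W_a) ≤ C(y')` normalises `O₂(C(W_{y'}))`
      have h3 : centralizer (ws V a : Set G) ≤
          normalizer ((o2 (centralizer (ws V y' : Set G)) : Subgroup G) : Set G) := by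
        have h4 : centralizer (ws V a : Set G) ≤ centralizer ({y'} : Set G) := by
          intro x hx
          rw [mem_centralizer_singleton_iff]
          exact (mem_centralizer_iff.1 hx y' (h.fr.mem_ws_of_col c.symm)).symm
        exact ((h4.trans (centralizer_le_normalizer_ws V y')).trans
          (normalizer_le_normalizer_centralizer _)).trans (normalizer_le_normalizer_o2 _)
      refine le_trans (le_inf h1 h2) (le_o2 inf_le_right ((isPGroup_o2 _).to_le inf_le_left) ?_)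
      refine le_normalizer_of_forall fun c hc x hx => ?_
      exact ⟨conj_mem_of_normalizer h3 hc hx.1, conj_mem_cent hc hx.2⟩

/-- `O₂(C_G(W_y)) ≤ O₂(C_G(L))`, `y ∈ L` -/
theorem o2_cent_le_line (h : Fr T V z) {g y : G} (hy : y ∈ cj g V) :
    o2 (centralizer (ws V y : Set G)) ≤ o2 (centralizer ((cj g V : Subgroup G) : Set G)) := by
  have h1 : centralizer (ws V y : Set G) ≤ centralizer ((cj g V : Subgroup G) : Set G) :=
    centralizer_le (h.line_le_ws hy)
  refine le_o2 ((o2_le _).trans h1) (isPGroup_o2 _) ?_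
  have h2 : centralizer ((cj g V : Subgroup G) : Set G) ≤ centralizer ({y} : Set G) := by
    intro c hc
    rw [mem_centralizer_singleton_iff]
    exact (mem_centralizer_iff.1 hc y hy).symm
  exact ((h2.trans (centralizer_le_normalizer_ws V y)).trans
    (normalizer_le_normalizer_centralizer _)).trans (normalizer_le_normalizer_o2 _)

end Cfsg.Agent.Omega.NO3S.WZero
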